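import Cfsg.Agent.SM.L.Defs
import Cfsg.Agent.SM.Sp.Red
import Cfsg.Agent.SM.Mat.Tool
import Cfsg.Agent.S0799
import Cfsg.Agent.S0493
import Cfsg.Agent.ClassicalGeometry.PSL2Solvable

/-!
# SM (S3570), family `fL`: the box `BoxTwo` (helper11)

`PSL₂(q) = X Y` with `X` simple and `X ⊓ Y` not abelian is impossible for `q ≥ 7`, `q ≠ 9`: Dickson's list and orders.
-/

set_option autoImplicit false
set_option maxHeartbeats 400000

namespace Cfsg.Agent.SM.L.Two

open Cfsg Subgroup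
open Cfsg.Agent.ClassicalGeometry.PSL2Basic Cfsg.Agent.ClassicalGeometry.PSL2Solvable

/-- the order of a subfield subgroup -/
def Sub (q x : ℕ) : Prop := ∃ r : ℕ, 2 ≤ r ∧ r ∣ q ∧ r * r ≤ q ∧ x ∣ r * (r ^ 2 - 1)

theorem Sub.le {t x : ℕ} (h : Sub (t + 1) x) : ∃ r : ℕ, r * r ≤ t + 1 ∧ x ≤ r * t := by
  obtain ⟨r, h2, -, h3, h4⟩ := h
  have h5 : 4 ≤ r ^ 2 := by nlinarith
  have h6 : r ^ 2 - 1 ≤ t := by rw [pow_two]; omega
  exact ⟨r, h3, (Nat.le_of_dvd (Nat.mul_pos (by omega) (by omega)) h4).trans (Nat.mul_le_mul_left _ h6)⟩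

theorem twenty {t r : ℕ} (h6 : 6 ≤ t) (hr : r * r ≤ t + 1) (h : (t + 1) * (t * (t + 2)) ≤ 20 * (r * t)) : False := by
  have h1 : t * ((t + 1) * (t + 2)) ≤ t * (20 * r) := by nlinarith
  have h2 : (t + 1) * (t + 2) ≤ 20 * r := Nat.le_of_mul_le_mul_left h1 (by omega)
  rcases Nat.lt_or_ge r 3 with h3 | h3
  · nlinarith
  · have h4 : 3 * r ≤ t + 1 := by nlinarith
    have h5 : 9 ≤ t + 1 := by nlinarith
    nlinarith

/-- the arithmetic -/
theorem num {t g x y a i : ℕ} (h6 : 6 ≤ t) (h8 : t ≠ 8) (hg : g * Nat.gcd 2 t = (t + 1) * (t * (t + 2)))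
    (ha : 6 ≤ a) (hx : a * i = x) (hy : y * i = g) (hxg : x ∣ g) (hX : x = 60 ∨ Sub (t + 1) x)
    (hY : y * Nat.gcd 2 t ≤ 2 * (t + 2) ∨ t + 2 ∣ i ∨ y ≤ 60 ∨ Sub (t + 1) y) : False := by
  have hd : Nat.gcd 2 t ≤ 2 := Nat.gcd_le_left _ (by norm_num)
  have hi : 6 * i ≤ x := hx ▸ Nat.mul_le_mul_right _ ha
  have hix : i ∣ x := Dvd.intro_left _ hx
  have h0 : (t + 1) * (t * (t + 2)) = y * Nat.gcd 2 t * i := by rw [← hg, ← hy]; ring
  have h1 : (t + 1) * (t * (t + 2)) ≤ 2 * (y * i) := by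
    rw [← hg, hy, mul_comm]
    exact Nat.mul_le_mul_right _ hd
  have h2 : y * Nat.gcd 2 t ≤ 2 * (t + 2) → (t + 1) * t ≤ 2 * i := fun h => by
    have h3 : (t + 2) * ((t + 1) * t) ≤ (t + 2) * (2 * i) :=
      calc (t + 2) * ((t + 1) * t) = y * Nat.gcd 2 t * i := by rw [← h0]; ring
        _ ≤ 2 * (t + 2) * i := Nat.mul_le_mul_right _ h
        _ = (t + 2) * (2 * i) := by ring
    exact Nat.le_of_mul_le_mul_left h3 (by omega)
  rcases hX with rfl | hX
  · have h3 : i ≤ 10 := by omega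
    have h4 : 0 < i := Nat.pos_of_dvd_of_pos hix (by norm_num)
    rcases hY with h | h | h | h
    · have h5 := h2 h
      nlinarith
    · have h5 := Nat.le_of_dvd h4 h
      have h7 := h.trans hix
      have h9 : t = 6 ∨ t = 7 := by omega
      rcases h9 with rfl | rfl <;> norm_num at h7
    · have h5 : g ≤ 600 := by nlinarith
      have h7 : t ≤ 9 := by
        by_contra h7
        have h9 : 11 * (10 * 12) ≤ (t + 1) * (t * (t + 2)) :=
          Nat.mul_le_mul (by omega) (Nat.mul_le_mul (by omega) (by omega))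
        omega
      have h9 : t = 6 ∨ t = 7 ∨ t = 9 := by omega
      rcases h9 with rfl | rfl | rfl <;> norm_num at hg <;> omega
    · obtain ⟨r, h5, h7⟩ := h.le
      exact twenty h6 h5 (by nlinarith)
  · obtain ⟨r, h3, h4⟩ := hX.le
    rcases hY with h | h | h | h
    · have h5 := h2 h
      have h7 : t * (3 * (t + 1)) ≤ t * r := by nlinarith
      have h9 : 3 * (t + 1) ≤ r := Nat.le_of_mul_le_mul_left h7 (by omega)
      nlinarith
    · obtain ⟨s, h5, ⟨c, hc⟩, h7, h9⟩ := hX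
      have h10 : Nat.Coprime (t + 2) s := by
        rw [show t + 2 = s * c + 1 by omega]
        simp
      have h11 : t + 2 ∣ s ^ 2 - 1 := h10.dvd_of_dvd_mul_left ((h.trans hix).trans h9)
      have h12 : 4 ≤ s ^ 2 := by nlinarith
      have h13 := Nat.le_of_dvd (by omega) h11
      rw [pow_two] at h13
      omega
    · exact twenty h6 h3 (by nlinarith)
    · obtain ⟨s, h5, h7⟩ := h.le
      have h9 : r * s ≤ t + 1 := by nlinarith
      have h10 : 3 * ((t + 1) * (t * (t + 2))) ≤ (t + 1) * (t * t) :=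
        calc 3 * ((t + 1) * (t * (t + 2))) ≤ y * (6 * i) := by nlinarith
          _ ≤ (s * t) * (r * t) := Nat.mul_le_mul h7 (hi.trans h4)
          _ = (r * s) * (t * t) := by ring
          _ ≤ (t + 1) * (t * t) := Nat.mul_le_mul_right _ h9
      nlinarith

variable {F : Type} [Field F] [Fintype F]

theorem card_borel : Nat.card (borel F) = Fintype.card F * (Fintype.card F - 1) := by
  classical
  have hdet : ∀ c : borel F, (c : Matrix.SpecialLinearGroup (Fin 2) F) 0 0 *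
      (c : Matrix.SpecialLinearGroup (Fin 2) F) 1 1 = 1 := fun c => by
    have h1 : (c : Matrix.SpecialLinearGroup (Fin 2) F) 0 0 * (c : Matrix.SpecialLinearGroup (Fin 2) F) 1 1 -
        (c : Matrix.SpecialLinearGroup (Fin 2) F) 0 1 * (c : Matrix.SpecialLinearGroup (Fin 2) F) 1 0 = 1 := by
      rw [← Matrix.det_fin_two, Matrix.SpecialLinearGroup.det_coe]
    rwa [mem_borel_iff.mp c.2, mul_zero, sub_zero] at h1
  let e : borel F ≃ F × Fˣ :=
    { toFun := fun c => ((c : Matrix.SpecialLinearGroup (Fin 2) F) 0 1,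
        ⟨(c : Matrix.SpecialLinearGroup (Fin 2) F) 0 0, (c : Matrix.SpecialLinearGroup (Fin 2) F) 1 1, hdet c,
          by rw [mul_comm]; exact hdet c⟩)
      invFun := fun z => ⟨⟨!![(z.2 : F), z.1; 0, ((z.2⁻¹ : Fˣ) : F)], by simp [Matrix.det_fin_two]⟩, mem_borel_iff.2 rfl⟩
      left_inv := fun c => by
        refine Subtype.ext (Subtype.ext ?_)
        ext i j
        fin_cases i <;> fin_cases j
        · rfl
        · rfl
        · exact (mem_borel_iff.mp c.2).symm
        · rfl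
      right_inv := fun z => Prod.ext rfl (Units.ext rfl) }
  rw [Nat.card_congr e, Nat.card_prod, Nat.card_units, Nat.card_eq_fintype_card]

theorem sq_sub (t : ℕ) : (t + 1) ^ 2 - 1 = t * (t + 2) := Nat.sub_eq_of_eq_add (by ring)

theorem index_borel : (borel F).index = Fintype.card F + 1 := by
  have h1 := (borel F).card_mul_index
  rw [card_borel, card_SL2] at h1
  obtain ⟨t, ht⟩ : ∃ t, Fintype.card F = t + 2 := ⟨Fintype.card F - 2, by have := Fintype.one_lt_card (α := F); omega⟩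
  rw [ht, sq_sub (t + 1), show t + 2 - 1 = t + 1 from rfl, ← mul_assoc] at h1
  rw [ht]
  exact Nat.eq_of_mul_eq_mul_left (by positivity) h1

theorem dvd_index (p : ℕ) [Fact p.Prime] [CharP F p] (P : Sylow p (Matrix.ProjectiveSpecialLinearGroup (Fin 2) F))
    (K : Subgroup (Matrix.ProjectiveSpecialLinearGroup (Fin 2) F))
    (hK : K ≤ normalizer ((P : Subgroup (Matrix.ProjectiveSpecialLinearGroup (Fin 2) F)) :
      Set (Matrix.ProjectiveSpecialLinearGroup (Fin 2) F))) : Fintype.card F + 1 ∣ K.index := by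
  obtain ⟨g, hg⟩ := exists_le_map_borel p P
  have h1 := index_dvd_of_le (hK.trans hg)
  have h2 : center (Matrix.SpecialLinearGroup (Fin 2) F) ≤ borel F := fun z hz => by
    rcases mem_center_SL2_iff.1 hz with rfl | rfl
    · exact one_mem _
    · exact mem_borel_iff.2 (by simp)
  rwa [index_map_eq _ (MulAut.conj g).surjective (by
      rw [(MonoidHom.ker_eq_bot_iff _).2 (MulAut.conj g).injective]; exact bot_le),
    index_map_eq _ (QuotientGroup.mk'_surjective _) (by rwa [QuotientGroup.ker_mk']), index_borel] at h1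

/-- the orders of the proper subgroups of `PSL₂(q)` -/
theorem ord {t : ℕ} (hF : Fintype.card F = t + 1) (ht : 0 < t) (Z : Subgroup (Matrix.ProjectiveSpecialLinearGroup (Fin 2) F))
    (hZ : Z ≠ ⊤) : (Group.IsSolvable Z ∧ (Nat.card Z * Nat.gcd 2 t ≤ 2 * (t + 2) ∨ t + 2 ∣ Z.index)) ∨
      Nat.card Z ≤ 60 ∨ Sub (t + 1) (Nat.card Z) := by
  obtain ⟨p, hp⟩ := CharP.exists F
  haveI : Fact p.Prime := ⟨CharP.char_is_prime F p⟩
  have hlt : Nat.card Z < Nat.card (Matrix.ProjectiveSpecialLinearGroup (Fin 2) F) :=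
    lt_of_le_of_ne (card_le_card_group Z) fun h => hZ (eq_top_of_card_eq Z h)
  have hdpos : 0 < Nat.gcd 2 t := Nat.gcd_pos_of_pos_left _ (by norm_num)
  rcases Cfsg.Agent.S0799.result hF p Z with ⟨k, hk, h⟩ | ⟨P, K, hK, ⟨e⟩⟩ | ⟨⟨e⟩⟩ | ⟨⟨e⟩⟩ | ⟨⟨e⟩⟩ |
    ⟨K, _, _, m, hm, h⟩
  · have h1 : k * Nat.gcd 2 t ≤ t + 2 := by
      rw [Nat.add_sub_cancel] at hk
      have h2 : Nat.gcd 2 t ≤ t := Nat.gcd_le_right _ ht
      rcases hk with hk | hk
      · exact (Nat.mul_le_mul_right _ (Nat.le_of_dvd (Nat.div_pos (by omega) hdpos) hk)).trans (Nat.div_mul_le_self _ _)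
      · exact ((Nat.mul_le_mul_right _ (Nat.le_of_dvd (Nat.div_pos h2 hdpos) hk)).trans
          (Nat.div_mul_le_self _ _)).trans (by omega)
    rcases h with ⟨hc, h⟩ | ⟨⟨e⟩⟩
    · refine Or.inl ⟨Group.isSolvable_of_comm fun a b => hc.commGroup.mul_comm a b, Or.inl ?_⟩
      rw [h]
      omega
    · have := isSolvable_dihedral k
      refine Or.inl ⟨Group.isSolvable_of_isSolvable_injective (f := e.toMonoidHom) e.injective, Or.inl ?_⟩
      rw [Nat.card_congr e.toEquiv, DihedralGroup.nat_card, mul_assoc]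
      omega
  · have := isSolvable_of_le_normalizer p P K hK
    refine Or.inl ⟨Group.isSolvable_of_isSolvable_injective (f := e.toMonoidHom) e.injective, Or.inr ?_⟩
    have h1 := dvd_index p P K hK
    have h2 : Z.index = K.index := by
      have h3 := Z.card_mul_index.trans K.card_mul_index.symm
      rw [Nat.card_congr e.toEquiv] at h3
      exact Nat.eq_of_mul_eq_mul_left Nat.card_pos h3
    rwa [hF, ← h2] at h1
  · refine Or.inr (Or.inl ?_)
    rw [Nat.card_congr e.toEquiv, nat_card_alternatingGroup]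
    norm_num [Nat.factorial]
  · refine Or.inr (Or.inl ?_)
    rw [Nat.card_congr e.toEquiv, Nat.card_perm, Nat.card_fin]
    norm_num [Nat.factorial]
  · refine Or.inr (Or.inl ?_)
    rw [Nat.card_congr e.toEquiv, nat_card_alternatingGroup]
    norm_num [Nat.factorial]
  · have h1 : ∃ c, 0 < c ∧ c ∣ Nat.gcd 2 (Fintype.card K - 1) ∧
        Nat.card Z * c = Fintype.card K * (Fintype.card K ^ 2 - 1) := by
      rcases h with ⟨⟨e⟩⟩ | ⟨⟨e⟩⟩
      · exact ⟨_, Nat.gcd_pos_of_pos_left _ (by norm_num), dvd_rfl, by rw [Nat.card_congr e.toEquiv, card_PSL2_gcd]⟩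
      · exact ⟨1, one_pos, one_dvd _, by rw [Nat.card_congr e.toEquiv, card_PGL2, mul_one]⟩
    obtain ⟨c, hc, hcd, h1⟩ := h1
    have h2 : 2 ≤ Fintype.card K := Fintype.one_lt_card
    have h3 : 2 ≤ m := by
      by_contra h3
      have h4 : m = 0 ∨ m = 1 := by omega
      rcases h4 with rfl | rfl
      · rw [pow_zero] at hm
        omega
      · rw [pow_one, ← hF] at hm
        rw [hm] at h1 hcd
        have h5 := Nat.le_of_dvd (Nat.gcd_pos_of_pos_left _ (by norm_num)) hcd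
        rw [← card_PSL2_gcd] at h1
        have h6 := Nat.mul_lt_mul_of_lt_of_le hlt h5 (Nat.gcd_pos_of_pos_left _ (by norm_num))
        omega
    refine Or.inr (Or.inr ⟨Fintype.card K, h2, hm ▸ dvd_pow_self _ (by omega), ?_, Dvd.intro _ h1⟩)
    rw [← hm, ← pow_two]
    exact Nat.pow_le_pow_right (by omega) h3

theorem six_le {Γ : Type} [Group Γ] [Finite Γ] {M S H T B : Subgroup Γ} (f : Fac M S H T B) :
    6 ≤ Nat.card ↥(T ⊓ B) := by
  have h0 : 0 < Nat.card ↥(T ⊓ B) := Nat.card_pos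
  have h1 : Nat.card ↥(T ⊓ B) ≠ 1 := fun h => f.nb (card_eq_one.1 h)
  have h2 := f.not_prime
  have h4 := f.not_prime_sq Nat.prime_two
  by_contra h
  generalize Nat.card ↥(T ⊓ B) = a at *
  have h5 : a = 2 ∨ a = 3 ∨ a = 5 := by omega
  rcases h5 with rfl | rfl | rfl <;> norm_num at h2

/-- **`BoxTwo`** -/
theorem boxTwo : BoxTwo := by
  rintro Γ _ _ M S H T B F _ _ f h7 h9 ⟨e⟩
  obtain ⟨t, hF⟩ : ∃ t, Fintype.card F = t + 1 := ⟨Fintype.card F - 1, by omega⟩
  have h := Sp.Rd.fa_map e (Sp.Rd.fa_of f)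
  have ha : 6 ≤ Nat.card ↥((T.subgroupOf S).map e.toMonoidHom ⊓ (B.subgroupOf S).map e.toMonoidHom) := by
    rw [← map_inf _ _ _ e.injective, card_map_of_injective e.injective, ← comap_subtype, ← comap_subtype, ← comap_inf,
      comap_subtype, Nat.card_congr (subgroupOfEquivOfLe (inf_le_left.trans f.le)).toEquiv]
    exact six_le f
  generalize (T.subgroupOf S).map e.toMonoidHom = X at h ha
  generalize (B.subgroupOf S).map e.toMonoidHom = Y at h ha
  have hs := h.simple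
  have hg := card_PSL2_gcd (F := F)
  rw [hF, sq_sub, Nat.add_sub_cancel] at hg
  refine num (by omega) (by omega) hg ha h.pd.card_left Y.card_mul_index X.card_subgroup_dvd_card ?_ ?_
  · rcases ord hF (by omega) X h.neX with ⟨h1, -⟩ | h1 | h1
    · exact absurd ⟨⟨fun a b => IsSimpleGroup.comm_iff_isSolvable.2 h1 a b⟩⟩ h.nab
    · exact Or.inl (Cfsg.Agent.S0493.result (fun hc => h.nab hc.isMulCommutative) (by omega))
    · exact Or.inr h1
  · rcases ord hF (by omega) Y h.neY with ⟨-, h1 | h1⟩ | h1 | h1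
    · exact Or.inl h1
    · exact Or.inr (Or.inl h1)
    · exact Or.inr (Or.inr (Or.inl h1))
    · exact Or.inr (Or.inr (Or.inr h1))

end Cfsg.Agent.SM.L.Two
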