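import Cfsg.Agent.SM.Defs
import Cfsg.Agent.H851.Rl.PDefs
import Cfsg.Agent.H199.PslAut

/-!
# SM (S3570), family `fL` (`S = PSL_n(q)`): definitions and boxes (helper18, plan in `notes/SM/linear.md`)

Everything happens in `SL_n(F) ≤ GL_n(F)`; `R` is the preimage of `T`, `C` the preimage of `B ⊓ S`.
-/

set_option autoImplicit false

namespace Cfsg.Agent.SM.L

open Cfsg Cfsg.Geo Matrix Equiv
open Cfsg.Agent.H851.Rl (pg)
open Cfsg.Agent.H199.PslAut (mapGL itGL)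
open scoped MatrixGroups

section defs

variable {n : ℕ} {F : Type} [Field F]

/-- `x` fixes the point `⟨v⟩` -/
def FixP (x : GL (Fin n) F) (v : Fin n → F) : Prop := ∃ c : F, (x : Matrix (Fin n) (Fin n) F) *ᵥ v = c • v

/-- `x` fixes the hyperplane `φ ⬝ᵥ w = 0` -/
def FixH (x : GL (Fin n) F) (φ : Fin n → F) : Prop := ∃ c : F, φ ᵥ* (x : Matrix (Fin n) (Fin n) F) = c • φ

/-- `x` is an isometry of `f` -/
def Iso (f : (Fin n → F) → (Fin n → F) → F) (x : GL (Fin n) F) : Prop :=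
  ∀ u w, f ((x : Matrix (Fin n) (Fin n) F) *ᵥ u) ((x : Matrix (Fin n) (Fin n) F) *ᵥ w) = f u w

/-- transitive on the points -/
def Tr (Y : Subgroup (GL (Fin n) F)) : Prop :=
  ∀ v w : Fin n → F, v ≠ 0 → w ≠ 0 → ∃ x ∈ Y, ∃ c : F, (x : Matrix (Fin n) (Fin n) F) *ᵥ v = c • w

/-- normalises a field of prime degree -/
def Ext (Y : Subgroup (GL (Fin n) F)) : Prop :=
  ∃ (s : ℕ) (K : Subalgebra F (Matrix (Fin n) (Fin n) F)), s.Prime ∧ s ∣ n ∧ IsFieldSubalgebra s K ∧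
    Y ≤ subalgebraNormalizer K

/-- consists of similarities of a symplectic form -/
def Sym (Y : Subgroup (GL (Fin n) F)) : Prop :=
  ∃ f : (Fin n → F) → (Fin n → F) → F, IsSymplecticForm f ∧ Y ≤ similarityGroup f

/-- `SL_n(F) = X Y` -/
structure Pd2 (X Y : Subgroup (GL (Fin n) F)) : Prop where
  left : X ≤ specialLinear (Fin n) F
  right : Y ≤ specialLinear (Fin n) F
  mul : ∀ g ∈ specialLinear (Fin n) F, ∃ x ∈ X, ∃ y ∈ Y, g = x * y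

/-- `X` fixes at most the point `⟨v⟩` and the hyperplane `φ` (not through `v`), and it fixes one of them -/
def Red (X : Subgroup (GL (Fin n) F)) : Prop :=
  ∃ v φ : Fin n → F, φ ⬝ᵥ v ≠ 0 ∧ (∀ w, w ≠ 0 → (∀ x ∈ X, FixP x w) → ∃ c : F, w = c • v) ∧
    (∀ ψ, ψ ≠ 0 → (∀ x ∈ X, FixH x ψ) → ∃ c : F, ψ = c • φ) ∧ ((∀ x ∈ X, FixP x v) ∨ ∀ x ∈ X, FixH x φ)

/-- the automorphisms of `GL_n(F)` that induce the automorphisms of `PSL_n(F)` -/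
def Tw (τ : GL (Fin n) F →* GL (Fin n) F) : Prop :=
  ∃ (a : GL (Fin n) F) (σ : F ≃+* F), (∀ x, τ x = a * mapGL σ x * a⁻¹) ∨ ∀ x, τ x = a * mapGL σ (itGL x) * a⁻¹

/-- `τ(I) = I` -/
def Inv (τ : GL (Fin n) F →* GL (Fin n) F) (I : Subgroup (GL (Fin n) F)) : Prop := ∀ x, x ∈ I ↔ τ x ∈ I

/-- The factorisation in matrix form. -/
structure MF (R C : Subgroup (GL (Fin n) F)) : Prop where
  pd : Pd2 R C
  zR : scalars (Fin n) F ⊓ specialLinear (Fin n) F ≤ R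
  zC : scalars (Fin n) F ⊓ specialLinear (Fin n) F ≤ C
  neR : ¬ specialLinear (Fin n) F ≤ R
  neC : ¬ specialLinear (Fin n) F ≤ C
  /-- `T` is simple -/
  simp : ∀ N : Subgroup (GL (Fin n) F), N ≤ R → (∀ x ∈ R, ∀ y ∈ N, x * y * x⁻¹ ∈ N) →
    N ≤ scalars (Fin n) F ∨ ∀ x ∈ R, ∃ y ∈ N, ∃ z ∈ scalars (Fin n) F, x = y * z
  /-- `T` is not abelian -/
  nab : ∃ x ∈ R, ∃ y ∈ R, x * y * x⁻¹ * y⁻¹ ∉ scalars (Fin n) F
  /-- the centraliser of `T` in `S` is trivial -/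
  cen : ∀ g ∈ specialLinear (Fin n) F, (∀ x ∈ R, g * x = x * g) → g ∈ scalars (Fin n) F
  /-- `T ⊓ B ≠ 1` -/
  nb : ¬ R ⊓ C ≤ scalars (Fin n) F
  /-- `H` is maximal in `M` -/
  invR : ∀ I : Subgroup (GL (Fin n) F), I ≤ specialLinear (Fin n) F → ¬ specialLinear (Fin n) F ≤ I →
    scalars (Fin n) F ⊓ specialLinear (Fin n) F ≤ I → ¬ I ≤ scalars (Fin n) F →
    (∀ τ, Tw τ → Inv τ R → ∀ x ∈ I, τ x ∈ I) → ∀ g ∈ I, ∀ x ∈ R, g * x * g⁻¹ ∈ R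
  /-- `B` is maximal in `M` -/
  invC : ∀ I : Subgroup (GL (Fin n) F), I ≤ specialLinear (Fin n) F → ¬ specialLinear (Fin n) F ≤ I →
    scalars (Fin n) F ⊓ specialLinear (Fin n) F ≤ I → ¬ I ≤ scalars (Fin n) F →
    (∀ τ, Tw τ → Inv τ C → ∀ x ∈ I, τ x ∈ I) → I ≤ C
  /-- `H ⊓ B` is maximal in `H` -/
  invA : ∀ I : Subgroup (GL (Fin n) F), I ≤ R → ¬ R ≤ I →
    scalars (Fin n) F ⊓ specialLinear (Fin n) F ≤ I → ¬ I ≤ scalars (Fin n) F →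
    (∀ τ, Tw τ → Inv τ R → Inv τ C → ∀ x ∈ I, τ x ∈ I) → I ≤ C

/-- row A: `T = PSp(f)` on the points -/
structure RowA (R C : Subgroup (GL (Fin n) F)) (f : (Fin n → F) → (Fin n → F) → F) (v : Fin n → F) : Prop where
  four : 4 ≤ n
  sym : IsSymplecticForm f
  ne : v ≠ 0
  memR : ∀ x, x ∈ R ↔ x ∈ specialLinear (Fin n) F ∧ ∃ y, Iso f y ∧ ∃ z ∈ scalars (Fin n) F, x = y * z
  memC : ∀ x, x ∈ C ↔ x ∈ specialLinear (Fin n) F ∧ FixP x v

/-- row B (`n = 4`, `q = 3`): `T = L₃(3)` is the stabiliser of an antiflag, `B ⊓ S = PGSp(f) ⊓ S` -/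
structure RowB (R C : Subgroup (GL (Fin n) F)) (f : (Fin n → F) → (Fin n → F) → F) (v φ : Fin n → F) : Prop where
  sym : IsSymplecticForm f
  ne : φ ⬝ᵥ v ≠ 0
  memR : ∀ x, x ∈ R ↔ x ∈ specialLinear (Fin n) F ∧ FixP x v ∧ FixH x φ
  memC : ∀ x, x ∈ C ↔ x ∈ specialLinear (Fin n) F ∧ x ∈ similarityGroup f

end defs

/-! ### the boxes -/

/-- Hering's theorem in matrix form -/
def BoxHer : Prop := ∀ (F : Type) [Field F] [Fintype F] (n : ℕ) (Y : Subgroup (GL (Fin n) F)), 3 ≤ n →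
  ¬ (n = 4 ∧ Fintype.card F = 2) → Y ≤ specialLinear (Fin n) F → ¬ specialLinear (Fin n) F ≤ Y → Tr Y → Ext Y ∨ Sym Y

/-- the partner of a geometric factor, even dimension -/
def BoxK1 : Prop := ∀ (F : Type) [Field F] [Fintype F] (n : ℕ) (X Y : Subgroup (GL (Fin n) F)), 4 ≤ n → Even n →
  ¬ (n = 4 ∧ Fintype.card F = 2) → Pd2 X Y → Ext Y ∨ Sym Y → ¬ specialLinear (Fin n) F ≤ X → Red X

/-- the partner of a geometric factor, odd dimension (`X` not solvable, `O_p(X) = 1`) -/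
def BoxK2 : Prop := ∀ (F : Type) [Field F] [Fintype F] (n : ℕ) (X Y : Subgroup (GL (Fin n) F)), 3 ≤ n → Odd n →
  Pd2 X Y → Ext Y → ¬ specialLinear (Fin n) F ≤ X → ¬ Group.IsSolvable X →
  (∀ N : Subgroup (GL (Fin n) F), N ≤ X → (∀ x ∈ X, ∀ y ∈ N, x * y * x⁻¹ ∈ N) → IsPGroup (ringChar F) N → N = ⊥) → Red X

/-- the form of a point transitive group is unique -/
def BoxU : Prop := ∀ (F : Type) [Field F] [Fintype F] (n : ℕ) (Y : Subgroup (GL (Fin n) F))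
  (f f' : (Fin n → F) → (Fin n → F) → F), Tr Y → ¬ Ext Y → IsSymplecticForm f → IsSymplecticForm f' →
  Y ≤ similarityGroup f → Y ≤ similarityGroup f' → ∃ c : F, ∀ u w, f' u w = c * f u w

/-- a group that normalises a field and is transitive on the antiflags -/
def BoxAF : Prop := ∀ (F : Type) [Field F] [Fintype F] (n s : ℕ) (K : Subalgebra F (Matrix (Fin n) (Fin n) F))
  (Y : Subgroup (GL (Fin n) F)) (v φ : Fin n → F), s.Prime → IsFieldSubalgebra s K → Y ≤ subalgebraNormalizer K →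
  φ ⬝ᵥ v ≠ 0 → (∀ ψ : Fin n → F, ψ ⬝ᵥ v ≠ 0 → ∃ y ∈ Y, FixP y v ∧ ∃ c : F, ψ ᵥ* (y : Matrix (Fin n) (Fin n) F) = c • φ) →
  Fintype.card F = 2 ∧ s = 2

/-- dimension two: no row -/
def BoxTwo : Prop := ∀ (Γ : Type) [Group Γ] [Finite Γ] (M S H T B : Subgroup Γ) (F : Type) [Field F] [Fintype F],
  Fac M S H T B → 7 ≤ Fintype.card F → Fintype.card F ≠ 9 →
  Nonempty (S ≃* Matrix.ProjectiveSpecialLinearGroup (Fin 2) F) → False

/-- the factor `B` fixes a point -/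
def BoxP : Prop := ∀ (F : Type) [Field F] [Fintype F] (n : ℕ) (R C : Subgroup (GL (Fin n) F)) (v : Fin n → F), 3 ≤ n →
  ¬ (n = 4 ∧ Fintype.card F = 2) → MF R C → v ≠ 0 → (∀ x ∈ C, FixP x v) → ∃ f, RowA R C f v

/-- the factor `T` fixes a point -/
def BoxQ : Prop := ∀ (F : Type) [Field F] [Fintype F] (n : ℕ) (R C : Subgroup (GL (Fin n) F)) (v : Fin n → F), 3 ≤ n →
  ¬ (n = 4 ∧ Fintype.card F = 2) → MF R C → v ≠ 0 → (∀ x ∈ R, FixP x v) →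
  n = 4 ∧ Fintype.card F = 3 ∧ ∃ f φ, RowB R C f v φ

/-- rigidity of row A -/
def BoxRA : Prop := ∀ (Ω : Type) [Fintype Ω] [DecidableEq Ω] (T : Subgroup (Perm Ω)), ∃ Y : Subgroup (Perm Ω),
  ∀ (X H M S : Subgroup (Perm Ω)) (F : Type) [Field F] [Fintype F] (n : ℕ)
    (e : S ≃* Matrix.ProjectiveSpecialLinearGroup (Fin n) F) (a : Ω) (f : (Fin n → F) → (Fin n → F) → F) (v : Fin n → F),
    Up X H T M S → RowA (pg e T) (pg e (M ⊓ MulAction.stabilizer (Perm Ω) a)) f v →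
    M ≤ Y ∧ ¬ alternatingGroup Ω ≤ Y ∧ ∃ m, n = 2 * m ∧
      Fintype.card Ω * (Fintype.card F - 1) = Fintype.card F ^ (2 * m) - 1 ∧
      Nat.card T * Nat.gcd 2 (Fintype.card F - 1) =
        Fintype.card F ^ (m ^ 2) * ∏ i ∈ Finset.range m, (Fintype.card F ^ (2 * (i + 1)) - 1)

/-- rigidity of row B -/
def BoxRB : Prop := ∀ (Ω : Type) [Fintype Ω] [DecidableEq Ω] (T : Subgroup (Perm Ω)), ∃ Y : Subgroup (Perm Ω),
  ∀ (X H M S : Subgroup (Perm Ω)) (F : Type) [Field F] [Fintype F]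
    (e : S ≃* Matrix.ProjectiveSpecialLinearGroup (Fin 4) F) (a : Ω) (f : (Fin 4 → F) → (Fin 4 → F) → F) (v φ : Fin 4 → F),
    Fintype.card F = 3 → Up X H T M S → RowB (pg e T) (pg e (M ⊓ MulAction.stabilizer (Perm Ω) a)) f v φ →
    M ≤ Y ∧ ¬ alternatingGroup Ω ≤ Y ∧ Fintype.card Ω = 117 ∧ Nat.card T = 5616

/-- the table of the family `fL` -/
def tabL : Tab := fun t d k => k = 1 ∧
  ((∃ q m : ℕ, IsPrimePow q ∧ 2 ≤ m ∧ ¬ (q = 2 ∧ m = 2) ∧ d * (q - 1) = q ^ (2 * m) - 1 ∧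
      t * Nat.gcd 2 (q - 1) = q ^ (m ^ 2) * ∏ i ∈ Finset.range m, (q ^ (2 * (i + 1)) - 1)) ∨
    (t = 5616 ∧ d = 117))

end Cfsg.Agent.SM.L
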