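import Cfsg.Agent.SM.L.Q
import Cfsg.Agent.SM.Fac
import Cfsg.Agent.S0252
import Cfsg.Agent.S0253
import Cfsg.Agent.S0254
import Cfsg.Agent.S0256

/-!
# SM/L: the bound for the family `fL` from the boxes (helper18)
-/

set_option autoImplicit false
set_option linter.unusedSectionVars false

namespace Cfsg.Agent.SM.L

open Cfsg Cfsg.Geo Matrix Equiv
open Cfsg.Agent.H851.Rl (pg)
open Cfsg.Agent.H199.PslAut
open Cfsg.Agent.ClassicalGeometry.AutPSL.Auto (itr coe_itr)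
open scoped MatrixGroups

theorem MF.fix (hH : BoxHer) (hK : BoxK1) (hK' : BoxK2) {n : ℕ} {F : Type} [Field F] [Fintype F]
    {R C : Subgroup (GL (Fin n) F)} (h : MF R C) (hn : 3 ≤ n) (h42 : ¬ (n = 4 ∧ Fintype.card F = 2)) : Red C ∨ Red R := by
  have hev : ∀ {Y : Subgroup (GL (Fin n) F)}, Sym Y → Even n := fun ⟨f, hf, _⟩ => let ⟨m, hm, _⟩ := sp_iso hf; ⟨m, by omega⟩
  rcases h.pd.tr hn with ht | ht
  · have hS := (hH F n R hn h42 h.pd.left h.neR ht).resolve_left h.not_ext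
    obtain ⟨m, hm⟩ := hev hS
    exact Or.inl (hK F n C R (by omega) ⟨m, hm⟩ h42 h.pd.symm (Or.inr hS) h.neC)
  · have hES := hH F n C hn h42 h.pd.right h.neC ht
    rcases Nat.even_or_odd n with he | ho
    · exact Or.inr (hK F n R C (by obtain ⟨m, hm⟩ := he; omega) he h42 h.pd hES h.neR)
    · exact Or.inr (hK' F n R C hn ho h.pd (hES.resolve_right fun e => Nat.not_even_iff_odd.2 ho (hev e)) h.neR
        (h.not_solv fun x hx => ⟨x, hx, 1, Subgroup.one_mem _, (mul_one x).symm⟩) h.noP)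

theorem Red.fix {n : ℕ} {F : Type} [Field F] {X : Subgroup (GL (Fin n) F)} (h : Red X) :
    ∃ v : Fin n → F, v ≠ 0 ∧ ((∀ x ∈ X, FixP x v) ∨ ∀ x ∈ X, FixH x v) := by
  obtain ⟨v, φ, h1, -, -, h2 | h2⟩ := h
  · exact ⟨v, fun e => h1 (by rw [e, dotProduct_zero]), Or.inl h2⟩
  · exact ⟨φ, fun e => h1 (by rw [e, zero_dotProduct]), Or.inr h2⟩

/-- the dual model -/
theorem pg_dual {Γ : Type} [Group Γ] {S : Subgroup Γ} {n : ℕ} {F : Type} [Field F]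
    (e : S ≃* Matrix.ProjectiveSpecialLinearGroup (Fin n) F) {X : Subgroup Γ} {x : GL (Fin n) F}
    (hx : x ∈ pg (e.trans (iot n F).symm) X) : itGL x ∈ pg e X := by
  have h1 := pg_le _ X hx
  rw [mem_pg' _ h1] at hx
  rw [mem_pg' e ((it_sl x).2 h1)]
  have h2 : toSL ⟨itGL x, (it_sl x).2 h1⟩ = itr (toSL ⟨x, h1⟩) := by
    apply Subtype.ext
    change ((itGL x : GL (Fin n) F) : Matrix (Fin n) (Fin n) F) = _
    rw [coe_itGL, coe_itr, ← map_inv]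
    rfl
  rw [pj_apply, h2]
  exact hx

theorem rows (hH : BoxHer) (hK : BoxK1) (hK' : BoxK2) (h2 : BoxTwo) {Γ : Type} [Group Γ] [Finite Γ] {M S H T B : Subgroup Γ}
    (f : Fac M S H T B) (hS : fL S) : ∃ (F : Type) (_ : Field F) (_ : Fintype F),
    (∃ (n : ℕ) (e : S ≃* Matrix.ProjectiveSpecialLinearGroup (Fin n) F), ¬ (n = 4 ∧ Fintype.card F = 2) ∧
      ∃ g v, RowA (pg e T) (pg e B) g v) ∨
    (Fintype.card F = 3 ∧ ∃ e : S ≃* Matrix.ProjectiveSpecialLinearGroup (Fin 4) F, ∃ g v φ, RowB (pg e T) (pg e B) g v φ) := by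
  obtain ⟨⟨F, _, _, n, hn, h4, ⟨e⟩⟩, hA⟩ := hS
  have alt : ∀ k, 5 ≤ k → ¬ Nonempty (Matrix.ProjectiveSpecialLinearGroup (Fin n) F ≃* alternatingGroup (Fin k)) :=
    fun k hk ⟨e'⟩ => hA ⟨k, hk, ⟨e.trans e'⟩⟩
  rcases hn.eq_or_lt with rfl | hn3
  · have h5 := h4 rfl
    have h6 : Fintype.card F ≠ 6 := fun h => absurd (h ▸ FiniteField.isPrimePow_card F) (by decide)
    have k4 : Fintype.card F ≠ 4 := fun h => alt 5 le_rfl (S0252.result h)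
    have k5 : Fintype.card F ≠ 5 := fun h => alt 5 le_rfl (S0253.result h)
    exact (h2 Γ M S H T B F f (by omega) (fun h => alt 6 (by omega) (S0254.result h)) ⟨e⟩).elim
  have h42 : ¬ (n = 4 ∧ Fintype.card F = 2) := by
    rintro ⟨rfl, h⟩
    exact alt 8 (by omega) (S0256.result h)
  have key : ∃ (e : S ≃* Matrix.ProjectiveSpecialLinearGroup (Fin n) F) (v : Fin n → F), v ≠ 0 ∧
      ((∀ x ∈ pg e B, FixP x v) ∨ ∀ x ∈ pg e T, FixP x v) := by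
    rcases (mf_of_fac e hn f).fix hH hK hK' hn3 h42 with h | h
    · obtain ⟨v, hv, h | h⟩ := h.fix
      · exact ⟨e, v, hv, Or.inl h⟩
      · exact ⟨_, v, hv, Or.inl fun x hx => fixP_iff.2 (h _ (pg_dual e hx))⟩
    · obtain ⟨v, hv, h | h⟩ := h.fix
      · exact ⟨e, v, hv, Or.inr h⟩
      · exact ⟨_, v, hv, Or.inr fun x hx => fixP_iff.2 (h _ (pg_dual e hx))⟩
  obtain ⟨e', v, hv, h | h⟩ := key
  · obtain ⟨g, hg⟩ := boxP_of hH hK F n _ _ v hn3 h42 (mf_of_fac e' hn f) hv h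
    exact ⟨F, inferInstance, inferInstance, Or.inl ⟨n, e', h42, g, v, hg⟩⟩
  · obtain ⟨rfl, h3, g, φ, hg⟩ := boxQ_of hH hK hK' F n _ _ v hn3 h42 (mf_of_fac e' hn f) hv h
    exact ⟨F, inferInstance, inferInstance, Or.inr ⟨h3, e', g, v, φ, hg⟩⟩

theorem not_117 {q m : ℕ} (hq : 2 ≤ q) (hm : 2 ≤ m) : 117 * (q - 1) ≠ q ^ (2 * m) - 1 := fun h => by
  have h1 : q ^ 2 ≤ q ^ m := Nat.pow_le_pow_right (by omega) hm
  have h2 : q ^ (2 * m) = q ^ m * q ^ m := by rw [two_mul, pow_add]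
  rw [h2] at h
  generalize q ^ m = s at h h1
  have h3 : q ≤ 4 := by
    by_contra h3
    have h4 : 25 * q ≤ 5 * s := by nlinarith
    have h5 : 125 * q ≤ s * s := by nlinarith
    omega
  have h4 : s ≤ 19 := by
    by_contra h4
    have h5 : 20 * 20 ≤ s * s := Nat.mul_le_mul (by omega) (by omega)
    omega
  interval_cases q <;> interval_cases s <;> omega

/-- **The family `fL`.** -/
theorem bnd_of (hH : BoxHer) (hK : BoxK1) (hK' : BoxK2) (h2 : BoxTwo) (hA : BoxRA) (hB : BoxRB) : Bnd fL tabL := by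
  intro Ω _ _ X H T ⟨M₀, S₀, u₀, k₀⟩
  obtain ⟨YA, hYA⟩ := hA Ω T
  obtain ⟨YB, hYB⟩ := hB Ω T
  have : Nonempty Ω := Fintype.card_pos_iff.1 (by have := u₀.two; omega)
  obtain ⟨a⟩ := this
  have key : ∀ M ∈ OvP fL X H T, M ∈ Ov X H ∧
      ((M ≤ YA ∧ ¬ alternatingGroup Ω ≤ YA ∧ ∃ q m : ℕ, IsPrimePow q ∧ 2 ≤ m ∧ ¬ (q = 2 ∧ m = 2) ∧
        Fintype.card Ω * (q - 1) = q ^ (2 * m) - 1 ∧
        Nat.card T * Nat.gcd 2 (q - 1) = q ^ (m ^ 2) * ∏ i ∈ Finset.range m, (q ^ (2 * (i + 1)) - 1)) ∨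
      (M ≤ YB ∧ ¬ alternatingGroup Ω ≤ YB ∧ Fintype.card Ω = 117 ∧ Nat.card T = 5616)) := by
    rintro M ⟨S, u, k⟩
    refine ⟨u.ov, ?_⟩
    obtain ⟨F, _, _, ⟨n, e, h42, g, v, r⟩ | ⟨h3, e, g, v, φ, r⟩⟩ := rows hH hK hK' h2 (u.fac a) k
    · obtain ⟨h1, h3, m, hm, h4, h5⟩ := hYA X H M S F n e a g v u r
      have := r.four
      exact Or.inl ⟨h1, h3, _, m, FiniteField.isPrimePow_card F, by omega, fun h => h42 ⟨by omega, h.1⟩, h4, h5⟩
    · exact Or.inr (hYB X H M S F e a g v φ h3 u r)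
  refine ⟨1, ⟨rfl, (key M₀ ⟨S₀, u₀, k₀⟩).2.imp (fun h => h.2.2) fun h => ⟨h.2.2.2, h.2.2.1⟩⟩, ?_⟩
  by_cases hd : Fintype.card Ω = 117
  · refine u₀.sec.ncard_le_of_cover ![YB] fun M hM => ⟨(key M hM).1, 0, ?_⟩
    rcases (key M hM).2 with ⟨-, -, q, m, h1, h3, -, h4, -⟩ | h
    · exact (not_117 h1.two_le h3 (hd ▸ h4)).elim
    · exact ⟨h.1, h.2.1⟩
  · refine u₀.sec.ncard_le_of_cover ![YA] fun M hM => ⟨(key M hM).1, 0, ?_⟩
    rcases (key M hM).2 with h | h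
    · exact ⟨h.1, h.2.1⟩
    · exact (hd h.2.2.1).elim

end Cfsg.Agent.SM.L
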