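import Cfsg.Agent.SM.L.P
import Cfsg.Agent.H55.FC.T3

/-!
# SM/L: the group `SL(W)` of an antiflag; the factor `T` fixes a point, first steps (helper18)

* `slW v φ`, `slW_le` (a non-abelian subgroup normalised by `SL(W)`, `dim W ≥ 3`, is `SL(W)`)
* `MF.fixH` (`T` is not normalised by a parabolic), `MF.slW_le`, `MF.hullA`, `MF.not_extC`
-/

set_option autoImplicit false
set_option linter.unusedSectionVars false

namespace Cfsg.Agent.SM.L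

open Cfsg Cfsg.Geo Matrix
open Cfsg.Agent.H873 (tv tv_mulVec coe_tv tv_mem_specialLinear gl_ext one_add_mulVec)
open Cfsg.Agent.S5642 (rep rep_dot dot_ext)
open scoped MatrixGroups

variable {n : ℕ} {F : Type} [Field F] {R C : Subgroup (GL (Fin n) F)} {v φ : Fin n → F}

/-- the elements of `SL` that fix the vector `v` and the functional `φ` -/
def slW (v φ : Fin n → F) : Subgroup (GL (Fin n) F) where
  carrier := {x | x ∈ specialLinear (Fin n) F ∧ (x : Matrix (Fin n) (Fin n) F) *ᵥ v = v ∧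
    ∀ w, φ ⬝ᵥ ((x : Matrix (Fin n) (Fin n) F) *ᵥ w) = φ ⬝ᵥ w}
  one_mem' := ⟨Subgroup.one_mem _, by rw [Units.val_one, one_mulVec], fun w => by rw [Units.val_one, one_mulVec]⟩
  mul_mem' := fun {x y} hx hy => ⟨Subgroup.mul_mem _ hx.1 hy.1, by rw [mul_mv, hy.2.1, hx.2.1],
    fun w => by rw [mul_mv, hx.2.2, hy.2.2]⟩
  inv_mem' := fun {x} hx => ⟨Subgroup.inv_mem _ hx.1, mv_inj x (by rw [mv_inv, hx.2.1]), fun w => by rw [← hx.2.2, mv_inv]⟩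

theorem fixH_iff' {x : GL (Fin n) F} : FixH x φ ↔ ∃ c : F, ∀ w, φ ⬝ᵥ ((x : Matrix (Fin n) (Fin n) F) *ᵥ w) = c * (φ ⬝ᵥ w) :=
  exists_congr fun c => ⟨fun h w => by rw [dotProduct_mulVec, h, smul_dotProduct, smul_eq_mul],
    fun h => dot_ext fun w => by rw [← dotProduct_mulVec, h, smul_dotProduct, smul_eq_mul]⟩

theorem slW_fix {x : GL (Fin n) F} (h : x ∈ slW v φ) : x ∈ specialLinear (Fin n) F ∧ FixP x v ∧ FixH x φ :=
  ⟨h.1, ⟨1, by rw [h.2.1, one_smul]⟩, fixH_iff'.2 ⟨1, fun w => by rw [h.2.2, one_mul]⟩⟩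

/-- an element fixing the antiflag acts by the same scalar on `v` and `φ` -/
theorem fix_both (hφ : φ ⬝ᵥ v ≠ 0) {x : GL (Fin n) F} (h1 : FixP x v) (h2 : FixH x φ) : ∃ c : F, c ≠ 0 ∧
    (x : Matrix (Fin n) (Fin n) F) *ᵥ v = c • v ∧ ∀ w, φ ⬝ᵥ ((x : Matrix (Fin n) (Fin n) F) *ᵥ w) = c * (φ ⬝ᵥ w) := by
  obtain ⟨c, hc⟩ := h1
  obtain ⟨d, hd⟩ := fixH_iff'.1 h2
  have h3 := hd v
  rw [hc, dotProduct_smul, smul_eq_mul] at h3
  obtain rfl := mul_right_cancel₀ hφ h3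
  refine ⟨c, fun e => mv_ne x (w := v) (fun e' => hφ (by rw [e', dotProduct_zero])) (by rw [hc, e, zero_smul]), hc, hd⟩

theorem exists_blk {m : ℕ} (hm : n = m + 1) (hφ : φ ⬝ᵥ v ≠ 0) :
    ∃ (B : Matrix (Fin n) (Fin m) F) (D : Matrix (Fin m) (Fin n) F), D * B = 1 ∧
      (∀ w, B *ᵥ (D *ᵥ w) = w - (φ ⬝ᵥ w / φ ⬝ᵥ v) • v) ∧ ∀ u, φ ⬝ᵥ (B *ᵥ u) = 0 := by
  let l : (Fin n → F) →ₗ[F] F := dotProductEquiv F (Fin n) φ
  have hl : ∀ w, l w = φ ⬝ᵥ w := fun _ => rfl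
  have h1 : Module.finrank F (LinearMap.ker l) = Module.finrank F (Fin m → F) := by
    have h2 := Module.Dual.finrank_ker_add_one_of_ne_zero (f := l) fun e => hφ (by rw [← hl, e]; rfl)
    rw [Module.finrank_fin_fun] at h2 ⊢
    omega
  let e := LinearEquiv.ofFinrankEq _ _ h1
  let p : (Fin n → F) →ₗ[F] LinearMap.ker l := LinearMap.codRestrict _ (LinearMap.id - (φ ⬝ᵥ v)⁻¹ • l.smulRight v) fun w => by
    change φ ⬝ᵥ (w - (φ ⬝ᵥ v)⁻¹ • (φ ⬝ᵥ w) • v) = 0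
    rw [dotProduct_sub, dotProduct_smul, dotProduct_smul, smul_eq_mul, smul_eq_mul, mul_left_comm, inv_mul_cancel₀ hφ, mul_one,
      sub_self]
  have hp : ∀ w, (p w : Fin n → F) = w - (φ ⬝ᵥ w / φ ⬝ᵥ v) • v := fun w => by
    change w - (φ ⬝ᵥ v)⁻¹ • (φ ⬝ᵥ w) • v = _
    rw [smul_smul, div_eq_inv_mul]
  refine ⟨LinearMap.toMatrix' ((LinearMap.ker l).subtype ∘ₗ e.symm.toLinearMap), LinearMap.toMatrix' (e.toLinearMap ∘ₗ p), ?_,
    fun w => ?_, fun u => ?_⟩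
  · rw [← LinearMap.toMatrix'_comp, ← LinearMap.toMatrix'_id]
    congr 1
    refine LinearMap.ext fun u => ?_
    have h2 : p (e.symm u) = e.symm u := Subtype.ext (by
      have h3 : φ ⬝ᵥ (e.symm u : Fin n → F) = 0 := (e.symm u).2
      rw [hp, h3, zero_div, zero_smul, sub_zero])
    change e (p (e.symm u)) = u
    rw [h2, e.apply_symm_apply]
  · rw [LinearMap.toMatrix'_mulVec, LinearMap.toMatrix'_mulVec, ← hp]
    change ((e.symm (e (p w)) : LinearMap.ker l) : Fin n → F) = _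
    rw [e.symm_apply_apply]
  · rw [LinearMap.toMatrix'_mulVec]
    exact (e.symm u).2

theorem slW_le (hn : 4 ≤ n) (hφ : φ ⬝ᵥ v ≠ 0) {N : Subgroup (GL (Fin n) F)} (hN : N ≤ slW v φ)
    (hno : ∀ x ∈ slW v φ, ∀ y ∈ N, x * y * x⁻¹ ∈ N) (hc : ∃ x ∈ N, ∃ y ∈ N, x * y ≠ y * x) : slW v φ ≤ N := by
  obtain ⟨m, hm⟩ : ∃ m, n = m + 1 := ⟨n - 1, by omega⟩
  obtain ⟨B, D, h1, h2, h3⟩ := exists_blk hm hφ
  have hD : D *ᵥ v = 0 := by
    have h4 : D *ᵥ (B *ᵥ (D *ᵥ v)) = D *ᵥ v := by rw [mulVec_mulVec, h1, one_mulVec]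
    rw [← h4, h2, div_self hφ, one_smul, sub_self, mulVec_zero]
  have hdet : ∀ a : Matrix (Fin m) (Fin m) F, (1 + B * (a - 1) * D).det = a.det := fun a => by
    rw [Matrix.mul_assoc, det_one_add_mul_comm, Matrix.mul_assoc, h1, mul_one, add_sub_cancel]
  let j : SL(m, F) →* Matrix (Fin n) (Fin n) F :=
    { toFun := fun a => 1 + B * ((a : Matrix (Fin m) (Fin m) F) - 1) * D
      map_one' := by simp
      map_mul' := fun a b => by
        have h4 : B * ((a : Matrix (Fin m) (Fin m) F) - 1) * D * (B * ((b : Matrix (Fin m) (Fin m) F) - 1) * D) =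
            B * (((a : Matrix (Fin m) (Fin m) F) - 1) * ((b : Matrix (Fin m) (Fin m) F) - 1)) * D := by
          simp only [Matrix.mul_assoc]
          rw [← Matrix.mul_assoc D B, h1, Matrix.one_mul]
        rw [add_mul, mul_add, mul_add, one_mul, one_mul, mul_one, h4, add_assoc, add_right_inj, ← Matrix.add_mul,
          ← Matrix.add_mul, ← Matrix.mul_add, ← Matrix.mul_add]
        change B * ((a : Matrix (Fin m) (Fin m) F) * (b : Matrix (Fin m) (Fin m) F) - 1) * D = _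
        congr 2
        noncomm_ring }
  let i : SL(m, F) →* GL (Fin n) F := j.toHomUnits
  have hi : ∀ a, (i a : Matrix (Fin n) (Fin n) F) = 1 + B * ((a : Matrix (Fin m) (Fin m) F) - 1) * D := fun _ => rfl
  have k1 : ∀ a, i a ∈ slW v φ := fun a => ⟨by rw [mem_sl, hi, hdet, a.det_coe],
    by rw [hi, add_mulVec, one_mulVec, ← mulVec_mulVec, hD, mulVec_zero, add_zero],
    fun w => by rw [hi, add_mulVec, one_mulVec, ← mulVec_mulVec, ← mulVec_mulVec, dotProduct_add, h3, add_zero]⟩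
  have k2 : ∀ x ∈ slW v φ, ∃ a, i a = x := fun x hx => by
    have h4 : 1 + B * (D * (x : Matrix (Fin n) (Fin n) F) * B - 1) * D = (x : Matrix (Fin n) (Fin n) F) :=
      Matrix.mulVec_injective (funext fun w => by
      rw [add_mulVec, one_mulVec, ← mulVec_mulVec, ← mulVec_mulVec, sub_mulVec, one_mulVec, ← mulVec_mulVec, ← mulVec_mulVec,
        mulVec_sub, h2, h2, hx.2.2, dotProduct_sub, dotProduct_smul, mulVec_sub, mulVec_smul, hx.2.1, smul_eq_mul,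
        div_mul_cancel₀ _ hφ, sub_self, zero_div, zero_smul]
      abel)
    exact ⟨⟨D * (x : Matrix (Fin n) (Fin n) F) * B, by rw [← hdet, h4]; exact mem_sl.1 hx.1⟩, Units.ext h4⟩
  have : (N.comap i).Normal := ⟨fun a ha b => by
    rw [Subgroup.mem_comap, map_mul, map_mul, map_inv]
    exact hno _ (k1 b) _ ha⟩
  rcases H55.FC.sl_alt (by rw [Fintype.card_fin]; omega) (N.comap i) with h | h
  · obtain ⟨x, hx, y, hy, hxy⟩ := hc
    obtain ⟨a, rfl⟩ := k2 x (hN hx)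
    obtain ⟨b, rfl⟩ := k2 y (hN hy)
    exact (hxy (by rw [← map_mul, ← map_mul, Subgroup.mem_center_iff.1 (h hy) a])).elim
  · intro x hx
    obtain ⟨a, rfl⟩ := k2 x hx
    exact (h ▸ Subgroup.mem_top a : a ∈ N.comap i)

/-- the transvections with centre `v` -/
def uP (v : Fin n → F) : Subgroup (GL (Fin n) F) where
  carrier := {x | (x : Matrix (Fin n) (Fin n) F) *ᵥ v = v ∧ ∀ w, ∃ c : F, (x : Matrix (Fin n) (Fin n) F) *ᵥ w = w + c • v}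
  one_mem' := ⟨by rw [Units.val_one, one_mulVec], fun w => ⟨0, by rw [Units.val_one, one_mulVec, zero_smul, add_zero]⟩⟩
  mul_mem' := fun {x y} hx hy => ⟨by rw [mul_mv, hy.1, hx.1], fun w => by
    obtain ⟨c, hc⟩ := hx.2 w
    obtain ⟨d, hd⟩ := hy.2 w
    exact ⟨c + d, by rw [mul_mv, hd, mulVec_add, hc, mulVec_smul, hx.1, add_smul, add_assoc]⟩⟩
  inv_mem' := fun {x} hx => ⟨mv_inj x (by rw [mv_inv, hx.1]), fun w => by
    obtain ⟨c, hc⟩ := hx.2 w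
    exact ⟨-c, mv_inj x (by rw [mv_inv, mulVec_add, hc, mulVec_smul, hx.1, neg_smul, add_neg_cancel_right])⟩⟩

theorem uP_comm {x y : GL (Fin n) F} (hx : x ∈ uP v) (hy : y ∈ uP v) : x * y = y * x := gl_ext fun w => by
  obtain ⟨c, hc⟩ := hx.2 w
  obtain ⟨d, hd⟩ := hy.2 w
  rw [mul_mv, mul_mv, hc, hd, mulVec_add, mulVec_add, hc, hd, mulVec_smul, mulVec_smul, hx.1, hy.1, add_right_comm]

theorem uP_norm {g x : GL (Fin n) F} (hg : FixP g v) (hx : x ∈ uP v) : g * x * g⁻¹ ∈ uP v := by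
  obtain ⟨c, hc⟩ := hg.inv
  obtain ⟨d, hd⟩ := hg
  refine ⟨by rw [mul_mv, mul_mv, hc, mulVec_smul, hx.1, ← hc, mv_inv], fun w => ?_⟩
  obtain ⟨a, ha⟩ := hx.2 (((g⁻¹ : GL (Fin n) F) : Matrix (Fin n) (Fin n) F) *ᵥ w)
  exact ⟨a * d, by rw [mul_mv, mul_mv, ha, mulVec_add, mv_inv, mulVec_smul, hd, smul_smul]⟩

/-- `R` is not normalised by the stabiliser of its fixed point -/
theorem MF.not_par (h : MF R C) (hn : 2 ≤ n) (hv : v ≠ 0) (hR : ∀ x ∈ R, FixP x v)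
    (hno : ∀ g ∈ specialLinear (Fin n) F, FixP g v → ∀ x ∈ R, g * x * g⁻¹ ∈ R) : False := by
  rcases h.simp (R ⊓ uP v) inf_le_left (fun x hx y hy =>
    ⟨R.mul_mem (R.mul_mem hx hy.1) (R.inv_mem hx), uP_norm (hR x hx) hy.2⟩) with k | k
  · obtain ⟨ψ, hψ, h0⟩ := exists_zero (k := 1) (by omega : 1 < n) ![v]
    have h1 : ψ ⬝ᵥ v = 0 := (dotProduct_comm _ _).trans (h0 0)
    have h2 : tv v ψ h1 ∈ uP v := ⟨by rw [tv_mulVec, h1, zero_smul, add_zero], fun w => ⟨_, tv_mulVec _ _ _ w⟩⟩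
    refine tv_not_scal h1 hv hψ (h.cen _ (tv_mem_specialLinear _ _ _) fun x hx => ?_)
    have h3 : tv v ψ h1 * x * (tv v ψ h1)⁻¹ * x⁻¹ ∈ R ⊓ uP v := ⟨R.mul_mem (hno _ (tv_mem_specialLinear _ _ _)
      ⟨1, by rw [h2.1, one_smul]⟩ x hx) (R.inv_mem hx), by
        rw [mul_assoc, mul_assoc, ← mul_assoc x]
        exact Subgroup.mul_mem _ h2 (uP_norm (hR x hx) (Subgroup.inv_mem _ h2))⟩
    obtain ⟨c, hc⟩ := (mem_scalars_iff _).1 (k h3)
    have h4 := h3.2.1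
    rw [hc, smul_mulVec, one_mulVec] at h4
    have h5 : (c : F) = 1 := by
      by_contra hne
      have h6 : ((c : F) - 1) • v = 0 := by rw [sub_smul, h4, one_smul, sub_self]
      exact hv ((smul_eq_zero.1 h6).resolve_left (sub_ne_zero.2 hne))
    rw [h5, one_smul] at hc
    have h6 : tv v ψ h1 * x * (tv v ψ h1)⁻¹ * x⁻¹ = 1 := Units.ext hc
    rw [mul_inv_eq_one, mul_inv_eq_iff_eq_mul] at h6
    exact h6
  · obtain ⟨x, hx, y, hy, hxy⟩ := h.noncomm k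
    exact hxy (uP_comm hx.2 hy.2)

theorem MF.slW_le (h : MF R C) (hn : 4 ≤ n) (hφ : φ ⬝ᵥ v ≠ 0) (hR : ∀ x ∈ R, FixP x v ∧ FixH x φ)
    (hno : ∀ g ∈ slW v φ, ∀ x ∈ R, g * x * g⁻¹ ∈ R) : slW v φ ≤ R := by
  have key : ∀ x ∈ R, ∀ y ∈ slW v φ, x * y * x⁻¹ ∈ slW v φ := fun x hx y hy => by
    obtain ⟨c, -, h1, h2⟩ := fix_both hφ (hR x hx).1 (hR x hx).2
    obtain ⟨d, hd⟩ := (hR x hx).1.inv
    refine ⟨Subgroup.mul_mem _ (Subgroup.mul_mem _ (h.pd.left hx) hy.1) (Subgroup.inv_mem _ (h.pd.left hx)),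
      by rw [mul_mv, mul_mv, hd, mulVec_smul, hy.2.1, ← hd, mv_inv], fun w => ?_⟩
    rw [mul_mv, mul_mv, h2, hy.2.2, ← h2, mv_inv]
  have hN := h.mulZ (N := R ⊓ slW v φ) inf_le_left
    (fun x hx y hy => ⟨R.mul_mem (R.mul_mem hx hy.1) (R.inv_mem hx), key x hx y hy.2⟩) fun x hx y hy => by
      have hm := R.mul_mem (R.mul_mem (R.mul_mem hx hy) (R.inv_mem hx)) (R.inv_mem hy)
      obtain ⟨c, hc, h1, h2⟩ := fix_both hφ (hR x hx).1 (hR x hx).2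
      obtain ⟨d, hd, h3, h4⟩ := fix_both hφ (hR y hy).1 (hR y hy).2
      obtain ⟨e, -, h5, h6⟩ := fix_both hφ (hR _ hm).1 (hR _ hm).2
      have h7 := h6 ((y : Matrix (Fin n) (Fin n) F) *ᵥ ((x : Matrix (Fin n) (Fin n) F) *ᵥ v))
      rw [mul_mv, mul_mv, mul_mv, inv_mv, inv_mv, h2, h4, h4, h2, mul_left_comm] at h7
      have h8 : e = 1 := mul_right_cancel₀ (mul_ne_zero hd (mul_ne_zero hc hφ)) (by rw [← h7, one_mul])
      exact ⟨hm, h.pd.left hm, by rw [h5, h8, one_smul], fun w => by rw [h6, h8, one_mul]⟩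
  exact (SM.L.slW_le hn hφ inf_le_right (fun x hx y hy => ⟨hno x hx y hy.1,
    Subgroup.mul_mem _ (Subgroup.mul_mem _ hx hy.2) (Subgroup.inv_mem _ hx)⟩) (h.noncomm hN)).trans inf_le_left

theorem MF.hullA (h : MF R C) {u : Fin n → F} (h1 : ∀ x ∈ R ⊓ C, FixP x u) (h2 : ¬ ∀ x ∈ R, FixP x u) :
    R ⊓ hull (R ⊓ C) ≤ C :=
  h.invA _ inf_le_left (fun e => h2 fun _ hx => (e hx).2.2.1 u h1) (le_inf h.zR (z_le_hull _))
    (fun e => h.nb ((le_inf inf_le_left (le_hull (inf_le_left.trans h.pd.left))).trans e))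
    fun _ hτ hR hC x hx => ⟨(hR x).1 hx.1, hτ.hull (R := R ⊓ C) (fun y hy => ⟨(hR y).1 hy.1, (hC y).1 hy.2⟩) x hx.2⟩

theorem MF.not_extC [Fintype F] (h : MF R C) (hn : 3 ≤ n) (hφ : φ ⬝ᵥ v ≠ 0) (hR : ∀ x ∈ R, FixP x v ∧ FixH x φ)
    (hu : ∀ w, w ≠ 0 → (∀ x ∈ R, FixP x w) → ∃ c : F, w = c • v) (hW : Even n → slW v φ ≤ R) : ¬ Ext C := by
  rintro ⟨s, K, hs, hsn, hK, hle⟩
  have hv : v ≠ 0 := fun e => hφ (by rw [e, dotProduct_zero])
  obtain ⟨hq, rfl⟩ := U.boxAF F n s K C v φ hs hK hle hφ fun ψ hψ => by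
    have h0 : ((φ ⬝ᵥ v)⁻¹ • φ - (ψ ⬝ᵥ v)⁻¹ • ψ) ⬝ᵥ v = 0 := by
      rw [sub_dotProduct, smul_dotProduct, smul_dotProduct, smul_eq_mul, smul_eq_mul, inv_mul_cancel₀ hφ, inv_mul_cancel₀ hψ,
        sub_self]
    obtain ⟨y, hy, x, hx, e⟩ := h.pd.symm.mul _ (tv_mem_specialLinear v _ h0)
    have e' : y = tv v _ h0 * x⁻¹ := by rw [e, mul_inv_cancel_right]
    obtain ⟨c, hc⟩ := (hR x hx).2.inv
    refine ⟨y, hy, e' ▸ FixP.mul ⟨1, by rw [tv_mulVec, h0, zero_smul, add_zero, one_smul]⟩ (hR x hx).1.inv,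
      ψ ⬝ᵥ v * (φ ⬝ᵥ v)⁻¹ * c, ?_⟩
    rw [e', Units.val_mul, ← vecMul_vecMul, tv_vm, smul_sub, smul_smul, smul_smul, mul_inv_cancel₀ hψ, one_smul, add_sub_cancel,
      smul_vecMul, hc, smul_smul]
  have hW' := hW (even_iff_two_dvd.2 hsn)
  -- a second fixed point of `R ⊓ C`
  obtain ⟨k, hk, hks⟩ := U.exists_nonscalar hK le_rfl
  obtain ⟨l, hl, hls, hl0⟩ : ∃ l ∈ K, (∀ c : F, c • (1 : Matrix (Fin n) (Fin n) F) ≠ l) ∧ φ ⬝ᵥ (l *ᵥ v) = 0 :=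
    ⟨k - (φ ⬝ᵥ (k *ᵥ v) / φ ⬝ᵥ v) • 1, K.sub_mem hk (K.smul_mem K.one_mem _),
      fun c e => hks (c + φ ⬝ᵥ (k *ᵥ v) / φ ⬝ᵥ v) (by rw [add_smul, e, sub_add_cancel]),
      by rw [sub_mulVec, smul_mulVec, one_mulVec, dotProduct_sub, dotProduct_smul, smul_eq_mul, div_mul_cancel₀ _ hφ, sub_self]⟩
  have hsp : ∀ x ∈ K, ∃ a b : F, a • (1 : Matrix (Fin n) (Fin n) F) + b • l = x := fun x hx => by
    have := U.nonempty_of_field hK (by omega)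
    have h1 : LinearIndependent F ![(1 : K), ⟨l, hl⟩] :=
      (LinearIndependent.pair_iff' one_ne_zero).2 fun c e => hls c (congrArg Subtype.val e)
    have h2 := h1.span_eq_top_of_card_eq_finrank' (by rw [Fintype.card_fin, hK.finrank_eq])
    have h3 : (⟨x, hx⟩ : K) ∈ Submodule.span F {(1 : K), ⟨l, hl⟩} := by
      rw [← Matrix.range_cons_cons_empty _ _ ![], h2]
      trivial
    obtain ⟨a, b, e⟩ := Submodule.mem_span_pair.1 h3
    exact ⟨a, b, congrArg Subtype.val e⟩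
  have hA := h.hullA (u := l *ᵥ v) (fun g hg => by
      obtain ⟨a, b, e⟩ := hsp _ ((hle hg.2 l).1 hl)
      obtain ⟨c, hc, h1, h2⟩ := fix_both hφ (hR g hg.1).1 (hR g hg.1).2
      have h3 : (g : Matrix (Fin n) (Fin n) F) *ᵥ (l *ᵥ v) = (c * a) • v + (c * b) • l *ᵥ v := by
        have h4 := congrArg (· *ᵥ ((g : Matrix (Fin n) (Fin n) F) *ᵥ v)) e
        simp only [← mulVec_mulVec, inv_mv] at h4
        rw [← h4, h1, mulVec_smul, add_mulVec, smul_mulVec, smul_mulVec, one_mulVec, smul_add, smul_smul, smul_smul]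
      have h4 := h2 (l *ᵥ v)
      rw [h3, dotProduct_add, dotProduct_smul, dotProduct_smul, hl0, smul_zero, add_zero, mul_zero, smul_eq_mul] at h4
      exact ⟨c * b, by rw [h3, (mul_eq_zero.1 h4).resolve_right hφ, zero_smul, zero_add]⟩) fun e => by
    obtain ⟨c, hc⟩ := hu _ (fun e' => hls 0 ((zero_smul _ _).trans (U.field_inj hK hl hv e').symm)) e
    exact hls c (U.no_eigen hK hl hv hc).symm
  -- a transvection in the hull
  obtain ⟨g, hg, hgs⟩ := SetLike.not_le_iff_exists.1 h.nb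
  have h1 : ∀ c : F, c ≠ 0 → c = 1 := fun c hc => by simpa [hq] using FiniteField.pow_card_sub_one_eq_one c hc
  obtain ⟨M, hM⟩ : ∃ M, M = (g : Matrix (Fin n) (Fin n) F) - 1 := ⟨_, rfl⟩
  have hM0 : M ≠ 0 := fun e => hgs (by
    have h2 : g = 1 := Units.ext (sub_eq_zero.1 (hM ▸ e))
    exact h2 ▸ Subgroup.one_mem _)
  obtain ⟨w₀, hw₀⟩ : ∃ w, M *ᵥ w ≠ 0 := by
    by_contra e
    push Not at e
    exact hM0 (U.eq_zero_of_forall_mulVec e)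
  obtain ⟨χ, hχ⟩ := exists_dot hw₀
  have hψ : (χ ᵥ* M) ⬝ᵥ w₀ ≠ 0 := by rwa [← dotProduct_mulVec, dotProduct_comm]
  obtain ⟨w, hw, h0⟩ : ∃ w, M *ᵥ w ≠ 0 ∧ (χ ᵥ* M) ⬝ᵥ (M *ᵥ w) = 0 := by
    by_contra e
    push Not at e
    have h2 := e w₀ hw₀
    refine U.noRefl hn hK le_rfl hw₀ (φ := ((χ ᵥ* M) ⬝ᵥ (M *ᵥ w₀))⁻¹ • ((χ ᵥ* M) ᵥ* M)) (fun e' => ?_) ?_ (hle hg.2)
    · have h3 := congrArg (· ⬝ᵥ w₀) e'
      simp only [smul_dotProduct, ← dotProduct_mulVec (χ ᵥ* M), smul_eq_mul, inv_mul_cancel₀ h2, zero_dotProduct] at h3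
      exact one_ne_zero h3
    · refine Matrix.mulVec_injective (funext fun u => ?_)
      change _ *ᵥ u = _ *ᵥ u
      have h3 : M *ᵥ (u - (((χ ᵥ* M) ⬝ᵥ (M *ᵥ w₀))⁻¹ * ((χ ᵥ* M) ⬝ᵥ (M *ᵥ u))) • w₀) = 0 := by_contra fun h3 => e _ h3 (by
        rw [mulVec_sub, mulVec_smul, dotProduct_sub, dotProduct_smul, smul_eq_mul, mul_right_comm, inv_mul_cancel₀ h2, one_mul,
          sub_self])
      rw [mulVec_sub, mulVec_smul, sub_eq_zero] at h3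
      rw [one_add_mulVec, smul_dotProduct, ← dotProduct_mulVec (χ ᵥ* M), smul_eq_mul, ← h3, hM, sub_mulVec, one_mulVec,
        add_sub_cancel]
  have kP : ∀ u, FixP g u → (tv _ _ h0 : Matrix (Fin n) (Fin n) F) *ᵥ u = u := fun u ⟨c, hc⟩ => by
    have h2 : M *ᵥ u = 0 := by
      by_cases h3 : u = 0
      · rw [h3, mulVec_zero]
      rw [hM, sub_mulVec, one_mulVec, hc, h1 c fun e => mv_ne g h3 (by rw [hc, e, zero_smul]), one_smul, sub_self]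
    rw [tv_mulVec, ← dotProduct_mulVec, h2, dotProduct_zero, zero_smul, add_zero]
  have kH : ∀ θ, FixH g θ → ∀ u, θ ⬝ᵥ ((tv _ _ h0 : Matrix (Fin n) (Fin n) F) *ᵥ u) = θ ⬝ᵥ u := fun θ hθ u => by
    obtain ⟨c, hc⟩ := fixH_iff'.1 hθ
    have h2 : θ ⬝ᵥ (M *ᵥ w) = 0 := by
      rw [hM, sub_mulVec, one_mulVec, dotProduct_sub, hc]
      by_cases h3 : c = 0
      · rw [← mv_inv g w, hc, h3, zero_mul, zero_mul, sub_self]
      · rw [h1 c h3, one_mul, sub_self]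
    rw [tv_mulVec, dotProduct_add, dotProduct_smul, h2, smul_zero, add_zero]
  exact U.noRefl hn hK le_rfl hw (fun e => hψ (by rw [e, zero_dotProduct])) (coe_tv _ _ h0) (hle (hA
    ⟨hW' ⟨tv_mem_specialLinear _ _ _, kP v (hR g hg.1).1, kH φ (hR g hg.1).2⟩, tv_mem_specialLinear _ _ _,
      fun u k => ⟨1, by rw [kP u (k g hg), one_smul]⟩, fun θ k => fixH_iff'.2 ⟨1, fun u => by rw [kH θ (k g hg), one_mul]⟩⟩))

end Cfsg.Agent.SM.L
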