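import Cfsg.Agent.SM.L.Defs
import Cfsg.Agent.S0000
import Cfsg.Agent.S0265
import Cfsg.Agent.S5781
import Cfsg.Agent.S5782
import Cfsg.Agent.S5799
import Cfsg.Agent.S5800
import Cfsg.Agent.H831.Rl.HerF
import Cfsg.Agent.H592.Rl.Classes9
import Cfsg.Agent.H924.POne
import Cfsg.Agent.H906.Cov.EKill
import Cfsg.Agent.H905.SLProper
import Cfsg.Agent.H929.Quad
import Cfsg.Agent.H112.Af.Field
import Cfsg.Agent.H91.HerCons
import Cfsg.Agent.H1.EP8.AutCard

/-!
# SM (S3570), family `fL`: Hering's theorem in matrix form (helper53)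
-/

set_option autoImplicit false

namespace Cfsg.Agent.SM.L.Her

open Cfsg Cfsg.Geo Matrix

variable {n : ℕ} {F : Type} [Field F] {Y : Subgroup (GL (Fin n) F)}

theorem inj (x : GL (Fin n) F) {v : Fin n → F} (h : (x : Matrix (Fin n) (Fin n) F) *ᵥ v = 0) : v = 0 :=
  H831.Rl.perm_inj x (h.trans (mulVec_zero _).symm)

theorem tr' (h : Tr Y) {v w : Fin n → F} (hv : v ≠ 0) (hw : w ≠ 0) :
    ∃ x ∈ Y, ∃ c : F, c ≠ 0 ∧ (x : Matrix (Fin n) (Fin n) F) *ᵥ v = c • w := by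
  obtain ⟨x, hx, c, e⟩ := h v w hv hw
  exact ⟨x, hx, c, fun h0 => hv (inj x (by rw [e, h0, zero_smul])), e⟩

theorem tr_mono {Z : Subgroup (GL (Fin n) F)} (h : Tr Y) (hle : Y ≤ Z) : Tr Z := fun v w hv hw =>
  let ⟨x, hx, e⟩ := h v w hv hw
  ⟨x, hle hx, e⟩

theorem irr (h : Tr Y) : ActsIrreducibly (matrixSet Y) := fun W hW => by
  rw [or_iff_not_imp_left]
  intro h0
  obtain ⟨v, hv, hv0⟩ := (Submodule.ne_bot_iff W).1 h0
  refine eq_top_iff.2 fun w _ => ?_
  by_cases hw : w = 0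
  · exact hw ▸ W.zero_mem
  obtain ⟨x, hx, c, hc, e⟩ := tr' h hv0 hw
  have h1 := hW _ ⟨x, hx, rfl⟩ ⟨v, hv, rfl⟩
  rw [toLin'_apply, e] at h1
  exact (W.smul_mem_iff hc).1 h1

theorem not_sub (h : Tr Y) {W : Submodule F (Fin n → F)} (h0 : W ≠ ⊥) (h1 : W ≠ ⊤) : ¬ Y ≤ subspaceStabilizer W := fun hle =>
  (irr h W (by
    rintro _ ⟨x, hx, rfl⟩ _ ⟨v, hv, rfl⟩
    exact (hle hx v).1 hv)).elim h0 h1

theorem not_dec (h : Tr Y) {t m : ℕ} {D : Fin t → Submodule F (Fin n → F)} (hD : IsMDecomposition m D) :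
    ¬ Y ≤ decompositionStabilizer D := fun hle => by
  have h2 := hD.two_le
  have ex : ∀ i, ∃ v ∈ D i, v ≠ 0 := fun i => (Submodule.ne_bot_iff _).1 fun e => by
    have h3 := hD.finrank_eq i
    have h4 := hD.pos
    rw [e, finrank_bot] at h3
    omega
  have key : ∀ i j k, i ≠ j → i ≠ k → ∀ a ∈ D i, ∀ b ∈ D j, a + b ∈ D k → a = 0 := fun i j k hj hk a ha b hb hab => by
    have h3 : a ∈ ⨆ l ≠ i, D l := by
      rw [← add_sub_cancel_right a b]
      exact Submodule.sub_mem _ (le_iSup₂_of_le (f := fun l (_ : l ≠ i) => D l) k hk.symm le_rfl hab)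
        (le_iSup₂_of_le (f := fun l (_ : l ≠ i) => D l) j hj.symm le_rfl hb)
    exact (Submodule.disjoint_def.1 (hD.indep i)) a ha h3
  let i : Fin t := ⟨0, by omega⟩
  let j : Fin t := ⟨1, by omega⟩
  have hij : i ≠ j := fun e => by simpa [i, j] using congrArg Fin.val e
  obtain ⟨a, ha, a0⟩ := ex i
  obtain ⟨b, hb, b0⟩ := ex j
  obtain ⟨x, hx, c, hc, e⟩ := tr' h a0 (w := a + b) fun e => a0 (key i j j hij hij a ha b hb (e ▸ (D j).zero_mem))
  obtain ⟨σ, hσ⟩ := hle hx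
  have h3 : a + b ∈ D (σ i) := by
    rw [← Submodule.smul_mem_iff _ hc, ← e, ← hσ]
    exact ⟨a, ha, rfl⟩
  by_cases h4 : i = σ i
  · exact b0 (key j i i hij.symm hij.symm b hb a ha (by rwa [add_comm, h4]))
  · exact a0 (key i j _ hij h4 a ha b hb h3)

theorem not_quad [Finite F] (h : Tr Y) (hn : 3 ≤ n) (h2 : (2 : F) ≠ 0) {Q : (Fin n → F) → F}
    (hQ : IsNondegenerateQuadraticForm Q) : ¬ Y ≤ quadSimilarityGroup Q := fun hle => by
  have q := H929.QF.of Q hQ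
  obtain ⟨a, -, a0, ha⟩ := q.exists_singular h2 ⊤ (fun x _ hx => let ⟨y, hy⟩ := (hQ.nondegenerate x hx).2; ⟨y, trivial, hy⟩)
    (by rwa [finrank_top, Module.finrank_fin_fun])
  have h1 : ∀ w, Q w = 0 := fun w => by
    by_cases hw : w = 0
    · rw [hw, q.zero]
    obtain ⟨x, hx, c, -, e⟩ := tr' h hw a0
    obtain ⟨d, hd⟩ := hle hx
    have h3 := hd w
    rw [e, q.smul, ha, mul_zero] at h3
    exact (mul_eq_zero.1 h3.symm).resolve_left d.ne_zero
  obtain ⟨y, hy⟩ := (hQ.nondegenerate a a0).2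
  exact hy (by unfold QuadraticMap.polar; rw [h1, h1, h1, sub_zero, sub_zero])

theorem ext_of (hn : 0 < n) {s : ℕ} {K : Subalgebra F (Matrix (Fin n) (Fin n) F)} (hs : s.Prime) (hK : IsFieldSubalgebra s K)
    (h : Y ≤ subalgebraNormalizer K) : Ext Y := by
  have : Nonempty (Fin n) := ⟨⟨0, hn⟩⟩
  have h1 := H906.Cov.dvd_finrank_of_invariant hK ⊤ fun _ _ _ _ => trivial
  rw [finrank_top, Module.finrank_fin_fun] at h1
  exact ⟨s, K, hs, h1, hK, h⟩

/-- a commutative invariant set of matrices consists of scalars, or a field of prime degree is normalised -/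
theorem ext_or [Finite F] (h : Tr Y) (hn : 0 < n) {S : Set (Matrix (Fin n) (Fin n) F)}
    (hc : ∀ a ∈ S, ∀ b ∈ S, a * b = b * a)
    (hS : ∀ x ∈ Y, ∀ a ∈ S, (x : Matrix (Fin n) (Fin n) F) * a * ((x⁻¹ : GL (Fin n) F) : Matrix (Fin n) (Fin n) F) ∈ S) :
    Ext Y ∨ ∀ a ∈ S, ∃ c : F, ∀ w, a *ᵥ w = c • w := by
  have : Nonempty (Fin n) := ⟨⟨0, hn⟩⟩
  have h1 : ∀ x ∈ Y, ∀ a ∈ Algebra.adjoin F S,
      (x : Matrix (Fin n) (Fin n) F) * a * ((x⁻¹ : GL (Fin n) F) : Matrix (Fin n) (Fin n) F) ∈ Algebra.adjoin F S := by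
    intro x hx a ha
    induction ha using Algebra.adjoin_induction with
    | mem a ha => exact Algebra.subset_adjoin (hS x hx a ha)
    | algebraMap r =>
      rw [← Algebra.commutes, mul_assoc, Units.mul_inv, mul_one]
      exact Subalgebra.algebraMap_mem _ r
    | add a b _ _ ha hb =>
      rw [mul_add, add_mul]
      exact add_mem ha hb
    | mul a b _ _ ha hb =>
      have h2 := mul_mem ha hb
      rwa [mul_assoc _ _ (_ * b * _), ← mul_assoc _ (_ * b), ← mul_assoc _ _ b, Units.inv_mul, one_mul, ← mul_assoc,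
        mul_assoc _ a b] at h2
  have h2 : Y ≤ subalgebraNormalizer (Algebra.adjoin F S) := fun x hx k => ⟨h1 x hx k, fun hk => by
    have h3 := h1 x⁻¹ (Y.inv_mem hx) _ hk
    rwa [inv_inv, ← mul_assoc, ← mul_assoc, Units.inv_mul, one_mul, mul_assoc, Units.inv_mul, mul_one] at h3⟩
  have h3 : ∀ a ∈ Algebra.adjoin F S, ∀ b ∈ Algebra.adjoin F S, a * b = b * a := fun a ha b hb =>
    Algebra.commute_of_mem_adjoin_of_forall_mem_commute hb fun b hb =>
      (Algebra.commute_of_mem_adjoin_of_forall_mem_commute ha fun a ha => hc b hb a ha).symm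
  rcases H924.comm_cases (irr h) h2 h3 with ⟨t, m, D, hD, h4, -⟩ | ⟨r, K, hr, -, hK, h4⟩ | h4
  · exact (not_dec h hD h4).elim
  · exact Or.inl (ext_of hn hr hK h4)
  · refine Or.inr fun a ha => ?_
    obtain ⟨c, rfl⟩ := Algebra.mem_bot.1 (h4 ▸ Algebra.subset_adjoin (R := F) ha)
    exact ⟨c, fun w => by rw [Algebra.algebraMap_eq_smul_one, smul_mulVec, one_mulVec]⟩

/-- the action on the vectors -/
def pm (n : ℕ) (F : Type) [Field F] : GL (Fin n) F →* Equiv.Perm (Fin n → F) where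
  toFun x := ⟨fun w => (x : Matrix (Fin n) (Fin n) F) *ᵥ w, fun w => ((x⁻¹ : GL (Fin n) F) : Matrix (Fin n) (Fin n) F) *ᵥ w,
    fun w => by simp only [mulVec_mulVec, Units.inv_mul, one_mulVec],
    fun w => by simp only [mulVec_mulVec, Units.mul_inv, one_mulVec]⟩
  map_one' := Equiv.ext fun w => one_mulVec w
  map_mul' x y := Equiv.ext fun w => (mulVec_mulVec w _ _).symm

theorem pm_apply (x : GL (Fin n) F) (w : Fin n → F) : pm n F x w = (x : Matrix (Fin n) (Fin n) F) *ᵥ w := rfl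

theorem mat_ext {a b : Matrix (Fin n) (Fin n) F} (h : ∀ w, a *ᵥ w = b *ᵥ w) : a = b := by
  ext i j
  have h1 := congrFun (h (Pi.single j 1)) i
  rwa [mulVec_single_one, mulVec_single_one] at h1

theorem pm_inj : Function.Injective (pm n F) := fun _ _ h => Units.ext (mat_ext fun w => Equiv.congr_fun h w)

theorem sq_le (m : ℕ) (h : 4 ≤ m) : m * m ≤ 2 ^ m := by
  induction m, h using Nat.le_induction with
  | base => norm_num
  | succ m h ih => rw [pow_succ]; nlinarith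

/-- the semilinear groups of dimension one -/
theorem two [Fintype F] (h : Tr Y) (hn : 3 ≤ n) (hc : H667.HerFin.ConclTwo (Fintype.card F) n (Y.map (pm n F))) : Ext Y := by
  obtain ⟨K, _, _, e, hK, hs⟩ := hc
  choose! c σ hs using fun x (hx : x ∈ Y) => hs _ ⟨x, hx, rfl⟩
  simp only [pm_apply] at hs
  refine (ext_or h (by omega) (S := {a | ∃ x ∈ Y, a = x ∧ ∃ d : K, ∀ w, e (a *ᵥ w) = d * e w}) ?_ ?_).resolve_right
    fun h1 => ?_
  · rintro a ⟨-, -, -, d, ha⟩ b ⟨-, -, -, d', hb⟩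
    exact mat_ext fun w => e.injective (by rw [← mulVec_mulVec, ← mulVec_mulVec, ha, hb, hb, ha, mul_left_comm])
  · rintro x hx a ⟨y, hy, rfl, d, ha⟩
    refine ⟨x * y * x⁻¹, Y.mul_mem (Y.mul_mem hx hy) (Y.inv_mem hx), rfl, σ x d, fun w => ?_⟩
    have h2 := hs x hx (((x⁻¹ : GL (Fin n) F) : Matrix (Fin n) (Fin n) F) *ᵥ w)
    rw [mulVec_mulVec, Units.mul_inv, one_mulVec] at h2
    rw [← mulVec_mulVec, ← mulVec_mulVec, hs x hx, ha, map_mul, h2, mul_left_comm]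
  · classical
    let v : Fin n → F := Pi.single ⟨0, by omega⟩ 1
    have hv : v ≠ 0 := fun e => one_ne_zero (α := F) (Pi.single_eq_zero_iff.1 e)
    have c0 : ∀ x ∈ Y, c x ≠ 0 := fun x hx h0 => hv (inj x (e.injective (by rw [hs x hx, h0, zero_mul, map_zero])))
    have h2 : ∀ x ∈ Y, ∀ y ∈ Y, σ x = σ y → ∃ d : F, (x : Matrix (Fin n) (Fin n) F) *ᵥ v =
        d • (y : Matrix (Fin n) (Fin n) F) *ᵥ v := fun x hx y hy hσ => by
      obtain ⟨d, hd⟩ := h1 _ ⟨x * y⁻¹, Y.mul_mem hx (Y.inv_mem hy), rfl, c x * (c y)⁻¹, fun w => by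
        have h2 := hs y hy (((y⁻¹ : GL (Fin n) F) : Matrix (Fin n) (Fin n) F) *ᵥ w)
        rw [mulVec_mulVec, Units.mul_inv, one_mulVec] at h2
        rw [Units.val_mul, ← mulVec_mulVec, hs x hx, h2, hσ, mul_assoc, inv_mul_cancel_left₀ (c0 y hy)]⟩
      refine ⟨d, ?_⟩
      rw [← hd, mulVec_mulVec, ← Units.val_mul, inv_mul_cancel_right]
    let g : (K ≃+* K) × F → Fin n → F := fun z =>
      if hz : ∃ y ∈ Y, σ y = z.1 then z.2 • (hz.choose : Matrix (Fin n) (Fin n) F) *ᵥ v else 0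
    have hg : Function.Surjective g := fun w => by
      by_cases hw : w = 0
      · refine ⟨(1, 0), ?_⟩
        simp only [g, zero_smul, dite_eq_ite, ite_self, hw]
      obtain ⟨x, hx, a, ha, e1⟩ := tr' h hv hw
      have hz : ∃ y ∈ Y, σ y = σ x := ⟨x, hx, rfl⟩
      obtain ⟨d, hd⟩ := h2 x hx _ hz.choose_spec.1 hz.choose_spec.2.symm
      refine ⟨(σ x, a⁻¹ * d), ?_⟩
      simp only [g, dif_pos hz]
      rw [mul_smul, ← hd, e1, inv_smul_smul₀ ha]
    have : Finite (K ≃+* K) := Finite.of_injective (fun τ : K ≃+* K => (τ : K → K)) DFunLike.coe_injective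
    have h3 := Nat.card_le_card_of_surjective g hg
    have h4 := H112.Af.two_pow_card_aut K
    rw [Nat.card_prod, Nat.card_fun, Nat.card_eq_fintype_card (α := F), Nat.card_eq_fintype_card (α := Fin n),
      Fintype.card_fin] at h3
    rw [Nat.card_eq_fintype_card (α := K), hK] at h4
    have hq : 2 ≤ Fintype.card F := Fintype.one_lt_card
    obtain ⟨k, rfl⟩ : ∃ k, n = k + 3 := ⟨n - 3, by omega⟩
    generalize Fintype.card F = q at h3 h4 hq
    have h5 : q ^ (k + 2) ≤ Nat.card (K ≃+* K) := Nat.le_of_mul_le_mul_right (by rwa [← pow_succ]) (by omega : 0 < q)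
    have h6 : q * q ≤ q ^ (k + 2) := by rw [← pow_two]; exact Nat.pow_le_pow_right (by omega) (by omega)
    have h7 := (Nat.pow_le_pow_right (by norm_num : 0 < 2) h5).trans h4
    have h8 := sq_le (q ^ (k + 2)) (by nlinarith)
    rw [show k + 3 = k + 2 + 1 from rfl, pow_succ q (k + 2)] at h7
    generalize q ^ (k + 2) = m at h6 h7 h8
    nlinarith

/-- the natural actions -/
theorem nat [Fintype F] (h : Tr Y) (hn : 3 ≤ n) (hne : ¬ specialLinear (Fin n) F ≤ Y)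
    (hc : H667.HerFin.NatOut F (Fintype.card F) n (Y.map (pm n F))) : Ext Y ∨ Sym Y := by
  obtain ⟨K, _, _, _, φ, b, hφ, -, -, -, hs, hc⟩ := hc
  refine (ext_or h (by omega) (S := {a | ∃ d : K, ∀ w, a *ᵥ w = d • w}) ?_ ?_).imp_right fun h1 => ?_
  · rintro a ⟨d, ha⟩ a' ⟨d', hb⟩
    exact mat_ext fun w => by rw [← mulVec_mulVec, ← mulVec_mulVec, ha, hb, hb, ha, smul_comm]
  · rintro x hx a ⟨d, ha⟩
    obtain ⟨σ, hσ⟩ := hs _ ⟨x, hx, rfl⟩
    refine ⟨σ d, fun w => ?_⟩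
    rw [← mulVec_mulVec, ← mulVec_mulVec, ha, ← pm_apply x, hσ, pm_apply, mulVec_mulVec, Units.mul_inv, one_mulVec]
  let v : Fin n → F := Pi.single ⟨0, by omega⟩ 1
  have hv : v ≠ 0 := fun e => one_ne_zero (α := F) (Pi.single_eq_zero_iff.1 e)
  have h2 : Function.Surjective φ := fun d => by
    let l : (Fin n → F) →ₗ[F] (Fin n → F) :=
      { toFun := fun w => d • w
        map_add' := smul_add d
        map_smul' := fun a w => by rw [RingHom.id_apply, hφ a w, hφ a (d • w), smul_comm] }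
    obtain ⟨a, ha⟩ := h1 (LinearMap.toMatrix' l) ⟨d, fun w => LinearMap.toMatrix'_mulVec l w⟩
    refine ⟨a, smul_left_injective K hv ?_⟩
    show φ a • v = d • v
    rw [← hφ, ← ha, LinearMap.toMatrix'_mulVec]
    rfl
  let ψ : F ≃+* K := RingEquiv.ofBijective φ ⟨φ.injective, h2⟩
  have hψ : ∀ (d : K) (w : Fin n → F), d • w = ψ.symm d • w := fun d w => by
    rw [hφ]
    exact congrArg (· • w) (ψ.apply_symm_apply d).symm
  have hl : ∀ (x : GL (Fin n) F) (d : K) (w : Fin n → F), pm n F x (d • w) = d • pm n F x w := fun x d w => by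
    rw [hψ, hψ, pm_apply, pm_apply, mulVec_smul]
  have key : ∀ f : LinearMap.BilinForm K (Fin n → F), f.IsAlt → f.Nondegenerate →
      (∀ g ∈ Y.map (pm n F), ∀ σ : K ≃+* K, (∀ (c : K) (v : Fin n → F), g (c • v) = σ c • g v) →
        ∃ μ : K, ∀ u v, f (g u) (g v) = μ * σ (f u v)) → Sym Y := fun f ha hf hμ => by
    have sm : ∀ (c : F) (z : K), ψ.symm (φ c * z) = c * ψ.symm z := fun c z => by
      rw [map_mul]
      exact congrArg (· * _) (ψ.symm_apply_apply c)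
    have nd : ∀ u : Fin n → F, u ≠ 0 → ∃ w, f u w ≠ 0 := fun u hu => by
      by_contra h3
      push Not at h3
      exact hu (hf.1 u h3)
    refine ⟨fun u w => ψ.symm (f u w), ⟨⟨fun x y w => by rw [map_add, LinearMap.add_apply, map_add],
      fun c x w => by rw [hφ, map_smul, LinearMap.smul_apply, smul_eq_mul, sm], fun w x y => by rw [map_add, map_add],
      fun c w x => by rw [hφ, map_smul, smul_eq_mul, sm]⟩, fun u w => by rw [← ha.neg_eq, map_neg],
      fun u => by rw [ha.self_eq_zero, map_zero], fun u hu => ?_⟩, fun x hx => ?_⟩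
    · obtain ⟨w, hw⟩ := nd u hu
      exact ⟨⟨w, by rwa [← ha.neg_eq, map_neg, neg_ne_zero, EmbeddingLike.map_ne_zero_iff]⟩,
        w, by rwa [EmbeddingLike.map_ne_zero_iff]⟩
    · obtain ⟨μ, hμ⟩ := hμ _ ⟨x, hx, rfl⟩ (RingEquiv.refl K) (hl x)
      have h3 : μ ≠ 0 := fun h0 => by
        obtain ⟨w, hw⟩ := nd (pm n F x v) fun e => hv (inj x e)
        obtain ⟨w, rfl⟩ := (pm n F x).surjective w
        exact hw (by rw [hμ, h0, zero_mul])
      exact ⟨Units.mk0 (ψ.symm μ) (by rwa [EmbeddingLike.map_ne_zero_iff]), fun u w => by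
        have h4 := congrArg ψ.symm (hμ u w)
        rwa [map_mul] at h4⟩
  rcases hc with hc | ⟨f, ha, hf, -, hμ⟩ | ⟨-, -, -, f, ha, hf, hμ, -⟩
  · refine (hne fun x hx => ?_).elim
    let g : (Fin n → F) ≃ₗ[K] (Fin n → F) :=
      { pm n F x with
        map_add' := fun u w => mulVec_add _ u w
        map_smul' := hl x }
    let B := (Pi.basisFun F (Fin n)).mapCoeffs ψ fun c w => (hφ c w).symm
    have hB : ∀ j, B j = Pi.basisFun F (Fin n) j := Module.Basis.mapCoeffs_apply _ _ _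
    have hr : ∀ w i, B.repr w i = ψ (w i) := fun w i => by
      have h4 : ∑ j, ψ (w j) • B j = w := by
        rw [← (Pi.basisFun F (Fin n)).sum_repr w]
        exact Finset.sum_congr rfl fun j _ => by rw [hB, (Pi.basisFun F (Fin n)).sum_repr w, hφ]; rfl
      exact (congrArg (B.repr · i) h4).symm.trans (congrFun (B.repr_sum_self _) i)
    have h3 : LinearMap.toMatrix B B (g : (Fin n → F) →ₗ[K] (Fin n → F)) = ψ.toRingHom.mapMatrix (x : Matrix (Fin n) (Fin n) F) := by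
      ext i j
      rw [LinearMap.toMatrix_apply, hr, hB, Pi.basisFun_apply]
      exact congrArg ψ (congrFun (mulVec_single_one _ j) i)
    obtain ⟨_, ⟨y, hy, rfl⟩, e⟩ := hc g (Units.ext (by
      rw [LinearEquiv.coe_det, ← LinearMap.det_toMatrix B, h3, ← RingHom.map_det, H831.Rl.mem_sl_iff.1 hx, map_one,
        Units.val_one]))
    rwa [← pm_inj (Equiv.ext e : pm n F y = pm n F x)]
  · exact key f ha hf hμ
  · exact key f ha hf hμ

omit [Field F] in
theorem no_sub [Fintype F] {p : ℕ} (hp : p.Prime) (hF : Fintype.card F = p) {a r : ℕ} (hr : r.Prime) : Fintype.card F ≠ a ^ r :=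
  fun h => hr.one_lt.ne' ((hp.pow_eq_iff.1 (h.symm.trans hF)).2)

theorem no_uni [Fintype F] {p : ℕ} (hp : p.Prime) (hF : Fintype.card F = p) {σ : F ≃+* F} : σ = RingEquiv.refl F := by
  have : Fact p.Prime := ⟨hp⟩
  have h1 := Lib.FieldAutCard.card_ringAut (F := F) (p := p) le_rfl (by rwa [pow_one])
  exact (Nat.card_eq_one_iff_unique.1 h1).1.elim _ _

theorem two_ne [Fintype F] (hF : Fintype.card F = 3) : (2 : F) ≠ 0 := fun h => by
  have h1 := FiniteField.cast_card_eq_zero F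
  rw [hF, show ((3 : ℕ) : F) = 2 + 1 by norm_num, h, zero_add] at h1
  exact one_ne_zero h1

theorem four [Fintype F] {Y : Subgroup (GL (Fin 4) F)} (h : Tr Y) (hF : Fintype.card F = 3)
    (hlt : Y < specialLinear (Fin 4) F) : Ext Y ∨ Sym Y := by
  obtain ⟨M, hM, hle⟩ := H905.exists_isMaximalIn_of_lt hlt
  rcases S5781.result M hM with ⟨W, h0, h1, rfl⟩ | ⟨h1, -⟩ | ⟨h1, -⟩ | ⟨K, hK, rfl⟩ | ⟨_, r, _, hr, h1, -⟩ |
    ⟨p, _, -, h1, h2, -⟩ | ⟨h1, Q, hQ, rfl⟩ | ⟨f, hf, rfl⟩ | ⟨σ, f, hf, -⟩ | h1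
  · exact (not_sub h h0 h1 (hle.trans inf_le_left)).elim
  · omega
  · omega
  · exact Or.inl (ext_of (by norm_num) Nat.prime_two hK (hle.trans inf_le_left))
  · exact (no_sub Nat.prime_three hF hr h1).elim
  · omega
  · exact (not_quad h (by norm_num) (two_ne hF) hQ (hle.trans inf_le_left)).elim
  · exact Or.inr ⟨f, hf, hle.trans inf_le_left⟩
  · exact (hf.ne_refl (no_uni Nat.prime_three hF)).elim
  · obtain ⟨P, p, -, -, h2, ⟨-, h3⟩ | ⟨-, h3⟩⟩ := S5782.result M hM h1 <;> omega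

theorem six_two [Fintype F] {Y : Subgroup (GL (Fin 6) F)} (h : Tr Y) (hF : Fintype.card F = 2)
    (hlt : Y < specialLinear (Fin 6) F) : Ext Y ∨ Sym Y := by
  obtain ⟨M, hM, hle⟩ := H905.exists_isMaximalIn_of_lt hlt
  rcases S5799.result M hM with ⟨W, h0, h1, rfl⟩ | ⟨h1, -⟩ | ⟨h1, -⟩ | ⟨D, hD, rfl⟩ | ⟨K, hK, rfl⟩ | ⟨K, hK, rfl⟩ | ⟨h1, -⟩ |
    ⟨_, r, _, hr, h1, -⟩ | ⟨h1, -⟩ | ⟨f, hf, rfl⟩ | ⟨σ, f, hf, -⟩ | h1
  · exact (not_sub h h0 h1 (hle.trans inf_le_left)).elim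
  · omega
  · omega
  · exact (not_dec h hD (hle.trans inf_le_left)).elim
  · exact Or.inl (ext_of (by norm_num) Nat.prime_two hK (hle.trans inf_le_left))
  · exact Or.inl (ext_of (by norm_num) Nat.prime_three hK (hle.trans inf_le_left))
  · omega
  · exact (no_sub Nat.prime_two hF hr h1).elim
  · rw [hF] at h1
    exact absurd h1 (by decide)
  · exact Or.inr ⟨f, hf, hle.trans inf_le_left⟩
  · exact (hf.ne_refl (no_uni Nat.prime_two hF)).elim
  · obtain ⟨P, p, -, hp, -, ⟨-, h3⟩ | ⟨-, h3 | ⟨h3, h4⟩⟩ | ⟨-, h3⟩ | ⟨-, h3⟩ | ⟨-, h3⟩ | ⟨-, h3⟩⟩ := S5800.result M hM h1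
    · omega
    · omega
    · have h5 : 5 ≤ p := by omega
      nlinarith
    · omega
    · omega
    · omega
    · rw [hF] at h3
      exact absurd h3 (by decide)

theorem six_three [Fintype F] {Y : Subgroup (GL (Fin 6) F)} (h : Tr Y) (hF : Fintype.card F = 3)
    (hY : Y ≤ specialLinear (Fin 6) F) (hne : ¬ specialLinear (Fin 6) F ≤ Y) (h7 : 7 ∣ Nat.card Y) : Ext Y ∨ Sym Y := by
  have : Fact (Nat.Prime 3) := ⟨Nat.prime_three⟩
  have p7 : Nat.Prime 7 := by norm_num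
  rcases H592.Rl.classes9 (p := 3) (f := 1) (k := 6) (by norm_num) (by norm_num) (by norm_num) le_rfl Nat.prime_three
    hF p7 (by rw [orderOf_eq_iff (by norm_num)]; decide) hY hne h7 with ⟨h1, -⟩ |
    (⟨s, K, hs, -, -, hK, h1⟩ | ⟨-, -, h1⟩ | ⟨-, Q, hQ, h1⟩ | ⟨h1, -⟩) | ⟨h1, -⟩ | ⟨h1, -⟩ | ⟨M, hM, hle, h1⟩
  · omega
  · exact Or.inl (ext_of (by norm_num) hs hK h1)
  · exact Or.inr h1
  · exact (not_quad h (by norm_num) (two_ne hF) hQ h1).elim
  · exact absurd h1 (by decide)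
  · omega
  · omega
  · obtain ⟨P, p, hP, hp, -, h2⟩ := S5800.result M hM h1
    have h4 := (H788.Rl.prime_dvd hP hM.1.le p7 (h7.trans (Subgroup.card_dvd_of_le hle))).resolve_left (by rw [hF]; decide)
    obtain ⟨-, h3⟩ | ⟨-, h3 | ⟨h3, h5⟩⟩ | ⟨-, h3⟩ | ⟨h3, -⟩ | ⟨-, h3⟩ | ⟨⟨e⟩, -⟩ := h2
    · omega
    · omega
    · have h5 : 5 ≤ p := by omega
      nlinarith
    · omega
    · exact absurd (h4.trans (H1.EP8.aut_m12 hP.simple (fun hc => hP.nonabelian ⟨⟨hc⟩⟩) h3)) (by decide)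
    · omega
    · have h5 := S0265.card_GL_eq_PGL (F := F) (n := 3) (by norm_num)
      rw [Matrix.card_GL_field, hF] at h5
      have h6 := h4.trans (H1.EP8.aut_congr e (dvd_of_eq (S0813.result 3 1 le_rfl hF 3 (by norm_num) (by norm_num))))
      rw [if_neg (by norm_num)] at h6
      have h8 : 7 ∣ Nat.card (ProjGenLinGroup (Fin 3) F) := by omega
      exact absurd (h5 ▸ h8.mul_left _) (by decide)

/-- **Hering's theorem in matrix form** -/
theorem boxHer : BoxHer := by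
  intro F _ _ n Y hn h42 hY hne h
  have hlt : Y < specialLinear (Fin n) F := lt_of_le_not_ge hY hne
  rcases H831.Rl.hAct_of_known (fun _ _ _ _ => S0000.result) (K := F) (V := Fin n → F) _ n rfl (Module.finrank_fin_fun F)
    (by omega) (Y.map (pm n F)) (by rintro _ ⟨x, -, rfl⟩; exact mulVec_add _)
    (by rintro _ ⟨x, -, rfl⟩; exact ⟨RingEquiv.refl F, fun c v => mulVec_smul _ c v⟩)
    (fun v w hv hw => let ⟨x, hx, c, e⟩ := h v w hv hw; ⟨_, ⟨x, hx, rfl⟩, c, e⟩) with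
    h1 | h1 | ⟨h1, -⟩ | ⟨h1, -⟩ | ⟨h1, h2, -⟩ | ⟨rfl, h2, -⟩ | ⟨rfl, h2, ⟨e⟩⟩ | ⟨rfl, h2, -⟩
  · exact Or.inl (two h hn h1)
  · exact nat h hn hne h1
  · omega
  · omega
  · exact (h42 ⟨h1, h2⟩).elim
  · exact four h h2 hlt
  · refine six_three h h2 hY hne ?_
    rw [← Subgroup.card_map_of_injective pm_inj, Nat.card_congr e.toEquiv, H91.HerCons.card_SL_thirteen]
    decide
  · exact six_two h h2 hlt

end Cfsg.Agent.SM.L.Her
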