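import Cfsg.Agent.SM.L.KMain
import Cfsg.Agent.S5948

/-!
# SM/L: the boxes K1 and K2 (helper89)
-/

set_option autoImplicit false

namespace Cfsg.Agent.SM.L

theorem boxK1 : BoxK1 := K.boxK1_of (Cfsg.Agent.H851.Rl.gpps_of fun {_} _ _ => S5948.result)

theorem boxK2 : BoxK2 := K.boxK2_of (Cfsg.Agent.H851.Rl.gpps_of fun {_} _ _ => S5948.result)

end Cfsg.Agent.SM.L
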