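import Cfsg.Agent.SM.L.Tr
import Cfsg.Agent.H727.GW.Isom
import Cfsg.Agent.S0752

/-!
# SM/L: rigidity of row A, `PSp_{2m}(q) < PSL_{2m}(q)` on the points (helper76)

* linear algebra: `iso_sl`, `card_spG`, `exists_move`, `exists_hyp`
* `Pts e pt` : the points of `Ω` are the one-dimensional subspaces;  `Pts.count`
* `Blk T x` : the union of the short orbits of `T_x`; it is the hyperplane `x^⊥` (`mem_blk`)
* `grp T` : the permutations that permute the blocks;  `boxRA`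
-/

set_option autoImplicit false
set_option linter.unusedSectionVars false

namespace Cfsg.Agent.SM.L.RA

open Cfsg Cfsg.Geo Matrix Equiv
open Cfsg.Agent.H851.Rl (pg)
open Cfsg.Agent.H199.PslAut (itGL)
open Cfsg.Agent.H727.GW (isomGroup card_isomGroup even_finrank)
open scoped MatrixGroups

section lin

variable {n : ℕ} {F : Type} [Field F] {f : (Fin n → F) → (Fin n → F) → F}

/-- the bundled form -/
def bil (hf : IsSymplecticForm f) : LinearMap.BilinForm F (Fin n → F) :=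
  LinearMap.mk₂ F f hf.bilinear.add_left hf.bilinear.smul_left hf.bilinear.add_right hf.bilinear.smul_right

theorem bil_apply (hf : IsSymplecticForm f) (u w : Fin n → F) : bil hf u w = f u w := rfl

theorem f_nd (hf : IsSymplecticForm f) {x : Fin n → F} (h : ∀ y, f x y = 0) : x = 0 := by
  by_contra h0
  obtain ⟨y, hy⟩ := (hf.nondegenerate x h0).2
  exact hy (h y)

theorem f_zero_left (hf : IsSymplecticForm f) (y : Fin n → F) : f 0 y = 0 := by
  have := hf.bilinear.smul_left 0 0 y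
  rwa [zero_smul, zero_mul] at this

theorem f_zero_right (hf : IsSymplecticForm f) (y : Fin n → F) : f y 0 = 0 := by
  rw [hf.skew, f_zero_left hf, neg_zero]

theorem exists_gl (hf : IsSymplecticForm f) (L : (Fin n → F) →ₗ[F] (Fin n → F)) (hL : ∀ u w, f (L u) (L w) = f u w) :
    ∃ y : GL (Fin n) F, Iso f y ∧ ∀ x, (y : Matrix (Fin n) (Fin n) F) *ᵥ x = L x := by
  have h1 : ∀ x, LinearMap.toMatrix' L *ᵥ x = L x := LinearMap.toMatrix'_mulVec L
  have h2 : IsUnit (LinearMap.toMatrix' L) := by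
    rw [← Matrix.mulVec_injective_iff_isUnit]
    intro u w h
    have h3 : L u = L w := by rw [← h1, ← h1]; exact h
    refine sub_eq_zero.1 (f_nd hf fun y => ?_)
    rw [← hL, map_sub, h3, sub_self, f_zero_left hf]
  exact ⟨h2.unit, fun u w => by rw [IsUnit.unit_spec, h1, h1, hL], fun x => by rw [IsUnit.unit_spec, h1]⟩

/-- isometries have determinant one -/
theorem iso_sl (hf : IsSymplecticForm f) {y : GL (Fin n) F} (hy : Iso f y) : y ∈ specialLinear (Fin n) F := by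
  classical
  have hBA : (bil hf).IsAlt := hf.alternating
  obtain ⟨m, k, e, h1, h2, h3, h4⟩ := Cfsg.Agent.S0752.result (bil hf) hBA
  have hk : k = 0 := by
    rcases Nat.eq_zero_or_pos k with h | h
    · exact h
    · exact absurd (f_nd hf (h4 ⟨0, h⟩)) (e.ne_zero _)
  subst hk
  let e' : Module.Basis (Fin m ⊕ Fin m) F (Fin n → F) := e.reindex (Equiv.sumEmpty (Fin m ⊕ Fin m) (Fin 0))
  have he' : ∀ i, e' i = e (Sum.inl i) := by
    intro i
    simp [e']
  have hG : LinearMap.toMatrix₂ e' e' (bil hf) = - Matrix.J (Fin m) F := by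
    ext i j
    rw [LinearMap.toMatrix₂_apply, he', he', Matrix.J]
    rcases i with i | i <;> rcases j with j | j
    · simp [h2]
    · simp [h1, Matrix.one_apply]
    · rw [← hBA.neg_eq, h1]
      simp [Matrix.one_apply, eq_comm]
    · simp [h3]
  let L : (Fin n → F) →ₗ[F] (Fin n → F) := Matrix.toLin' (y : Matrix (Fin n) (Fin n) F)
  have hc : (bil hf).compl₁₂ L L = bil hf := LinearMap.ext fun v => LinearMap.ext fun w => hy v w
  have h5 := LinearMap.toMatrix₂_compl₁₂ e' e' e' e' (bil hf) L L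
  rw [hc, hG] at h5
  have h6 : LinearMap.toMatrix e' e' L ∈ Matrix.symplecticGroup (Fin m) F := by
    rw [SymplecticGroup.mem_iff']
    simpa using h5.symm
  rw [mem_sl, ← LinearMap.det_toLin', ← LinearMap.det_toMatrix e']
  exact SymplecticGroup.det_eq_one h6

theorem spG_sl (hf : IsSymplecticForm f) : spG f ≤ specialLinear (Fin n) F := fun _ hy => iso_sl hf hy

theorem card_spG [Fintype F] (hf : IsSymplecticForm f) : ∃ m, n = 2 * m ∧ Nat.card (spG f) =
    Fintype.card F ^ (m ^ 2) * ∏ i ∈ Finset.range m, (Fintype.card F ^ (2 * (i + 1)) - 1) := by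
  obtain ⟨m, hm⟩ := even_finrank n (Fin n → F) (bil hf) hf.alternating (fun _ => f_nd hf) (Module.finrank_fin_fun F)
  refine ⟨m, by omega, ?_⟩
  rw [← card_isomGroup (bil hf) hf.alternating (fun _ => f_nd hf) (m := m) (by rw [Module.finrank_fin_fun]; omega)]
  refine Nat.card_congr (Equiv.ofBijective (fun y => ⟨LinearEquiv.ofBijective (Matrix.toLin' (y.1 : Matrix (Fin n) (Fin n) F))
    ⟨fun _ _ h => mv_inj y.1 h, fun w => ⟨_, mv_inv y.1 w⟩⟩, y.2⟩) ⟨fun x y h => ?_, fun g => ?_⟩)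
  · exact Subtype.ext (Units.ext (Matrix.toLin'.injective (congrArg (fun g : isomGroup (bil hf) => g.1.toLinearMap) h)))
  · obtain ⟨y, hy, h⟩ := exists_gl hf g.1.toLinearMap g.2
    exact ⟨⟨y, hy⟩, Subtype.ext (LinearEquiv.ext h)⟩

/-- the scalar isometries -/
theorem card_scal [Fintype F] (hf : IsSymplecticForm f) (hn : 1 ≤ n) :
    Nat.card ((scalars (Fin n) F).subgroupOf (spG f)) = Nat.gcd 2 (Fintype.card F - 1) := by
  classical
  have : Nonempty (Fin n) := ⟨⟨0, hn⟩⟩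
  obtain ⟨u, hu⟩ := exists_ne (0 : Fin n → F)
  obtain ⟨w, hw⟩ := (hf.nondegenerate u hu).2
  let j : Fˣ →* GL (Fin n) F := Units.map (Matrix.scalar (Fin n) : F →+* Matrix (Fin n) (Fin n) F).toMonoidHom
  have hj : ∀ (c : Fˣ) x, (j c : Matrix (Fin n) (Fin n) F) *ᵥ x = (c : F) • x := fun c x => by
    show Matrix.scalar (Fin n) (c : F) *ᵥ x = _
    rw [Matrix.scalar_apply, ← Matrix.smul_one_eq_diagonal, smul_mulVec, one_mulVec]
  have h1 : ∀ c : Fˣ, Iso f (j c) ↔ c ^ 2 = 1 := fun c => by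
    have h2 : ∀ x y, f ((j c : Matrix (Fin n) (Fin n) F) *ᵥ x) ((j c : Matrix (Fin n) (Fin n) F) *ᵥ y) =
        ((c ^ 2 : Fˣ) : F) * f x y := fun x y => by
      rw [hj, hj, hf.bilinear.smul_left, hf.bilinear.smul_right, Units.val_pow_eq_pow_val]
      ring
    refine ⟨fun h => Units.ext (mul_right_cancel₀ hw ?_), fun h x y => by rw [h2, h, Units.val_one, one_mul]⟩
    rw [← h2, h, Units.val_one, one_mul]
  rw [Nat.gcd_comm, ← Fintype.card_units, ← Nat.card_eq_fintype_card, ← IsCyclic.card_powMonoidHom_ker]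
  refine (Nat.card_congr (Equiv.ofBijective (fun c : (powMonoidHom 2 : Fˣ →* Fˣ).ker =>
    (⟨⟨j c, (h1 c).2 c.2⟩, c, rfl⟩ : (scalars (Fin n) F).subgroupOf (spG f))) ⟨fun c d h => ?_, ?_⟩)).symm
  · have h3 : j c = j d := congrArg (fun y : (scalars (Fin n) F).subgroupOf (spG f) => y.1.1) h
    have h4 := hj c u
    rw [h3, hj] at h4
    exact Subtype.ext (Units.ext (smul_left_injective F hu h4).symm)
  · rintro ⟨⟨y, hy⟩, c, hc⟩
    obtain rfl : j c = y := hc
    exact ⟨⟨c, (h1 c).1 hy⟩, rfl⟩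

/-- symplectic transvections -/
theorem exists_tv (hf : IsSymplecticForm f) (z : Fin n → F) (c : F) :
    ∃ y : GL (Fin n) F, Iso f y ∧ ∀ x, (y : Matrix (Fin n) (Fin n) F) *ᵥ x = x + (c * f x z) • z := by
  refine exists_gl hf (LinearMap.id + (c • (bil hf).flip z).smulRight z) fun u w => ?_
  show f (u + (c * f u z) • z) (w + (c * f w z) • z) = f u w
  rw [hf.bilinear.add_left, hf.bilinear.add_right, hf.bilinear.add_right, hf.bilinear.smul_left, hf.bilinear.smul_left,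
    hf.bilinear.smul_right, hf.bilinear.smul_right, hf.alternating, hf.skew z w]
  ring

theorem move_aux (hf : IsSymplecticForm f) {u w w' : Fin n → F} (h : f u w = f u w') (h0 : f w w' ≠ 0) :
    ∃ y : GL (Fin n) F, Iso f y ∧ (y : Matrix (Fin n) (Fin n) F) *ᵥ u = u ∧ (y : Matrix (Fin n) (Fin n) F) *ᵥ w = w' := by
  obtain ⟨y, hy, h1⟩ := exists_tv hf (w' + (-1 : F) • w) (f w w')⁻¹
  refine ⟨y, hy, ?_, ?_⟩
  · rw [h1, hf.bilinear.add_right, hf.bilinear.smul_right, h, neg_one_mul, add_neg_cancel, mul_zero, zero_smul, add_zero]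
  · rw [h1, hf.bilinear.add_right, hf.bilinear.smul_right, hf.alternating, mul_zero, add_zero, inv_mul_cancel₀ h0, one_smul,
      neg_one_smul]
    abel

/-- the stabiliser of `u` is transitive on the vectors with a given non-zero product with `u` -/
theorem exists_move (hf : IsSymplecticForm f) {u w w' : Fin n → F} (h : f u w = f u w') (h0 : f u w ≠ 0) :
    ∃ y : GL (Fin n) F, Iso f y ∧ (y : Matrix (Fin n) (Fin n) F) *ᵥ u = u ∧ (y : Matrix (Fin n) (Fin n) F) *ᵥ w = w' := by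
  by_cases h1 : f w w' = 0
  · have h2 : f u w = f u (w + u) := by rw [hf.bilinear.add_right, hf.alternating, add_zero]
    obtain ⟨y, hy, e1, e2⟩ := move_aux hf h2 (by
      rw [hf.bilinear.add_right, hf.alternating, zero_add, hf.skew]
      exact neg_ne_zero.2 h0)
    obtain ⟨x, hx, e3, e4⟩ := move_aux hf (h2.symm.trans h) (by rwa [hf.bilinear.add_left, h1, zero_add, ← h])
    exact ⟨x * y, (spG f).mul_mem hx hy, by rw [mul_mv, e1, e3], by rw [mul_mv, e2, e4]⟩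
  · exact move_aux hf h h1

/-- invertible matrices permute the hyperplanes -/
theorem exists_hyp (hf : IsSymplecticForm f) (g : GL (Fin n) F) {u : Fin n → F} (hu : u ≠ 0) :
    ∃ u', u' ≠ 0 ∧ ∀ w, f u' ((g : Matrix (Fin n) (Fin n) F) *ᵥ w) = f u w := by
  obtain ⟨G, hG⟩ := exists_gram hf
  exact ⟨_, mv_ne (G⁻¹ * itGL g * G) hu, fun w => by rw [hG, hG, mul_mv, mul_mv, mv_inv, it_dot]⟩

theorem exists_perp (hf : IsSymplecticForm f) (hn : 3 ≤ n) (u c : Fin n → F) : ∃ w, w ≠ 0 ∧ f u w = 0 ∧ f c w = 0 := by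
  let L : (Fin n → F) →ₗ[F] F × F := (bil hf u).prod (bil hf c)
  have hL : LinearMap.ker L ≠ ⊥ := LinearMap.ker_ne_bot_of_finrank_lt (by
    rw [Module.finrank_prod, Module.finrank_self, Module.finrank_fin_fun]
    omega)
  obtain ⟨w, hw, hw0⟩ := (Submodule.ne_bot_iff _).1 hL
  exact ⟨w, hw0, congrArg Prod.fst hw, congrArg Prod.snd hw⟩

end lin

section pts

variable {Ω : Type} [Fintype Ω] [DecidableEq Ω] {S T : Subgroup (Perm Ω)} {n : ℕ} {F : Type} [Field F]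
  {e : S ≃* Matrix.ProjectiveSpecialLinearGroup (Fin n) F} {pt : (Fin n → F) → Ω} {f : (Fin n → F) → (Fin n → F) → F}

/-- `Ω` is the projective space -/
structure Pts (e : S ≃* Matrix.ProjectiveSpecialLinearGroup (Fin n) F) (pt : (Fin n → F) → Ω) : Prop where
  act : ∀ (g : specialLinear (Fin n) F) (w : Fin n → F), w ≠ 0 →
    pj e g (pt w) = pt (((g : GL (Fin n) F) : Matrix (Fin n) (Fin n) F) *ᵥ w)
  eq : ∀ u w, u ≠ 0 → w ≠ 0 → (pt u = pt w ↔ ∃ c : F, w = c • u)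
  surj : ∀ x, ∃ w, w ≠ 0 ∧ pt w = x

theorem exists_pts (e : S ≃* Matrix.ProjectiveSpecialLinearGroup (Fin n) F) (hn : 3 ≤ n) {a : Ω} {v : Fin n → F} (hv : v ≠ 0)
    (hst : ∀ g : specialLinear (Fin n) F, pj e g a = a ↔ FixP (g : GL (Fin n) F) v) (htr : ∀ b, ∃ s ∈ S, s a = b) :
    ∃ pt, Pts e pt := by
  have h1 : ∀ w : Fin n → F, ∃ g : specialLinear (Fin n) F,
      w ≠ 0 → ((g : GL (Fin n) F) : Matrix (Fin n) (Fin n) F) *ᵥ v = w := fun w => by
    by_cases hw : w = 0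
    · exact ⟨1, fun h => absurd hw h⟩
    · obtain ⟨g, hg, h⟩ := H831.Rl.sl_trans hn hv hw
      exact ⟨⟨g, hg⟩, fun _ => h⟩
  choose r hr using h1
  have h2 : ∀ g k : specialLinear (Fin n) F, pj e g a = pj e k a ↔ ∃ c : F,
      ((k : GL (Fin n) F) : Matrix (Fin n) (Fin n) F) *ᵥ v = c • ((g : GL (Fin n) F) : Matrix (Fin n) (Fin n) F) *ᵥ v := by
    intro g k
    rw [eq_comm, ← Perm.inv_eq_iff_eq, ← Perm.mul_apply, ← map_inv, ← map_mul, hst]
    refine exists_congr fun c => ?_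
    rw [Subgroup.coe_mul, Subgroup.coe_inv, mul_mv, ← mulVec_smul]
    exact ⟨fun h => by rw [← h, mv_inv], fun h => by rw [h, inv_mv]⟩
  have h3 : ∀ (g : specialLinear (Fin n) F) (w : Fin n → F), ((g : GL (Fin n) F) : Matrix (Fin n) (Fin n) F) *ᵥ v = w →
      pj e g a = pj e (r w) a := fun g w h => (h2 _ _).2 ⟨1, by rw [one_smul, h, hr w (h ▸ mv_ne _ hv)]⟩
  refine ⟨fun w => pj e (r w) a, fun g w hw => ?_, fun u w hu hw => ?_, fun x => ?_⟩
  · rw [← Perm.mul_apply, ← map_mul]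
    exact h3 _ _ (by rw [Subgroup.coe_mul, mul_mv, hr w hw])
  · rw [h2, hr u hu, hr w hw]
  · obtain ⟨s, hs, rfl⟩ := htr x
    obtain ⟨g, rfl⟩ := pj_surj e hs
    exact ⟨_, mv_ne (g : GL (Fin n) F) hv, (h3 g _ rfl).symm⟩

theorem Pts.smul (h : Pts e pt) {w : Fin n → F} (hw : w ≠ 0) {c : F} (hc : c ≠ 0) : pt (c • w) = pt w :=
  ((h.eq w _ hw (smul_ne_zero hc hw)).2 ⟨c, rfl⟩).symm

theorem Pts.count [Fintype F] (h : Pts e pt) (A : Set Ω) :
    {w | w ≠ 0 ∧ pt w ∈ A}.ncard = A.ncard * (Fintype.card F - 1) := by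
  classical
  choose r hr hp using h.surj
  rw [← Fintype.card_units, ← Nat.card_eq_fintype_card, ← Nat.card_coe_set_eq, ← Nat.card_coe_set_eq, ← Nat.card_prod]
  refine (Nat.card_congr (Equiv.ofBijective (fun p : A × Fˣ => (⟨(p.2 : F) • r p.1, smul_ne_zero p.2.ne_zero (hr _), by
    rw [h.smul (hr _) p.2.ne_zero, hp]
    exact p.1.2⟩ : {w | w ≠ 0 ∧ pt w ∈ A})) ⟨?_, ?_⟩)).symm
  · rintro ⟨x, c⟩ ⟨y, d⟩ k
    have k1 : (c : F) • r x = (d : F) • r y := congrArg Subtype.val k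
    have k2 : x = y := Subtype.ext (by rw [← hp x, ← hp y, ← h.smul (hr x) c.ne_zero, k1, h.smul (hr y) d.ne_zero])
    subst k2
    rw [Units.ext (smul_left_injective F (hr x) k1)]
  · rintro ⟨w, hw, hA⟩
    obtain ⟨c, hc⟩ := (h.eq _ w (hr (pt w)) hw).1 (hp _)
    have h0 : c ≠ 0 := by
      rintro rfl
      exact hw (by rw [hc, zero_smul])
    exact ⟨(⟨pt w, hA⟩, Units.mk0 c h0), Subtype.ext hc.symm⟩

theorem Pts.card [Fintype F] (h : Pts e pt) : Fintype.card Ω * (Fintype.card F - 1) = Fintype.card F ^ n - 1 := by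
  have h1 := h.count Set.univ
  have h2 : {w : Fin n → F | w ≠ 0 ∧ pt w ∈ Set.univ} = {0}ᶜ := by
    ext w
    simp
  have h3 := Set.ncard_add_ncard_compl ({0} : Set (Fin n → F))
  rw [h2, Set.ncard_univ, Nat.card_eq_fintype_card] at h1
  rw [h1, Set.ncard_singleton, Nat.card_eq_fintype_card, Fintype.card_fun, Fintype.card_fin] at h3
  omega

/-- the hyperplane `u^⊥` -/
def hyp (pt : (Fin n → F) → Ω) (f : (Fin n → F) → (Fin n → F) → F) (u : Fin n → F) : Set Ω :=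
  {x | ∃ w, w ≠ 0 ∧ pt w = x ∧ f u w = 0}

theorem Pts.mem_hyp (h : Pts e pt) (hf : IsSymplecticForm f) {u w : Fin n → F} (hw : w ≠ 0) :
    pt w ∈ hyp pt f u ↔ f u w = 0 := by
  refine ⟨fun ⟨w', h1, h2, h3⟩ => ?_, fun k => ⟨w, hw, rfl, k⟩⟩
  obtain ⟨c, rfl⟩ := (h.eq w' w h1 hw).1 h2
  rw [hf.bilinear.smul_right, h3, mul_zero]

theorem Pts.hyp_lt [Fintype F] (h : Pts e pt) (hf : IsSymplecticForm f) {u : Fin n → F} (hu : u ≠ 0) :
    (hyp pt f u).ncard < (hyp pt f u)ᶜ.ncard := by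
  obtain ⟨c, hc⟩ := (hf.nondegenerate u hu).2
  refine lt_of_mul_lt_mul_right (a := Fintype.card F - 1) ?_ (Nat.zero_le _)
  rw [← h.count, ← h.count, Nat.lt_iff_add_one_le, ← Set.ncard_insert_of_notMem (a := 0) (fun k => k.1 rfl)]
  refine Set.ncard_le_ncard_of_injOn (fun w => w + c) (fun w hw => ?_) (fun _ _ _ _ k => add_right_cancel k)
  have h1 : f u (w + c) ≠ 0 := by
    have h2 : f u w = 0 := by
      rcases hw with rfl | hw
      · exact f_zero_right hf u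
      · exact (h.mem_hyp hf hw.1).1 hw.2
    rwa [hf.bilinear.add_right, h2, zero_add]
  have h3 : w + c ≠ 0 := fun k => h1 (by rw [k, f_zero_right hf])
  exact ⟨h3, fun k => h1 ((h.mem_hyp hf h3).1 k)⟩

/-- the points in the short orbits of the stabiliser -/
def Blk (T : Subgroup (Perm Ω)) (x : Ω) : Set Ω :=
  {y | 2 * {z | ∃ t ∈ T, t x = x ∧ t y = z}.ncard ≤ Fintype.card Ω}

theorem blk_conj {p : Perm Ω} (h1 : ∀ t ∈ T, p * t * p⁻¹ ∈ T) (h2 : ∀ t ∈ T, p⁻¹ * t * p⁻¹⁻¹ ∈ T) (x y : Ω) :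
    y ∈ Blk T x ↔ p y ∈ Blk T (p x) := by
  have h3 : {z | ∃ t ∈ T, t (p x) = p x ∧ t (p y) = z} = p '' {z | ∃ t ∈ T, t x = x ∧ t y = z} := by
    ext z
    constructor
    · rintro ⟨t, ht, e1, rfl⟩
      exact ⟨_, ⟨_, h2 t ht, by simp [e1], rfl⟩, by simp⟩
    · rintro ⟨_, ⟨t, ht, e1, rfl⟩, rfl⟩
      exact ⟨_, h1 t ht, by simp [e1], by simp⟩
  show _ ↔ 2 * {z | ∃ t ∈ T, t (p x) = p x ∧ t (p y) = z}.ncard ≤ _
  rw [h3, Set.ncard_image_of_injective _ p.injective]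
  rfl

/-- `p` maps blocks to blocks -/
def Pres (T : Subgroup (Perm Ω)) (p : Perm Ω) : Prop := ∀ x, ∃ x', ∀ y, y ∈ Blk T x ↔ p y ∈ Blk T x'

theorem Pres.mul {p q : Perm Ω} (hp : Pres T p) (hq : Pres T q) : Pres T (p * q) := fun x => by
  obtain ⟨x', h1⟩ := hq x
  obtain ⟨x'', h2⟩ := hp x'
  exact ⟨x'', fun y => (h1 y).trans (h2 _)⟩

/-- the permutations of the blocks -/
def grp (T : Subgroup (Perm Ω)) : Subgroup (Perm Ω) where
  carrier := {p | Pres T p ∧ Pres T p⁻¹}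
  one_mem' := ⟨fun x => ⟨x, fun _ => Iff.rfl⟩, fun x => ⟨x, fun _ => Iff.rfl⟩⟩
  mul_mem' := fun hp hq => ⟨hp.1.mul hq.1, by
    rw [_root_.mul_inv_rev]
    exact hq.2.mul hp.2⟩
  inv_mem' := fun hp => ⟨hp.2, by
    rw [inv_inv]
    exact hp.1⟩

theorem le_grp {K : Subgroup (Perm Ω)} (h : ∀ p ∈ K, Pres T p) : K ≤ grp T := fun p hp => ⟨h p hp, h _ (K.inv_mem hp)⟩

/-- **the blocks are the hyperplanes** -/
theorem Pts.mem_blk [Fintype F] (h : Pts e pt) (hf : IsSymplecticForm f) (hTS : T ≤ S)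
    (hT : ∀ g : specialLinear (Fin n) F, pj e g ∈ T ↔ ∃ y, Iso f y ∧ ∃ z ∈ scalars (Fin n) F, (g : GL (Fin n) F) = y * z)
    {u w : Fin n → F} (hu : u ≠ 0) (hw : w ≠ 0) : pt w ∈ Blk T (pt u) ↔ f u w = 0 := by
  have h1 := h.hyp_lt hf hu
  have h2 := Set.ncard_add_ncard_compl (hyp pt f u)
  rw [Nat.card_eq_fintype_card] at h2
  show 2 * {z | ∃ t ∈ T, t (pt u) = pt u ∧ t (pt w) = z}.ncard ≤ _ ↔ _
  constructor
  · intro k
    by_contra h0
    have h3 : (hyp pt f u)ᶜ ⊆ {z | ∃ t ∈ T, t (pt u) = pt u ∧ t (pt w) = z} := by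
      intro x hx
      obtain ⟨w', hw', rfl⟩ := h.surj x
      have h4 : f u w' ≠ 0 := fun k => hx ((h.mem_hyp hf hw').2 k)
      obtain ⟨y, hy, e1, e2⟩ := exists_move hf (w' := (f u w * (f u w')⁻¹) • w')
        (by rw [hf.bilinear.smul_right, mul_assoc, inv_mul_cancel₀ h4, mul_one]) h0
      refine ⟨pj e ⟨y, iso_sl hf hy⟩, (hT _).2 ⟨y, hy, 1, Subgroup.one_mem _, (mul_one y).symm⟩, ?_, ?_⟩
      · rw [h.act _ u hu]
        exact congrArg pt e1
      · rw [h.act _ w hw, ← h.smul hw' (mul_ne_zero h0 (inv_ne_zero h4))]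
        exact congrArg pt e2
    have := Set.ncard_le_ncard h3
    omega
  · intro k
    have h3 : {z | ∃ t ∈ T, t (pt u) = pt u ∧ t (pt w) = z} ⊆ hyp pt f u := by
      rintro _ ⟨t, ht, e1, rfl⟩
      obtain ⟨g, rfl⟩ := pj_surj e (hTS ht)
      obtain ⟨y, hy, z, hz, e2⟩ := (hT g).1 ht
      obtain ⟨d, hd⟩ := (mem_scalars_iff z).1 hz
      rw [h.act g u hu] at e1
      obtain ⟨c, hc⟩ := (h.eq _ u (mv_ne _ hu) hu).1 e1
      rw [h.act g w hw, h.mem_hyp hf (mv_ne _ hw), hc, hf.bilinear.smul_left, e2, mul_mv, mul_mv, hy, hd, smul_mulVec,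
        smul_mulVec, one_mulVec, one_mulVec, hf.bilinear.smul_left, hf.bilinear.smul_right, k, mul_zero, mul_zero, mul_zero]
    have := Set.ncard_le_ncard h3
    omega

end pts

theorem boxRA : BoxRA := by
  intro Ω _ _ T
  refine ⟨grp T, fun X H M S F _ _ n e a f v u r => ?_⟩
  have hf := r.sym
  have hn : 3 ≤ n := le_trans (by norm_num) r.four
  have hT : ∀ g : specialLinear (Fin n) F, pj e g ∈ T ↔
      ∃ y, Iso f y ∧ ∃ z ∈ scalars (Fin n) F, (g : GL (Fin n) F) = y * z := fun g => by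
    rw [← mem_pg, r.memR, and_iff_right g.2]
  obtain ⟨pt, h⟩ := exists_pts e hn r.ne (a := a) (fun g => by
    rw [← and_iff_right (b := FixP (g : GL (Fin n) F) v) g.2, ← r.memC, mem_pg]
    exact ⟨fun k => ⟨u.socM.le (pj_mem e g), k⟩, fun k => k.2⟩) fun b => by
    obtain ⟨t, ht, k⟩ := u.trans a b
    exact ⟨t, u.le ht, k⟩
  have hb : ∀ {x w : Fin n → F}, x ≠ 0 → w ≠ 0 → (pt w ∈ Blk T (pt x) ↔ f x w = 0) := h.mem_blk hf u.le hT
  refine ⟨fun m hm => ?_, fun hA => ?_, ?_⟩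
  · obtain ⟨p, hp, s, hs, rfl⟩ := (u.fac a).facH m hm
    refine (grp T).mul_mem (le_grp (K := H) (fun p hp x => ⟨p x, blk_conj (u.socH.conj p hp)
      (u.socH.conj _ (H.inv_mem hp)) x⟩) hp.1) (le_grp (K := S) (fun s hs x => ?_) hs)
    obtain ⟨g, rfl⟩ := pj_surj e hs
    obtain ⟨x, hx, rfl⟩ := h.surj x
    obtain ⟨x', hx', k⟩ := exists_hyp hf (g : GL (Fin n) F) hx
    refine ⟨pt x', fun y => ?_⟩
    obtain ⟨w, hw, rfl⟩ := h.surj y
    rw [h.act g w hw, hb hx hw, hb hx' (mv_ne _ hw), k]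
  · have hv := r.ne
    obtain ⟨c, hc⟩ := (hf.nondegenerate v hv).2
    obtain ⟨w, hw, h1, h2⟩ := exists_perp hf hn v c
    have hc0 : c ≠ 0 := fun k => hc (by rw [k, f_zero_right hf])
    have hcv : f v (c + v) ≠ 0 := by rwa [hf.bilinear.add_right, hf.alternating, add_zero]
    have hcv0 : c + v ≠ 0 := fun k => hcv (by rw [k, f_zero_right hf])
    have hc' : f c v ≠ 0 := by
      rw [hf.skew]
      exact neg_ne_zero.2 hc
    have hwv : f c (w + v) ≠ 0 := by rwa [hf.bilinear.add_right, h2, zero_add]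
    have hwv0 : w + v ≠ 0 := fun k => hwv (by rw [k, f_zero_right hf])
    have h3 : f v (w + v) = 0 := by rw [hf.bilinear.add_right, h1, hf.alternating, add_zero]
    have ne1 : ∀ {x y z : Fin n → F}, y ≠ 0 → z ≠ 0 → f x y = 0 → f x z ≠ 0 → pt y ≠ pt z := by
      intro x y z hy hz k1 k2 k
      obtain ⟨d, rfl⟩ := (h.eq y z hy hz).1 k
      exact k2 (by rw [hf.bilinear.smul_right, k1, mul_zero])
    have n1 : pt v ≠ pt c := ne1 hv hc0 (hf.alternating v) hc
    have n2 : pt v ≠ pt (c + v) := ne1 hv hcv0 (hf.alternating v) hcv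
    have n3 : pt c ≠ pt (c + v) := ne1 hc0 hcv0 (hf.alternating c) (by rwa [hf.bilinear.add_right, hf.alternating, zero_add])
    have n4 : pt w ≠ pt v := ne1 hw hv h2 hc'
    have n5 : pt (w + v) ≠ pt v := fun k => by
      obtain ⟨d, hd⟩ := (h.eq v _ hv hwv0).1 k.symm
      have k1 := congrArg (f c) hd
      rw [hf.bilinear.add_right, h2, zero_add, hf.bilinear.smul_right] at k1
      rw [(mul_left_eq_self₀.1 k1.symm).resolve_right hc', one_smul] at hd
      exact hw (add_eq_right.1 hd)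
    have hp : swap (pt c) (pt (c + v)) * swap (pt v) (pt c) ∈ alternatingGroup Ω := by
      rw [Perm.mem_alternatingGroup, map_mul, Perm.sign_swap n3, Perm.sign_swap n1, neg_mul_neg, one_mul]
    obtain ⟨x, hx⟩ := (hA hp).1 (pt v)
    obtain ⟨x, hx0, rfl⟩ := h.surj x
    have k : ∀ y, y ≠ 0 → f v y = 0 → pt y ≠ pt v → f x y = 0 := by
      intro y hy k1 k2
      have k3 := (hx (pt y)).1 ((hb hv hy).2 k1)
      rwa [Perm.mul_apply, swap_apply_of_ne_of_ne k2 (ne1 hy hc0 k1 hc),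
        swap_apply_of_ne_of_ne (ne1 hy hc0 k1 hc) (ne1 hy hcv0 k1 hcv), hb hx0 hy] at k3
    have k4 := k _ hwv0 h3 n5
    rw [hf.bilinear.add_right, k w hw h1 n4, zero_add] at k4
    refine hc ((hb hv hc0).1 ((hx _).2 ?_))
    rwa [Perm.mul_apply, swap_apply_right, swap_apply_of_ne_of_ne n1 n2, hb hx0 hv]
  · obtain ⟨m, hm, hc⟩ := card_spG hf
    refine ⟨m, hm, hm ▸ h.card, ?_⟩
    let φ : spG f →* Perm Ω := (pj e).comp (Subgroup.inclusion (spG_sl hf))
    have h1 : φ.range = T := by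
      refine le_antisymm ?_ fun t ht => ?_
      · rintro _ ⟨y, rfl⟩
        exact (hT _).2 ⟨y, y.2, 1, Subgroup.one_mem _, (mul_one _).symm⟩
      · obtain ⟨g, rfl⟩ := pj_surj e (u.le ht)
        obtain ⟨y, hy, z, hz, k⟩ := (hT g).1 ht
        refine ⟨⟨y, hy⟩, ?_⟩
        have h2 : pj e ((⟨y, iso_sl hf hy⟩ : specialLinear (Fin n) F)⁻¹ * g) = 1 := (pj_eq_one e).2 (by
          rwa [Subgroup.coe_mul, Subgroup.coe_inv, k, inv_mul_cancel_left])
        rw [map_mul, map_inv] at h2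
        exact inv_mul_eq_one.1 h2
    have h2 : φ.ker = (scalars (Fin n) F).subgroupOf (spG f) := Subgroup.ext fun y => pj_eq_one e
    rw [← hc, ← card_scal hf (by omega), ← h1, ← h2, ← Subgroup.index_ker, mul_comm, Subgroup.card_mul_index]

end Cfsg.Agent.SM.L.RA
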