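import Mathlib

/-!
# SM (S3570), `boxRB`: matrices over the field with three elements (helper79)
-/

set_option autoImplicit false
set_option maxHeartbeats 400000

namespace Cfsg.Agent.SM.L.RB

open Matrix
open scoped MatrixGroups

section gen

variable {F : Type} [CommRing F]

/-- the standard symplectic form -/
def J (F : Type) [CommRing F] : Matrix (Fin 4) (Fin 4) F := !![0, 1, 0, 0; -1, 0, 0, 0; 0, 0, 0, 1; 0, 0, -1, 0]

/-- block matrices `1 + 3` -/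
def Blk (g : Matrix (Fin 4) (Fin 4) F) : Prop := ∀ j : Fin 4, j ≠ 0 → g j 0 = 0 ∧ g 0 j = 0

/-- similarities of the standard form -/
def Sim (g : Matrix (Fin 4) (Fin 4) F) : Prop := ∃ c : F, c ≠ 0 ∧ gᵀ * J F * g = c • J F

/-- the polar form of the Pfaffian -/
def tau (g : Matrix (Fin 4) (Fin 4) F) : F := trace (J F * (gᵀ * J F * g))

theorem det4 (A : Matrix (Fin 4) (Fin 4) F) (h : Blk A) : A.det = A 0 0 * (A.submatrix Fin.succ Fin.succ).det := by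
  rw [det_succ_row_zero, Fin.sum_univ_succ, Finset.sum_eq_zero, add_zero]
  · simp
  · intro j _
    rw [(h _ (Fin.succ_ne_zero j)).2]
    simp

theorem JJ : J F * J F = -1 := by
  ext i j
  fin_cases i <;> fin_cases j <;> simp [J, Matrix.mul_apply, Fin.sum_univ_four]

theorem Blk.eq {g : Matrix (Fin 4) (Fin 4) F} (h : Blk g) :
    g = !![g 0 0, 0, 0, 0; 0, g 1 1, g 1 2, g 1 3; 0, g 2 1, g 2 2, g 2 3; 0, g 3 1, g 3 2, g 3 3] := by
  have h1 := h 1 (by decide)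
  have h2 := h 2 (by decide)
  have h3 := h 3 (by decide)
  ext i j
  fin_cases i <;> fin_cases j <;> simp [h1.1, h1.2, h2.1, h2.2, h3.1, h3.2]

theorem blk_mk (l a b c d e f g h i : F) : Blk !![l, 0, 0, 0; 0, a, b, c; 0, d, e, f; 0, g, h, i] := by
  intro j hj
  fin_cases j
  · exact absurd rfl hj
  all_goals exact ⟨rfl, rfl⟩

theorem form_mk (l a b c d e f g h i : F) :
    (!![l, 0, 0, 0; 0, a, b, c; 0, d, e, f; 0, g, h, i] : Matrix (Fin 4) (Fin 4) F)ᵀ * J F *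
      !![l, 0, 0, 0; 0, a, b, c; 0, d, e, f; 0, g, h, i] =
      !![0, l * a, l * b, l * c; -(l * a), 0, d * h - g * e, d * i - g * f; -(l * b), g * e - d * h, 0, e * i - h * f;
        -(l * c), g * f - d * i, h * f - e * i, 0] := by
  ext x y
  fin_cases x <;> fin_cases y <;> simp [J, Matrix.mul_apply, Fin.sum_univ_four] <;> ring

theorem tau_mk (l a b c d e f g h i : F) :
    tau !![l, 0, 0, 0; 0, a, b, c; 0, d, e, f; 0, g, h, i] = -2 * (l * a + (e * i - h * f)) := by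
  rw [tau, form_mk]
  simp [J, trace, Fin.sum_univ_four]
  ring

theorem det_mk (l a b c d e f g h i : F) :
    (!![l, 0, 0, 0; 0, a, b, c; 0, d, e, f; 0, g, h, i] : Matrix (Fin 4) (Fin 4) F).det =
      l * (a * (e * i - h * f) - b * (d * i - g * f) + c * (d * h - g * e)) := by
  rw [det4 _ (blk_mk l a b c d e f g h i), det_fin_three]
  simp [Fin.succ]
  ring

end gen

abbrev K := ZMod 3

theorem sq_one : ∀ c : K, c ≠ 0 → c * c = 1 := by decide

theorem mul_zero_iff : ∀ c d : K, c ≠ 0 → (c * d = 0 ↔ d = 0) := by decide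

theorem tau_left {k : Matrix (Fin 4) (Fin 4) K} (h : Sim k) (g : Matrix (Fin 4) (Fin 4) K) :
    tau (k * g) = 0 ↔ tau g = 0 := by
  obtain ⟨c, hc, e⟩ := h
  have : (k * g)ᵀ * J K * (k * g) = c • (gᵀ * J K * g) := by
    rw [transpose_mul, show gᵀ * kᵀ * J K * (k * g) = gᵀ * (kᵀ * J K * k) * g by simp only [Matrix.mul_assoc], e]
    simp
  rw [tau, this, Matrix.mul_smul, trace_smul, smul_eq_mul, mul_zero_iff _ _ hc, tau]

theorem tau_right {k : Matrix (Fin 4) (Fin 4) K} (h : Sim k) (g : Matrix (Fin 4) (Fin 4) K) :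
    tau (g * k) = 0 ↔ tau g = 0 := by
  obtain ⟨c, hc, e⟩ := h
  have h1 : kᵀ * ((-c) • (J K * k * J K)) = 1 := by
    rw [Matrix.mul_smul, show kᵀ * (J K * k * J K) = kᵀ * J K * k * J K by simp only [Matrix.mul_assoc], e,
      Matrix.smul_mul, JJ, smul_smul, neg_mul, sq_one c hc]
    simp
  have h2 := mul_eq_one_comm.1 h1
  have h3 : k * J K * kᵀ = c • J K := by
    have h4 : (-(J K)) * (J K * k * J K * kᵀ) = k * J K * kᵀ := by
      rw [show (-(J K)) * (J K * k * J K * kᵀ) = -(J K * J K) * (k * J K * kᵀ) by simp only [Matrix.mul_assoc, neg_mul], JJ]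
      simp
    have h5 : J K * k * J K * kᵀ = (-c) • (1 : Matrix (Fin 4) (Fin 4) K) := by
      rw [← h2, Matrix.smul_mul, smul_smul, neg_mul_neg, sq_one c hc, one_smul]
    rw [← h4, h5]
    simp
  have : tau (g * k) = c * tau g := by
    rw [tau, transpose_mul, show J K * (kᵀ * gᵀ * J K * (g * k)) = J K * kᵀ * (gᵀ * J K * g) * k by
      simp only [Matrix.mul_assoc], trace_mul_comm, show k * (J K * kᵀ * (gᵀ * J K * g)) = k * J K * kᵀ * (gᵀ * J K * g) by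
      simp only [Matrix.mul_assoc], h3, Matrix.smul_mul, trace_smul, smul_eq_mul, tau]
  rw [this, mul_zero_iff _ _ hc]

/-- the elements of the stabiliser of the antiflag which are similarities -/
def dg (l m p q r s : K) : Matrix (Fin 4) (Fin 4) K := !![l, 0, 0, 0; 0, m, 0, 0; 0, 0, p, q; 0, 0, r, s]

set_option synthInstance.maxSize 2048 in
theorem shape_aux : ∀ c l a b d g e h : K, c ≠ 0 → l * a = c → l * b = 0 → d * h - g * e = 0 →
    b = 0 ∧ ∀ f i : K, d * i - g * f = 0 → e * i - h * f = c → d = 0 ∧ g = 0 := by decide +kernel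

theorem shape {g : Matrix (Fin 4) (Fin 4) K} (hb : Blk g) (hs : Sim g) :
    ∃ l m p q r s : K, g = dg l m p q r s ∧ l * m ≠ 0 ∧ p * s - r * q = l * m := by
  obtain ⟨c, hc, e⟩ := hs
  rw [hb.eq, form_mk] at e
  have e1 : g 0 0 * g 1 1 = c := by simpa [J] using congrFun (congrFun e 0) 1
  have e2 : g 0 0 * g 1 2 = 0 := by simpa [J, -mul_eq_zero] using congrFun (congrFun e 0) 2
  have e3 : g 0 0 * g 1 3 = 0 := by simpa [J, -mul_eq_zero] using congrFun (congrFun e 0) 3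
  have e4 : g 2 1 * g 3 2 - g 3 1 * g 2 2 = 0 := by simpa [J] using congrFun (congrFun e 1) 2
  have e5 : g 2 1 * g 3 3 - g 3 1 * g 2 3 = 0 := by simpa [J] using congrFun (congrFun e 1) 3
  have e6 : g 2 2 * g 3 3 - g 3 2 * g 2 3 = c := by simpa [J] using congrFun (congrFun e 2) 3
  obtain ⟨k1, k2⟩ := shape_aux c _ _ _ _ _ _ _ hc e1 e2 e4
  obtain ⟨k3, k4⟩ := k2 _ _ e5 e6
  have k5 := (shape_aux c _ _ _ _ _ _ _ hc e1 e3 e4).1
  refine ⟨g 0 0, g 1 1, g 2 2, g 2 3, g 3 2, g 3 3, ?_, e1 ▸ hc, e1 ▸ e6⟩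
  conv_lhs => rw [hb.eq, k1, k3, k4, k5]
  rfl

theorem blk_dg (l m p q r s : K) : Blk (dg l m p q r s) := blk_mk l m 0 0 0 p q 0 r s

theorem sim_dg {l m p q r s : K} (h1 : l * m ≠ 0) (h2 : p * s - r * q = l * m) : Sim (dg l m p q r s) := by
  refine ⟨l * m, h1, ?_⟩
  rw [dg, form_mk]
  ext x y
  fin_cases x <;> fin_cases y <;> simp [J, ← h2]

theorem det_dg {l m p q r s : K} (h1 : l * m ≠ 0) (h2 : p * s - r * q = l * m) : (dg l m p q r s).det = 1 := by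
  rw [dg, det_mk, h2, ← sq_one _ h1]
  ring

theorem dg_mul (l m p q r s l' m' p' q' r' s' : K) : dg l m p q r s * dg l' m' p' q' r' s' =
    dg (l * l') (m * m') (p * p' + q * r') (p * q' + q * s') (r * p' + s * r') (r * q' + s * s') := by
  ext x y
  fin_cases x <;> fin_cases y <;> simp [dg, Matrix.mul_apply, Fin.sum_univ_four]

theorem smul_dg (c l m p q r s : K) : c • dg l m p q r s = dg (c * l) (c * m) (c * p) (c * q) (c * r) (c * s) := by
  ext x y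
  fin_cases x <;> fin_cases y <;> simp [dg]

theorem dg_inj {l m p q r s l' m' p' q' r' s' : K} (h : dg l m p q r s = dg l' m' p' q' r' s') :
    l = l' ∧ m = m' ∧ p = p' ∧ q = q' ∧ r = r' ∧ s = s' :=
  ⟨congrFun (congrFun h 0) 0, congrFun (congrFun h 1) 1, congrFun (congrFun h 2) 2, congrFun (congrFun h 2) 3,
    congrFun (congrFun h 3) 2, congrFun (congrFun h 3) 3⟩

theorem dg_one : dg 1 1 1 0 0 1 = 1 := by
  ext x y
  fin_cases x <;> fin_cases y <;> simp [dg]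

/-- the central involution -/
def zeta : SL(4, K) := ⟨dg 1 1 (-1) 0 0 (-1), det_dg (by decide) (by decide)⟩

def t1 : SL(4, K) := ⟨dg 1 1 1 1 0 1, det_dg (by decide) (by decide)⟩

def t2 : SL(4, K) := ⟨dg 1 1 1 0 1 1, det_dg (by decide) (by decide)⟩

theorem zeta_comm {g : SL(4, K)} (hb : Blk g.1) (hs : Sim g.1) : g * zeta = zeta * g := by
  obtain ⟨l, m, p, q, r, s, e, -⟩ := shape hb hs
  refine Subtype.ext ?_
  show g.1 * dg 1 1 (-1) 0 0 (-1) = dg 1 1 (-1) 0 0 (-1) * g.1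
  rw [e, dg_mul, dg_mul]
  congr 1 <;> ring

set_option synthInstance.maxSize 2048 in
theorem cen_aux : ∀ l m p q r s c d : K, l * m ≠ 0 → p * s - r * q = l * m → l = c * l → l = d * l → p + r = c * p →
    q + s = c * (p + q) → p = d * (p + q) → p + r = d * (r + s) →
    (m = l ∧ q = 0 ∧ r = 0 ∧ s = p) ∧ (p = l ∨ p = -l) := by decide +kernel

theorem central {g : Matrix (Fin 4) (Fin 4) K} (hb : Blk g) (hs : Sim g) {c d : K} (h1 : t1.1 * g = c • (g * t1.1))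
    (h2 : t2.1 * g = d • (g * t2.1)) : (∃ l : K, g = l • 1) ∨ ∃ l : K, g = l • zeta.1 := by
  obtain ⟨l, m, p, q, r, s, rfl, k1, k2⟩ := shape hb hs
  simp only [t1, t2, dg_mul, smul_dg] at h1 h2
  obtain ⟨a1, -, a2, a3, -⟩ := dg_inj h1
  obtain ⟨b1, -, b2, -, b3, -⟩ := dg_inj h2
  obtain ⟨⟨e1, e2, e3, e4⟩, k⟩ := cen_aux l m p q r s c d k1 k2 (by simpa using a1) (by simpa using b1)
    (by simpa using a2) (by simpa using a3) (by simpa using b2) (by simpa using b3)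
  rw [e1, e2, e3, e4]
  rcases k with k | k
  · exact Or.inl ⟨l, by rw [← dg_one, smul_dg, k]; simp⟩
  · exact Or.inr ⟨l, by simp [zeta, smul_dg, k]⟩

/-- the product of two central involutions -/
def pm (a1 a2 a3 b1 b2 b3 : K) : Matrix (Fin 4) (Fin 4) K :=
  !![1, 0, 0, 0; 0, -1 - b1 * a1, -(b1 * a2), -(b1 * a3); 0, b2 * a1, 1 + b2 * a2, b2 * a3; 0, b3 * a1, b3 * a2, 1 + b3 * a3]

theorem key : ∀ a1 a2 a3 b1 b2 b3 : K, a1 * b1 + a2 * b2 + a3 * b3 = 1 →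
    ((pm a1 a2 a3 b1 b2 b3 * pm a1 a2 a3 b1 b2 b3 * (pm a1 a2 a3 b1 b2 b3 * pm a1 a2 a3 b1 b2 b3) = 1 ∧
      pm a1 a2 a3 b1 b2 b3 ≠ 1) ↔ a1 + b1 = 0) := by decide +kernel

theorem key_aux : ∀ l a d x : K, l ≠ 0 → x = l * d → (x + a = 0 ↔ -2 * (l * a + d) = 0) := by decide

theorem inv_eq : ∀ a b : K, a * b = 1 → a = b ∧ a ≠ 0 := by decide

theorem key' {g h : Matrix (Fin 4) (Fin 4) K} (hg : Blk g) (hh : Blk h) (hd : g.det = 1) (e : g * h = 1) :
    ((zeta.1 * (g * zeta.1 * h)) ^ 4 = 1 ∧ zeta.1 * (g * zeta.1 * h) ≠ 1 ↔ tau g = 0) ∧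
      (zeta.1 * (g * zeta.1 * h)) 0 0 = 1 ∧ ((zeta.1 * (g * zeta.1 * h)) ^ 4) 0 0 = 1 := by
  have e' := mul_eq_one_comm.1 e
  have z : zeta.1 = -1 - dg 1 1 0 0 0 0 := by decide +kernel
  have e0 : g 0 0 * h 0 0 = 1 := by
    have := congrFun (congrFun e 0) 0
    rw [hg.eq, hh.eq] at this
    simpa [Matrix.mul_apply, Fin.sum_univ_four] using this
  have e1 : ∀ j, h 1 1 * g 1 j + h 1 2 * g 2 j + h 1 3 * g 3 j = (1 : Matrix (Fin 4) (Fin 4) K) 1 j := fun j => by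
    rw [← e', Matrix.mul_apply, Fin.sum_univ_four, (hh 1 (by decide)).1, zero_mul, zero_add]
  have e11 : h 1 1 * g 1 1 + h 1 2 * g 2 1 + h 1 3 * g 3 1 = 1 := e1 1
  have e12 : h 1 1 * g 1 2 + h 1 2 * g 2 2 + h 1 3 * g 3 2 = 0 := e1 2
  have e13 : h 1 1 * g 1 3 + h 1 2 * g 2 3 + h 1 3 * g 3 3 = 0 := e1 3
  have m : zeta.1 * (g * zeta.1 * h) = pm (h 1 1) (h 1 2) (h 1 3) (g 1 1) (g 2 1) (g 3 1) := by
    have : g * zeta.1 * h = -1 - g * dg 1 1 0 0 0 0 * h := by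
      rw [z, Matrix.mul_sub, Matrix.sub_mul, Matrix.mul_neg, Matrix.mul_one, Matrix.neg_mul, e]
    rw [this]
    have h2 : (-1 - 1 : K) = 1 := by decide
    conv_lhs => rw [hg.eq, hh.eq]
    ext x y
    fin_cases x <;> fin_cases y <;> simp [zeta, dg, pm, Matrix.mul_apply, Fin.sum_univ_four, e0, h2] <;> ring
  have p4 : ∀ A : Matrix (Fin 4) (Fin 4) K, A ^ 4 = A * A * (A * A) := fun A =>
    (pow_add A 2 2).trans (by rw [sq])
  rw [m, p4, key _ _ _ _ _ _ e11]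
  refine ⟨?_, rfl, by simp [pm, Matrix.mul_apply, Fin.sum_univ_four]⟩
  rw [hg.eq, det_mk] at hd
  have t := tau_mk (g 0 0) (g 1 1) (g 1 2) (g 1 3) (g 2 1) (g 2 2) (g 2 3) (g 3 1) (g 3 2) (g 3 3)
  rw [← hg.eq] at t
  rw [t]
  refine key_aux _ _ _ _ (inv_eq _ _ e0).2 ?_
  linear_combination (-h 1 1) * hd + g 0 0 * (g 2 2 * g 3 3 - g 3 2 * g 2 3) * e11 -
    g 0 0 * (g 2 1 * g 3 3 - g 3 1 * g 2 3) * e12 + g 0 0 * (g 2 1 * g 3 2 - g 3 1 * g 2 2) * e13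

theorem card_blk : Nat.card {g : SL(4, K) // Blk g.1} = 11232 := by
  have hd : ∀ A : GL (Fin 3) K, (!![A.1.det, 0, 0, 0; 0, A.1 0 0, A.1 0 1, A.1 0 2; 0, A.1 1 0, A.1 1 1, A.1 1 2;
      0, A.1 2 0, A.1 2 1, A.1 2 2] : Matrix (Fin 4) (Fin 4) K).det = 1 := fun A => by
    rw [det_mk, ← sq_one _ A.det_ne_zero]
    congr 1
    rw [det_fin_three]
    ring
  let f : GL (Fin 3) K → {g : SL(4, K) // Blk g.1} := fun A => ⟨⟨_, hd A⟩, blk_mk _ _ _ _ _ _ _ _ _ _⟩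
  have hf : Function.Bijective f := by
    refine ⟨fun A B e => Units.ext ?_, fun g => ?_⟩
    · have k : ∀ i j, (f A).1.1 i j = (f B).1.1 i j := fun i j => by rw [e]
      ext i j
      fin_cases i <;> fin_cases j
      exacts [k 1 1, k 1 2, k 1 3, k 2 1, k 2 2, k 2 3, k 3 1, k 3 2, k 3 3]
    · have k := (det4 _ g.2).symm.trans g.1.2
      have k' := inv_eq _ _ ((mul_comm _ _).trans k)
      refine ⟨GeneralLinearGroup.mkOfDetNeZero _ k'.2, Subtype.ext (Subtype.ext ?_)⟩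
      conv_rhs => rw [g.2.eq, ← k'.1]
      rfl
  rw [← Nat.card_eq_of_bijective f hf, card_GL_field]
  simp [Fin.prod_univ_three]

theorem card_stab : Nat.card {g : SL(4, K) // Blk g.1 ∧ Sim g.1} = 96 := by
  let f : {x : K × K × K × K × K × K // x.1 * x.2.1 ≠ 0 ∧ x.2.2.1 * x.2.2.2.2.2 - x.2.2.2.2.1 * x.2.2.2.1 = x.1 * x.2.1} →
    {g : SL(4, K) // Blk g.1 ∧ Sim g.1} := fun x => ⟨⟨_, det_dg x.2.1 x.2.2⟩, blk_dg _ _ _ _ _ _, sim_dg x.2.1 x.2.2⟩
  have hf : Function.Bijective f := by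
    refine ⟨fun x y e => Subtype.ext ?_, fun g => ?_⟩
    · obtain ⟨k1, k2, k3, k4, k5, k6⟩ := dg_inj (congrArg (fun g => g.1.1) e)
      exact Prod.ext k1 (Prod.ext k2 (Prod.ext k3 (Prod.ext k4 (Prod.ext k5 k6))))
    · obtain ⟨l, m, p, q, r, s, e, k⟩ := shape g.2.1 g.2.2
      exact ⟨⟨(l, m, p, q, r, s), k⟩, Subtype.ext (Subtype.ext e.symm)⟩
  rw [← Nat.card_eq_of_bijective f hf, Nat.card_eq_fintype_card]
  decide +kernel

theorem card_ker : Nat.card {g : SL(4, K) // Blk g.1 ∧ ∃ c : K, g.1 = c • 1} = 2 := by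
  have e : ∀ c : K, dg c c c 0 0 c = c • (1 : Matrix (Fin 4) (Fin 4) K) := fun c => by
    rw [← dg_one, smul_dg]
    simp
  let f : {c : K // c ≠ 0} → {g : SL(4, K) // Blk g.1 ∧ ∃ c : K, g.1 = c • 1} := fun c =>
    ⟨⟨dg c c c 0 0 c, det_dg (mul_ne_zero c.2 c.2) (by simp)⟩, blk_dg _ _ _ _ _ _, c, e c⟩
  have hf : Function.Bijective f := by
    refine ⟨fun x y e => Subtype.ext (dg_inj (congrArg (fun g => g.1.1) e)).1, fun g => ?_⟩
    obtain ⟨c, hc⟩ := g.2.2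
    refine ⟨⟨c, fun k => ?_⟩, Subtype.ext (Subtype.ext ((e c).trans hc.symm))⟩
    have := g.1.2
    rw [hc, k] at this
    simp at this
  rw [← Nat.card_eq_of_bijective f hf, Nat.card_eq_fintype_card]
  decide +kernel

/-- two test elements -/
def g1 : SL(4, K) := ⟨!![1, 0, 0, 0; 0, 0, -1, 0; 0, 1, 0, 0; 0, 0, 0, 1], by rw [det_mk]; decide⟩

def g2 : SL(4, K) := ⟨!![1, 0, 0, 0; 0, 1, 1, 0; 0, 0, 1, 0; 0, 0, 0, 1], by rw [det_mk]; decide⟩

theorem tau_g1 : tau g1.1 = 0 := by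
  rw [g1, tau_mk]
  decide

theorem tau_g2 : tau g2.1 ≠ 0 := by
  rw [g2, tau_mk]
  decide

theorem not_sim_g1 : ¬ Sim g1.1 := fun h => by
  obtain ⟨l, m, p, q, r, s, e, -⟩ := shape (blk_mk _ _ _ _ _ _ _ _ _ _) h
  exact one_ne_zero (congrFun (congrFun e 2) 1)

theorem not_sim_g2 : ¬ Sim g2.1 := fun h => by
  obtain ⟨l, m, p, q, r, s, e, -⟩ := shape (blk_mk _ _ _ _ _ _ _ _ _ _) h
  exact one_ne_zero (congrFun (congrFun e 1) 2)

end Cfsg.Agent.SM.L.RB
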