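import Cfsg.Agent.SM.L.Defs
import Cfsg.Agent.SM.Rig
import Cfsg.Agent.SM.L.RBM

/-!
# SM (S3570): `boxRB`, rigidity of `L₃(3).2 < L₄(3).2` on 117 points (helper79)

A point `x` determines the central involution `z_x` of `T_x`; the relation `(z_x z_y)⁴ = 1 ≠ z_x z_y` is the orthogonality
of the two symplectic forms for the Pfaffian.
-/

set_option autoImplicit false
set_option linter.unusedSectionVars false
set_option maxHeartbeats 400000

namespace Cfsg.Agent.SM.L.RB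

open Cfsg Cfsg.Geo Matrix Equiv
open Cfsg.Agent.H851.Rl (pg)
open Cfsg.Agent.H304.PslT (pre pr toGL_injective range_toGL)
open scoped MatrixGroups

variable {Ω : Type} [Fintype Ω] [DecidableEq Ω]

/-- the standard model of row B -/
structure Md {F : Type} [CommRing F] (T S : Subgroup (Perm Ω)) (a : Ω) (π : SL(4, F) →* Perm Ω) : Prop where
  rng : ∀ s ∈ S, ∃ g, π g = s
  ker : ∀ g, π g = 1 ↔ ∃ c : F, g.1 = c • 1
  blk : ∀ g, π g ∈ T ↔ Blk g.1
  sim : ∀ g, π g a = a ↔ Sim g.1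

theorem cm {F : Type} [CommRing F] (g h : SL(4, F)) : (g * h).1 = g.1 * h.1 := rfl

/-- `z` is a non-trivial central element of `T_x` -/
def Cz (T : Subgroup (Perm Ω)) (x : Ω) (z : Perm Ω) : Prop :=
  z ∈ T ∧ z ≠ 1 ∧ z x = x ∧ ∀ t ∈ T, t x = x → t * z = z * t

/-- the relation defined by `T` alone -/
def rel (T : Subgroup (Perm Ω)) (x : Fin 2 → Ω) : Prop :=
  ∃ z w, Cz T (x 0) z ∧ Cz T (x 1) w ∧ (z * w) ^ 4 = 1 ∧ z * w ≠ 1

variable {X H T M S : Subgroup (Perm Ω)} {a : Ω}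

theorem Cz.conj {x : Ω} {z h : Perm Ω} (k : Cz T x z) (h1 : ∀ t ∈ T, h * t * h⁻¹ ∈ T) (h2 : ∀ t ∈ T, h⁻¹ * t * h⁻¹⁻¹ ∈ T) :
    Cz T (h x) (h * z * h⁻¹) := by
  refine ⟨h1 z k.1, fun e => k.2.1 (by simpa using e), by simp [k.2.2.1], fun t ht e => ?_⟩
  have := k.2.2.2 _ (h2 t ht) (by simp [e])
  calc t * (h * z * h⁻¹) = h * (h⁻¹ * t * h⁻¹⁻¹ * z) * h⁻¹ := by group
    _ = h * z * h⁻¹ * t := by rw [this]; group

theorem rel.conj {x : Fin 2 → Ω} {h : Perm Ω} (k : rel T x) (h1 : ∀ t ∈ T, h * t * h⁻¹ ∈ T)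
    (h2 : ∀ t ∈ T, h⁻¹ * t * h⁻¹⁻¹ ∈ T) : rel T (h ∘ x) := by
  obtain ⟨z, w, k1, k2, k3, k4⟩ := k
  have e : h * z * h⁻¹ * (h * w * h⁻¹) = h * (z * w) * h⁻¹ := by group
  refine ⟨_, _, k1.conj h1 h2, k2.conj h1 h2, ?_, fun k => k4 ?_⟩
  · rw [e, conj_pow, k3]
    simp
  · rw [e] at k
    simpa using k

theorem conj_mem {t : Perm Ω} (ht : t ∈ T) : ∀ s ∈ T, t * s * t⁻¹ ∈ T := fun _ hs =>
  T.mul_mem (T.mul_mem ht hs) (T.inv_mem ht)

section model

variable {π : SL(4, K) →* Perm Ω}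

theorem Md.eq_iff (m : Md T S a π) {g h : SL(4, K)} : π g = π h ↔ ∃ c : K, g.1 = c • h.1 := by
  rw [← mul_inv_eq_one, ← map_inv, ← map_mul, m.ker]
  refine exists_congr fun c => ⟨fun e => ?_, fun e => ?_⟩
  · have := congrArg (· * h.1) e
    simp only [Matrix.smul_mul, Matrix.one_mul] at this
    rw [← this, ← cm, inv_mul_cancel_right]
  · rw [cm, e, Matrix.smul_mul, ← cm, mul_inv_cancel]
    rfl

theorem Md.cz (m : Md T S a π) (hT : T ≤ S) {z : Perm Ω} : Cz T a z ↔ z = π zeta := by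
  constructor
  · rintro ⟨k1, k2, k3, k4⟩
    obtain ⟨g, rfl⟩ := m.rng z (hT k1)
    have a1 := k4 _ ((m.blk t1).2 (blk_dg _ _ _ _ _ _)) ((m.sim t1).2 (sim_dg (by decide) (by decide)))
    have a2 := k4 _ ((m.blk t2).2 (blk_dg _ _ _ _ _ _)) ((m.sim t2).2 (sim_dg (by decide) (by decide)))
    rw [← map_mul, ← map_mul, m.eq_iff] at a1 a2
    obtain ⟨c, a1⟩ := a1
    obtain ⟨d, a2⟩ := a2
    rcases central ((m.blk g).1 k1) ((m.sim g).1 k3) a1 a2 with k | k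
    · exact absurd ((m.ker g).2 k) k2
    · exact m.eq_iff.2 k
  · rintro rfl
    refine ⟨(m.blk _).2 (blk_dg _ _ _ _ _ _), fun e => ?_, (m.sim _).2 (sim_dg (by decide) (by decide)), fun t ht e => ?_⟩
    · obtain ⟨c, hc⟩ := (m.ker _).1 e
      rw [← dg_one, smul_dg] at hc
      obtain ⟨k1, -, k2, -⟩ := dg_inj hc
      exact absurd (k1.trans k2.symm) (by decide)
    · obtain ⟨g, rfl⟩ := m.rng t (hT ht)
      rw [← map_mul, ← map_mul, zeta_comm ((m.blk g).1 ht) ((m.sim g).1 e)]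

theorem Md.one_iff (m : Md T S a π) {g : SL(4, K)} (h : g.1 0 0 = 1) : π g = 1 ↔ g.1 = 1 := by
  rw [m.ker]
  refine ⟨fun ⟨c, e⟩ => ?_, fun e => ⟨1, by rw [e, one_smul]⟩⟩
  have : c = 1 := by simpa [e] using h
  rw [e, this, one_smul]

theorem Md.rel_blk (m : Md T S a π) (hT : T ≤ S) {k : SL(4, K)} (hk : π k ∈ T) : rel T ![a, π k a] ↔ tau k.1 = 0 := by
  obtain ⟨e1, e2, e3⟩ := key' ((m.blk k).1 hk) ((m.blk k⁻¹).1 (by rw [map_inv]; exact T.inv_mem hk)) k.2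
    (by rw [← cm, mul_inv_cancel]; rfl)
  have f1 : (π zeta * π (k * zeta * k⁻¹)) ^ 4 = 1 ↔ (zeta.1 * (k.1 * zeta.1 * (k⁻¹).1)) ^ 4 = 1 := by
    rw [← map_mul, ← map_pow]
    exact m.one_iff e3
  have f2 : π zeta * π (k * zeta * k⁻¹) = 1 ↔ zeta.1 * (k.1 * zeta.1 * (k⁻¹).1) = 1 := by
    rw [← map_mul]
    exact m.one_iff e2
  have c : ∀ w, Cz T (π k a) w ↔ w = π (k * zeta * k⁻¹) := fun w => by
    rw [map_mul, map_mul, map_inv]
    refine ⟨fun h => ?_, fun h => h ▸ ((m.cz hT).2 rfl).conj (conj_mem hk) (conj_mem (T.inv_mem hk))⟩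
    have h1 := h.conj (conj_mem (T.inv_mem hk)) (conj_mem (T.inv_mem (T.inv_mem hk)))
    rw [Perm.inv_eq_iff_eq.2 rfl, m.cz hT] at h1
    rw [← h1]
    group
  rw [← e1]
  constructor
  · rintro ⟨z, w, k1, k2, k3, k4⟩
    obtain rfl := (m.cz hT).1 k1
    obtain rfl := (c w).1 k2
    exact ⟨f1.1 k3, fun e => k4 (f2.2 e)⟩
  · rintro ⟨k1, k2⟩
    exact ⟨_, _, (m.cz hT).2 rfl, (c _).2 rfl, f1.2 k1, fun e => k2 (f2.1 e)⟩

theorem Md.rel_iff (m : Md T S a π) (hT : T ≤ S) (tr : ∀ b, ∃ t ∈ T, t a = b) (g g' : SL(4, K)) :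
    rel T ![π g a, π g' a] ↔ tau (g⁻¹ * g').1 = 0 := by
  obtain ⟨t, ht, e⟩ := tr (π g a)
  obtain ⟨k, rfl⟩ := m.rng t (hT ht)
  obtain ⟨t', ht', e'⟩ := tr (π (k⁻¹ * g') a)
  obtain ⟨k', rfl⟩ := m.rng t' (hT ht')
  have s1 : Sim (k⁻¹ * g).1 := (m.sim _).1 (by rw [map_mul, map_inv]; exact Perm.inv_eq_iff_eq.2 e.symm)
  have s2 : Sim (k'⁻¹ * (k⁻¹ * g')).1 := (m.sim _).1 (by rw [map_mul, map_inv]; exact Perm.inv_eq_iff_eq.2 e'.symm)
  rw [← tau_left s1, ← cm,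
    show k⁻¹ * g * (g⁻¹ * g') = k' * (k'⁻¹ * (k⁻¹ * g')) by group, cm, tau_right s2,
    ← m.rel_blk hT ht', e']
  have x1 : π k ∘ ![a, π (k⁻¹ * g') a] = ![π g a, π g' a] := by
    ext i
    fin_cases i
    · exact e
    · simp
  have x2 : ⇑(π k)⁻¹ ∘ ![π g a, π g' a] = ![a, π (k⁻¹ * g') a] := by
    rw [← x1]
    ext i
    simp
  exact ⟨fun h => x2 ▸ h.conj (conj_mem (T.inv_mem ht)) (conj_mem (T.inv_mem (T.inv_mem ht))),
    fun h => x1 ▸ h.conj (conj_mem ht) (conj_mem (T.inv_mem ht))⟩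

theorem Md.card (m : Md T S a π) (hT : T ≤ S) (B : Subgroup (Perm Ω)) :
    B.relIndex T * Nat.card {g : SL(4, K) // Blk g.1 ∧ π g ∈ B} = 11232 := by
  have h1 : (T.comap π).map π = T := Subgroup.map_comap_eq_self fun t ht => m.rng t (hT ht)
  have h2 := Subgroup.index_mul_card ((B.comap π).subgroupOf (T.comap π))
  rw [← card_blk, ← Nat.card_congr (Equiv.subtypeEquivRight m.blk)]
  conv_lhs => rw [← h1, ← Subgroup.relIndex_comap]
  refine Eq.trans ?_ h2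
  congr 1
  exact Nat.card_congr ⟨fun g => ⟨⟨g.1, (m.blk _).2 g.2.1⟩, g.2.2⟩, fun g => ⟨g.1.1, (m.blk _).1 g.1.2, g.2⟩,
    fun _ => rfl, fun _ => rfl⟩

theorem Md.main (m : Md T S a π) (u : Up X H T M S) :
    M ≤ relStab (rel T) ∧ ¬ alternatingGroup Ω ≤ relStab (rel T) ∧ Fintype.card Ω = 117 ∧ Nat.card T = 5616 := by
  have r := m.rel_iff u.le (u.trans a)
  refine ⟨le_relStab fun g hg x hx => ?_, ?_, ?_, ?_⟩
  · obtain ⟨h, hh, s, hs, rfl⟩ := (u.fac a).facH g hg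
    obtain ⟨k, rfl⟩ := m.rng s hs
    refine rel.conj (x := π k ∘ x) ?_ (u.socH.conj h hh.1) (u.socH.conj h⁻¹ (H.inv_mem hh.1))
    obtain ⟨t, ht, e⟩ := u.trans a (x 0)
    obtain ⟨t', ht', e'⟩ := u.trans a (x 1)
    obtain ⟨g, rfl⟩ := m.rng t (u.le ht)
    obtain ⟨g', rfl⟩ := m.rng t' (u.le ht')
    have x1 : x = ![π g a, π g' a] := by
      ext i
      fin_cases i
      exacts [e.symm, e'.symm]
    have x2 : π k ∘ x = ![π (k * g) a, π (k * g') a] := by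
      rw [x1]
      ext i
      fin_cases i <;> simp
    rw [x2, r, show (k * g)⁻¹ * (k * g') = g⁻¹ * g' by group, ← r, ← x1]
    exact hx
  · have inj : ∀ {g : SL(4, K)}, ¬ Sim g.1 → Function.Injective ![π 1 a, π g a] := fun {g} hg i j e => by
      have hz : π g a ≠ π 1 a := fun k => hg ((m.sim g).1 (by simpa using k))
      fin_cases i <;> fin_cases j
      · rfl
      · exact absurd e.symm hz
      · exact absurd e hz
      · rfl
    refine not_alt_le_relStab (le_trans (by norm_num) u.sec.five) (inj not_sim_g1) (inj not_sim_g2) ?_ ?_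
    · rw [r, inv_one, one_mul]
      exact tau_g1
    · rw [r, inv_one, one_mul]
      exact tau_g2
  · have h1 := m.card u.le (MulAction.stabilizer (Perm Ω) a)
    have h2 := u.relIndex a
    rw [inf_comm, ← Subgroup.inf_relIndex_right, inf_assoc, inf_eq_right.2 (u.le.trans u.socM.le),
      Subgroup.inf_relIndex_right] at h2
    rw [h2, Nat.card_congr (Equiv.subtypeEquivRight fun g => and_congr_right'
      (show π g ∈ MulAction.stabilizer (Perm Ω) a ↔ Sim g.1 from m.sim g)), card_stab] at h1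
    omega
  · have h1 := m.card u.le ⊥
    rw [Subgroup.relIndex_bot_left,
      Nat.card_congr (Equiv.subtypeEquivRight fun g => and_congr_right' (Subgroup.mem_bot.trans (m.ker g))), card_ker] at h1
    omega

end model

section transport

variable {F : Type} [Field F]

theorem Md.map {π : SL(4, F) →* Perm Ω} (m : Md T S a π) (σ : K ≃+* F) :
    Md T S a (π.comp (SpecialLinearGroup.map (σ : K →+* F))) := by
  have inj : ∀ A B : Matrix (Fin 4) (Fin 4) K, A.map σ = B.map σ ↔ A = B := fun A B =>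
    (Matrix.map_injective σ.injective).eq_iff
  have sm : ∀ (c : K) (A : Matrix (Fin 4) (Fin 4) K), (c • A).map σ = σ c • A.map σ := fun c A => by
    ext i j
    simp
  have hJ : (J K).map σ = J F := by
    ext i j
    fin_cases i <;> fin_cases j <;> simp [J]
  have h1 : (1 : Matrix (Fin 4) (Fin 4) K).map σ = 1 := Matrix.map_one _ (map_zero σ) (map_one σ)
  refine ⟨fun s hs => ?_, fun g => (m.ker _).trans ?_, fun g => (m.blk _).trans ?_, fun g => (m.sim _).trans ?_⟩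
  · obtain ⟨g, rfl⟩ := m.rng s hs
    refine ⟨SpecialLinearGroup.map (σ.symm : F →+* K) g, congrArg π (Subtype.ext ?_)⟩
    ext i j
    exact σ.apply_symm_apply _
  · refine σ.surjective.exists.trans (exists_congr fun c => ?_)
    rw [← inj, sm, h1]
    rfl
  · exact forall₂_congr fun j _ => and_congr σ.map_eq_zero_iff σ.map_eq_zero_iff
  · refine σ.surjective.exists.trans (exists_congr fun c => and_congr σ.map_ne_zero_iff ?_)
    rw [← inj, sm, Matrix.map_mul, Matrix.map_mul, hJ, transpose_map]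
    rfl

theorem exists_basis {f : (Fin 4 → F) → (Fin 4 → F) → F} (hf : IsSymplecticForm f) {v φ : Fin 4 → F} (hv : φ ⬝ᵥ v ≠ 0)
    {G : Matrix (Fin 4) (Fin 4) F} (hG : ∀ x y, f x y = x ⬝ᵥ G *ᵥ y) :
    ∃ p : Fin 4 → Fin 4 → F, p 0 = v ∧ (∀ i j, f (p i) (p j) = J F i j) ∧ ∃ k : F, k ≠ 0 ∧ ∀ w, f (p 1) w = k * φ ⬝ᵥ w := by
  have hd : G.det ≠ 0 := fun h => by
    obtain ⟨x, hx, e⟩ := exists_vecMul_eq_zero_iff.2 h
    obtain ⟨y, hy⟩ := (hf.nondegenerate x hx).2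
    exact hy (by rw [hG, dotProduct_mulVec, e, zero_dotProduct])
  have h0 : ∀ w, f (φ ᵥ* G⁻¹) w = φ ⬝ᵥ w := fun w => by
    rw [hG, dotProduct_mulVec, vecMul_vecMul, nonsing_inv_mul _ hd.isUnit, vecMul_one]
  obtain ⟨b, hb, k, hk, hbk⟩ : ∃ b, f v b = 1 ∧ ∃ k : F, k ≠ 0 ∧ ∀ w, f b w = k * φ ⬝ᵥ w := by
    refine ⟨(-(φ ⬝ᵥ v)⁻¹) • (φ ᵥ* G⁻¹), ?_, -(φ ⬝ᵥ v)⁻¹, by simpa using hv, fun w => by rw [hf.bilinear.smul_left, h0]⟩
    rw [hf.bilinear.smul_right, hf.skew, h0, neg_mul_neg, inv_mul_cancel₀ hv]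
  obtain ⟨u, hu, e⟩ := (exists_mulVec_eq_zero_iff (M := of ![v ᵥ* G, b ᵥ* G, 0, 0])).2
    (det_eq_zero_of_row_eq_zero 2 fun _ => rfl)
  have u1 : f v u = 0 := by rw [hG, dotProduct_mulVec]; exact congrFun e 0
  have u2 : f b u = 0 := by rw [hG, dotProduct_mulVec]; exact congrFun e 1
  obtain ⟨w, hw⟩ := (hf.nondegenerate u hu).2
  obtain ⟨u', w1, w2, w3⟩ : ∃ u', f v u' = 0 ∧ f b u' = 0 ∧ f u u' = 1 := by
    refine ⟨(f u w)⁻¹ • (w + ((-f w b) • v + (-f v w) • b)), ?_, ?_, ?_⟩ <;>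
      simp only [hf.bilinear.smul_right, hf.bilinear.add_right, hf.alternating]
    · rw [hb]; ring
    · rw [hf.skew b v, hf.skew b w, hb]; ring
    · rw [hf.skew u v, hf.skew u b, u1, u2]; field_simp; ring
  refine ⟨![v, b, u, u'], rfl, fun i j => ?_, k, hk, hbk⟩
  fin_cases i <;> fin_cases j <;>
    simp [J, hf.alternating, hb, u1, u2, w1, w2, w3, hf.skew b v, hf.skew u v, hf.skew u b, hf.skew u' v, hf.skew u' b,
      hf.skew u' u]

theorem exists_md (e : S ≃* Matrix.ProjectiveSpecialLinearGroup (Fin 4) F) (hM : S ≤ M) {f : (Fin 4 → F) → (Fin 4 → F) → F}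
    {v φ : Fin 4 → F} (r : RowB (pg e T) (pg e (M ⊓ MulAction.stabilizer (Perm Ω) a)) f v φ) :
    ∃ π : SL(4, F) →* Perm Ω, Md T S a π := by
  have hf := r.sym
  obtain ⟨G, hG⟩ : ∃ G : Matrix (Fin 4) (Fin 4) F, ∀ x y, f x y = x ⬝ᵥ G *ᵥ y := by
    let B : LinearMap.BilinForm F (Fin 4 → F) := LinearMap.mk₂ F f hf.bilinear.add_left hf.bilinear.smul_left
      hf.bilinear.add_right (fun c x y => hf.bilinear.smul_right c x y)
    exact ⟨LinearMap.BilinForm.toMatrix' B, fun x y => by rw [← toBilin'_apply', toBilin'_toMatrix']; rfl⟩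
  obtain ⟨p, p0, hp, k, hk, hpk⟩ := exists_basis hf r.ne hG
  obtain ⟨P, hP⟩ : ∃ P : Matrix (Fin 4) (Fin 4) F, P = (of p)ᵀ := ⟨_, rfl⟩
  have hJ : Pᵀ * G * P = J F := by
    ext i j
    rw [← hp, hG, hP, Matrix.mul_assoc]
    rfl
  obtain ⟨Q, h1⟩ : ∃ Q, Q * P = 1 := ⟨-(J F * (Pᵀ * G)), by rw [Matrix.neg_mul, Matrix.mul_assoc, hJ, JJ, neg_neg]⟩
  have h2 : P * Q = 1 := mul_eq_one_comm.1 h1
  have c1 : ∀ A : Matrix (Fin 4) (Fin 4) F, Q * (P * A) = A := fun A => by rw [← Matrix.mul_assoc, h1, Matrix.one_mul]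
  have c2 : ∀ A : Matrix (Fin 4) (Fin 4) F, P * (Q * A) = A := fun A => by rw [← Matrix.mul_assoc, h2, Matrix.one_mul]
  have d1 : ∀ g : SL(4, F), (P * g.1 * Q).det = 1 := fun g => by
    rw [det_mul, det_mul, g.2, mul_one, ← det_mul, h2, det_one]
  have d2 : ∀ g : SL(4, F), (Q * g.1 * P).det = 1 := fun g => by
    rw [det_mul, det_mul, g.2, mul_one, ← det_mul, h1, det_one]
  let ι : SL(4, F) →* SL(4, F) := MonoidHom.mk' (fun g => ⟨_, d1 g⟩) fun g h => Subtype.ext (by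
    show P * (g.1 * h.1) * Q = P * g.1 * Q * (P * h.1 * Q)
    simp only [Matrix.mul_assoc, c1])
  let π₀ : SL(4, F) →* Perm Ω := S.subtype.comp (e.symm.toMonoidHom.comp (pr 4 F))
  have mem : ∀ (Z : Subgroup (Perm Ω)) (g : SL(4, F)), SpecialLinearGroup.toGL g ∈ pg e Z ↔ π₀ g ∈ Z := fun Z g => by
    rw [pg, pre, Subgroup.mem_map_iff_mem toGL_injective, Subgroup.mem_comap, Subgroup.mem_map_equiv]
    rfl
  have sl : ∀ g : SL(4, F), SpecialLinearGroup.toGL g ∈ specialLinear (Fin 4) F := fun g => by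
    rw [← range_toGL]
    exact ⟨g, rfl⟩
  have hv : v = P *ᵥ Pi.single 0 1 := by
    rw [mulVec_single_one, hP, ← p0]
    rfl
  have hφ : φ ᵥ* P = (-k⁻¹) • (Pi.single 0 1 : Fin 4 → F) := by
    ext j
    have : k * (φ ᵥ* P) j = J F 1 j := by rw [← hp, hpk, hP]; rfl
    rw [← (eq_inv_mul_iff_mul_eq₀ hk)] at this
    rw [this]
    fin_cases j <;> simp [J]
  refine ⟨π₀.comp ι, fun s hs => ?_, fun g => ?_, fun g => ?_, fun g => ?_⟩
  · obtain ⟨g, hg⟩ := QuotientGroup.mk'_surjective _ (e ⟨s, hs⟩)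
    refine ⟨⟨_, d2 g⟩, ?_⟩
    have : ι ⟨_, d2 g⟩ = g := Subtype.ext (by
      show P * (Q * g.1 * P) * Q = g.1
      simp only [Matrix.mul_assoc, c2, h2, Matrix.mul_one])
    show (e.symm (pr 4 F (ι _)) : Perm Ω) = s
    rw [this, hg, e.symm_apply_apply]
  · show (e.symm (pr 4 F (ι g)) : Perm Ω) = 1 ↔ _
    rw [OneMemClass.coe_eq_one, map_eq_one_iff _ e.symm.injective, QuotientGroup.mk'_apply, QuotientGroup.eq_one_iff,
      Matrix.SpecialLinearGroup.mem_center_iff]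
    refine exists_congr fun c => ⟨fun h => ?_, fun h => ⟨?_, ?_⟩⟩
    · have h3 : c • (1 : Matrix (Fin 4) (Fin 4) F) = P * g.1 * Q := (smul_one_eq_diagonal c).trans h.2
      calc g.1 = Q * (P * g.1 * Q) * P := by simp only [Matrix.mul_assoc, c1, h1, Matrix.mul_one]
        _ = c • 1 := by rw [← h3]; simp [h1]
    · have := g.2
      rwa [h, det_smul, det_one, mul_one] at this
    · refine (smul_one_eq_diagonal c).symm.trans ?_
      show _ = P * g.1 * Q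
      rw [h]
      simp [h2]
  · refine (mem T _).symm.trans ((r.memR _).trans ?_)
    rw [and_iff_right (sl _), Blk]
    simp only [imp_and, forall_and]
    refine and_congr ?_ ?_
    · show (∃ c : F, (P * g.1 * Q) *ᵥ v = c • v) ↔ _
      rw [hv, mulVec_mulVec, Matrix.mul_assoc, h1, Matrix.mul_one, ← mulVec_mulVec, mulVec_single_one g.1]
      refine ⟨fun ⟨c, h⟩ j hj => ?_, fun h => ⟨g.1 0 0, ?_⟩⟩
      · have := congrFun (congrArg (Q *ᵥ ·) h) j
        simp only [mulVec_smul, mulVec_mulVec, h1, one_mulVec] at this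
        simpa [hj] using this
      · rw [← mulVec_smul]
        congr 1
        ext j
        by_cases hj : j = 0
        · simp [hj]
        · simp [hj, h j hj]
    · show (∃ c : F, φ ᵥ* (P * g.1 * Q) = c • φ) ↔ _
      rw [← vecMul_vecMul, ← vecMul_vecMul, hφ, smul_vecMul, single_one_vecMul]
      refine ⟨fun ⟨c, h⟩ j hj => ?_, fun h => ⟨g.1 0 0, ?_⟩⟩
      · have := congrFun (congrArg (· ᵥ* P) h) j
        simp only [vecMul_vecMul, h1, vecMul_one, smul_vecMul, hφ] at this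
        simpa [hj, hk] using this
      · have h3 : φ = ((-k⁻¹) • (Pi.single 0 1 : Fin 4 → F)) ᵥ* Q := by rw [← hφ, vecMul_vecMul, h2, vecMul_one]
        rw [h3, ← smul_vecMul]
        congr 1
        ext j
        by_cases hj : j = 0
        · simp [hj, mul_comm]
        · simp [hj, h j hj]
  · have h3 : π₀ (ι g) a = a ↔ π₀ (ι g) ∈ M ⊓ MulAction.stabilizer (Perm Ω) a :=
      ⟨fun h => ⟨hM (e.symm _).2, h⟩, fun h => h.2⟩
    refine h3.trans ((mem _ _).symm.trans ((r.memC _).trans ?_))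
    rw [and_iff_right (sl _)]
    show (∃ c : Fˣ, ∀ u w, f ((P * g.1 * Q) *ᵥ u) ((P * g.1 * Q) *ᵥ w) = c * f u w) ↔ _
    have h4 : ∀ (x : Matrix (Fin 4) (Fin 4) F) (c : F), (∀ u w, f (x *ᵥ u) (x *ᵥ w) = c * f u w) ↔ xᵀ * G * x = c • G := by
      intro x c
      have h5 : ∀ u w, f (x *ᵥ u) (x *ᵥ w) = u ⬝ᵥ (xᵀ * G * x) *ᵥ w := fun u w => by
        rw [hG, ← mulVec_mulVec, ← mulVec_mulVec, dotProduct_mulVec u, vecMul_transpose]
      refine ⟨fun h => ?_, fun h u w => by rw [h5, h, hG, smul_mulVec, dotProduct_smul, smul_eq_mul]⟩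
      ext i j
      have := h (Pi.single i 1) (Pi.single j 1)
      rw [h5, hG] at this
      simpa using this
    have h6 : (P * g.1 * Q)ᵀ * G * (P * g.1 * Q) = Qᵀ * (g.1ᵀ * J F * g.1) * Q := by
      rw [← hJ]
      simp only [transpose_mul, Matrix.mul_assoc]
    have h7 : Pᵀ * Qᵀ = 1 := by rw [← transpose_mul, h1, transpose_one]
    have h8 : Qᵀ * Pᵀ = 1 := by rw [← transpose_mul, h2, transpose_one]
    simp only [h4, h6]
    refine ⟨fun ⟨c, h⟩ => ⟨c, c.ne_zero, ?_⟩, fun ⟨c, hc, h⟩ => ⟨Units.mk0 c hc, ?_⟩⟩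
    · calc g.1ᵀ * J F * g.1 = Pᵀ * Qᵀ * (g.1ᵀ * J F * g.1) * (Q * P) := by rw [h7, h1, Matrix.one_mul, Matrix.mul_one]
        _ = Pᵀ * (Qᵀ * (g.1ᵀ * J F * g.1) * Q) * P := by simp only [Matrix.mul_assoc]
        _ = (c : F) • J F := by rw [h, Matrix.mul_smul, Matrix.smul_mul, hJ]
    · rw [h, ← hJ, Matrix.mul_smul, Matrix.smul_mul]
      congr 1
      calc Qᵀ * (Pᵀ * G * P) * Q = Qᵀ * Pᵀ * G * (P * Q) := by simp only [Matrix.mul_assoc]
        _ = G := by rw [h8, h2, Matrix.one_mul, Matrix.mul_one]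

end transport

theorem boxRB : BoxRB := fun _ _ _ T => ⟨relStab (rel T), fun _ _ _ _ F _ _ e _ _ _ _ hF u r => by
  obtain ⟨π, m⟩ := exists_md e u.socM.le r
  exact (m.map (ZMod.ringEquivOfPrime F Nat.prime_three hF)).main u⟩

end Cfsg.Agent.SM.L.RB
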