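import Cfsg.Agent.SM.L.Defs
import Cfsg.Agent.H912.Core4

/-!
# SM (S3570), family `fL`: the boxes `BoxU`, `BoxAF` and linear algebra of fields of matrices (helper99)
-/

set_option autoImplicit false

namespace Cfsg.Agent.SM.L.U

open Cfsg Cfsg.Geo Matrix Polynomial
open Cfsg.Agent.H912 (NormAlg conjAlg conjAlg_apply conjSub conjSub_coe isField_of_fieldSub finrank_dvd_of_fieldSub
  exists_subfield_of_dvd)

variable {n : ℕ} {F : Type} [Field F]

theorem inv_mulVec_mulVec (g : GL (Fin n) F) (v : Fin n → F) :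
    ((g⁻¹ : GL (Fin n) F) : Matrix (Fin n) (Fin n) F) *ᵥ ((g : Matrix (Fin n) (Fin n) F) *ᵥ v) = v := by
  rw [mulVec_mulVec, ← Units.val_mul, inv_mul_cancel, Units.val_one, one_mulVec]

theorem mulVec_ne_zero (g : GL (Fin n) F) {v : Fin n → F} (hv : v ≠ 0) : (g : Matrix (Fin n) (Fin n) F) *ᵥ v ≠ 0 := by
  intro h
  apply hv
  rw [← inv_mulVec_mulVec g v, h, mulVec_zero]

theorem eq_zero_of_forall_mulVec {x : Matrix (Fin n) (Fin n) F} (h : ∀ v, x *ᵥ v = 0) : x = 0 := by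
  apply Matrix.toLin'.injective
  refine LinearMap.ext fun v => ?_
  rw [Matrix.toLin'_apply, h, map_zero, LinearMap.zero_apply]

/-- a non-zero element of a field of matrices kills no vector -/
theorem field_inj {s : ℕ} {K : Subalgebra F (Matrix (Fin n) (Fin n) F)} (hK : IsFieldSubalgebra s K)
    {x : Matrix (Fin n) (Fin n) F} (hx : x ∈ K) {v : Fin n → F} (hv : v ≠ 0) (h : x *ᵥ v = 0) : x = 0 := by
  by_contra h0
  obtain ⟨y, hy, hxy⟩ := hK.inv x hx h0
  apply hv
  rw [← one_mulVec v, ← hxy, hK.comm x hx y hy, ← mulVec_mulVec, h, mulVec_zero]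

/-- A matrix which a point transitive group normalises up to scalars is scalar, or the group normalises a field. -/
theorem semiExt [Fintype F] {Y : Subgroup (GL (Fin n) F)} (hT : Tr Y) {θ : Matrix (Fin n) (Fin n) F}
    (hθ : ∀ g ∈ Y, ∃ c : Fˣ, (g : Matrix (Fin n) (Fin n) F) * θ * ((g⁻¹ : GL (Fin n) F) : Matrix (Fin n) (Fin n) F) =
      (c : F) • θ) (hE : ¬ Ext Y) : ∃ c : F, θ = c • (1 : Matrix (Fin n) (Fin n) F) := by
  classical
  rcases Nat.eq_zero_or_pos n with rfl | hn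
  · exact ⟨0, Subsingleton.elim _ _⟩
  have : Nonempty (Fin n) := ⟨⟨0, hn⟩⟩
  let A : Subalgebra F (Matrix (Fin n) (Fin n) F) := Algebra.adjoin F {θ}
  have hA : ∀ x, x ∈ A ↔ ∃ P : F[X], aeval θ P = x := by
    intro x
    change x ∈ Algebra.adjoin F {θ} ↔ _
    rw [Algebra.adjoin_singleton_eq_range_aeval]
    rfl
  have hθA : θ ∈ A := Algebra.subset_adjoin rfl
  have hconj : ∀ (g : GL (Fin n) F) (P : F[X]), (g : Matrix (Fin n) (Fin n) F) * aeval θ P *
      ((g⁻¹ : GL (Fin n) F) : Matrix (Fin n) (Fin n) F) =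
      aeval ((g : Matrix (Fin n) (Fin n) F) * θ * ((g⁻¹ : GL (Fin n) F) : Matrix (Fin n) (Fin n) F)) P := by
    intro g P
    rw [← conjAlg_apply, ← conjAlg_apply]
    exact (Polynomial.aeval_algHom_apply (conjAlg g) θ P).symm
  have hN : NormAlg Y A := by
    intro g hg x hx
    obtain ⟨P, rfl⟩ := (hA x).1 hx
    obtain ⟨c, hc⟩ := hθ g hg
    rw [hconj, hc]
    have h1 : Algebra.adjoin F {(c : F) • θ} ≤ A := Algebra.adjoin_le (by
      rintro _ rfl
      exact A.smul_mem hθA _)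
    exact h1 (Polynomial.aeval_mem_adjoin_singleton F _)
  have hinj : ∀ x ∈ A, x ≠ 0 → ∀ v, x *ᵥ v = 0 → v = 0 := by
    intro x hx hx0 v hxv
    by_contra hv
    obtain ⟨P, rfl⟩ := (hA x).1 hx
    let W : {χ : Fˣ // aeval ((χ : F) • θ) P ≠ 0} → Submodule F (Fin n → F) :=
      fun χ => LinearMap.ker (Matrix.toLin' (aeval ((χ.1 : F) • θ) P))
    have hW : ∀ χ, W χ ≠ ⊤ := by
      intro χ h
      apply χ.2
      apply eq_zero_of_forall_mulVec
      intro w
      have : w ∈ W χ := by rw [h]; trivial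
      exact this
    have hc : ((Finset.univ : Finset {χ : Fˣ // aeval ((χ : F) • θ) P ≠ 0}).card : ℕ∞) < ENat.card F := by
      rw [ENat.card_eq_coe_fintype_card, Nat.cast_lt, Finset.card_univ]
      refine lt_of_le_of_lt (Fintype.card_subtype_le _) ?_
      rw [Fintype.card_units]
      exact Nat.sub_lt Fintype.card_pos Nat.one_pos
    apply (Submodule.iUnion_ssubset_of_forall_ne_top_of_card_lt Finset.univ W hW hc).ne
    refine Set.eq_univ_of_forall fun w => ?_
    simp only [Finset.mem_univ, Set.iUnion_true, Set.mem_iUnion, SetLike.mem_coe]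
    by_cases hw : w = 0
    · exact ⟨⟨1, by rwa [Units.val_one, one_smul]⟩, hw ▸ Submodule.zero_mem _⟩
    obtain ⟨g, hg, c, hgc⟩ := hT v w hv hw
    obtain ⟨χ, hχ⟩ := hθ g hg
    have hc0 : c ≠ 0 := by
      rintro rfl
      exact mulVec_ne_zero g hv (by rw [hgc, zero_smul])
    have h1 := hconj g P
    rw [hχ] at h1
    refine ⟨⟨χ, ?_⟩, ?_⟩
    · rw [← h1, ← conjAlg_apply]
      exact fun h => hx0 ((conjAlg g).injective (by rw [h, map_zero]))
    · change aeval ((χ : F) • θ) P *ᵥ w = 0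
      have h2 : aeval ((χ : F) • θ) P *ᵥ (c • w) = 0 := by
        rw [← hgc, ← h1, ← mulVec_mulVec, ← mulVec_mulVec, inv_mulVec_mulVec, hxv, mulVec_zero]
      rw [mulVec_smul] at h2
      exact (smul_eq_zero.1 h2).resolve_left hc0
  have hK : IsFieldSubalgebra (Module.finrank F A) A := by
    refine ⟨fun x hx y hy => ?_, fun x hx hx0 => ?_, rfl⟩
    · obtain ⟨P, rfl⟩ := (hA x).1 hx
      obtain ⟨Q, rfl⟩ := (hA y).1 hy
      rw [← map_mul, ← map_mul, mul_comm]
    · have hi : Function.Injective (LinearMap.mulLeft F (⟨x, hx⟩ : A)) := by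
        rw [← LinearMap.ker_eq_bot, LinearMap.ker_eq_bot']
        intro y hy
        have h1 : x * (y : Matrix (Fin n) (Fin n) F) = 0 := congrArg Subtype.val hy
        apply Subtype.ext
        apply eq_zero_of_forall_mulVec
        intro v
        apply hinj x hx hx0
        rw [mulVec_mulVec, h1, zero_mulVec]
      obtain ⟨y, hy⟩ := (LinearMap.injective_iff_surjective.1 hi) 1
      exact ⟨y, y.2, congrArg Subtype.val hy⟩
  by_cases h1 : Module.finrank F A = 1
  · have hb := Subalgebra.eq_bot_of_finrank_one h1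
    rw [hb, Algebra.mem_bot] at hθA
    obtain ⟨c, hc⟩ := hθA
    exact ⟨c, by rw [← hc, Algebra.algebraMap_eq_smul_one]⟩
  · exfalso
    apply hE
    obtain ⟨K, -, hK', hNK⟩ := exists_subfield_of_dvd hK (Nat.minFac_dvd (Module.finrank F A))
    refine ⟨_, K, Nat.minFac_prime h1, ?_, hK', (hNK Y hN).le_normalizer⟩
    have := finrank_dvd_of_fieldSub hK'
    rwa [Fintype.card_fin] at this

/-- the centraliser of a point transitive group which normalises no field -/
theorem centExt [Fintype F] {Y : Subgroup (GL (Fin n) F)} (hT : Tr Y) {θ : Matrix (Fin n) (Fin n) F}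
    (hθ : ∀ g ∈ Y, (g : Matrix (Fin n) (Fin n) F) * θ = θ * g) (hE : ¬ Ext Y) :
    ∃ c : F, θ = c • (1 : Matrix (Fin n) (Fin n) F) := by
  refine semiExt hT (fun g hg => ⟨1, ?_⟩) hE
  rw [hθ g hg, mul_assoc, ← Units.val_mul, mul_inv_cancel, Units.val_one, mul_one, Units.val_one, one_smul]

theorem centExt_GL [Fintype F] {Y : Subgroup (GL (Fin n) F)} (hT : Tr Y) {θ : GL (Fin n) F}
    (hθ : ∀ g ∈ Y, g * θ = θ * g) (hE : ¬ Ext Y) : θ ∈ scalars (Fin n) F := by
  obtain ⟨c, hc⟩ := centExt hT (θ := (θ : Matrix (Fin n) (Fin n) F))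
    (fun g hg => by rw [← Units.val_mul, hθ g hg, Units.val_mul]) hE
  rw [mem_scalars_iff]
  rcases Nat.eq_zero_or_pos n with rfl | hn
  · exact ⟨1, Subsingleton.elim _ _⟩
  have : Nonempty (Fin n) := ⟨⟨0, hn⟩⟩
  have hc0 : c ≠ 0 := by
    rintro rfl
    exact θ.ne_zero (by rw [hc, zero_smul])
  exact ⟨Units.mk0 c hc0, hc⟩

/-- the Gram matrix of a bilinear form -/
theorem exists_gram {f : (Fin n → F) → (Fin n → F) → F} (hf : IsBilinearForm f) :
    ∃ J : Matrix (Fin n) (Fin n) F, ∀ u w, f u w = u ⬝ᵥ J *ᵥ w := by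
  let B : LinearMap.BilinForm F (Fin n → F) := LinearMap.mk₂ F f hf.add_left hf.smul_left hf.add_right hf.smul_right
  refine ⟨LinearMap.BilinForm.toMatrix' B, fun u w => ?_⟩
  rw [← Matrix.toBilin'_apply', Matrix.toBilin'_toMatrix']
  rfl

theorem right_ext {f : (Fin n → F) → (Fin n → F) → F} (hf : IsBilinearForm f) (hd : IsNondegenerateForm f)
    {a b : Fin n → F} (h : ∀ u, f u a = f u b) : a = b := by
  by_contra hab
  obtain ⟨x, hx⟩ := (hd (a - b) (sub_ne_zero.2 hab)).1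
  apply hx
  rw [sub_eq_add_neg, ← neg_one_smul F b, hf.add_right, hf.smul_right, h]
  ring

/-- every bilinear form is `f u (θ w)` for a non-degenerate `f` -/
theorem exists_theta {f f' : (Fin n → F) → (Fin n → F) → F} (hf : IsBilinearForm f) (hd : IsNondegenerateForm f)
    (hf' : IsBilinearForm f') : ∃ θ : Matrix (Fin n) (Fin n) F, ∀ u w, f' u w = f u (θ *ᵥ w) := by
  obtain ⟨J, hJ⟩ := exists_gram hf
  obtain ⟨J', hJ'⟩ := exists_gram hf'
  have hi : Function.Injective J.mulVec := fun a b hab => right_ext hf hd fun u => by rw [hJ, hJ, hab]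
  obtain ⟨j, rfl⟩ := Matrix.mulVec_injective_iff_isUnit.1 hi
  refine ⟨(j⁻¹ : (Matrix (Fin n) (Fin n) F)ˣ) * J', fun u w => ?_⟩
  rw [hJ, hJ', mulVec_mulVec, ← mul_assoc, ← Units.val_mul, mul_inv_cancel, Units.val_one, one_mul]

/-- uniqueness of the invariant bilinear form (`f` non-degenerate, `f'` any) -/
theorem form_unique [Fintype F] {Y : Subgroup (GL (Fin n) F)} (hT : Tr Y) (hE : ¬ Ext Y)
    {f f' : (Fin n → F) → (Fin n → F) → F} (hf : IsBilinearForm f) (hd : IsNondegenerateForm f)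
    (hf' : IsBilinearForm f') (hY : Y ≤ similarityGroup f) (hY' : Y ≤ similarityGroup f') :
    ∃ c : F, ∀ u w, f' u w = c * f u w := by
  obtain ⟨θ, hθ⟩ := exists_theta hf hd hf'
  obtain ⟨c, hc⟩ := semiExt hT (θ := θ) (fun g hg => by
    obtain ⟨c, hc⟩ := hY hg
    obtain ⟨c', hc'⟩ := hY' hg
    refine ⟨c * c'⁻¹, Matrix.toLin'.injective (LinearMap.ext fun w => ?_)⟩
    rw [Matrix.toLin'_apply, Matrix.toLin'_apply]
    refine right_ext hf hd fun u => ?_
    have h1 := hc (((g⁻¹ : GL (Fin n) F) : Matrix (Fin n) (Fin n) F) *ᵥ u)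
      (θ *ᵥ (((g⁻¹ : GL (Fin n) F) : Matrix (Fin n) (Fin n) F) *ᵥ w))
    have h2 := hc' (((g⁻¹ : GL (Fin n) F) : Matrix (Fin n) (Fin n) F) *ᵥ u)
      (((g⁻¹ : GL (Fin n) F) : Matrix (Fin n) (Fin n) F) *ᵥ w)
    have h3 : ∀ z, (g : Matrix (Fin n) (Fin n) F) *ᵥ (((g⁻¹ : GL (Fin n) F) : Matrix (Fin n) (Fin n) F) *ᵥ z) = z := by
      intro z
      have := inv_mulVec_mulVec g⁻¹ z
      rwa [inv_inv] at this
    rw [h3] at h1
    rw [h3, h3, hθ, hθ] at h2
    rw [← mulVec_mulVec, ← mulVec_mulVec, h1, smul_mulVec, hf.smul_right, h2, Units.val_mul, Units.val_inv_eq_inv_val]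
    field_simp) hE
  refine ⟨c, fun u w => ?_⟩
  rw [hθ, hc, smul_mulVec, one_mulVec, hf.smul_right]

theorem boxU : BoxU := fun _ _ _ _ _ _ _ hT hE hf hf' hY hY' =>
  form_unique hT hE hf.bilinear hf.nondegenerate hf'.bilinear hY hY'

theorem nonempty_of_field {s : ℕ} {K : Subalgebra F (Matrix (Fin n) (Fin n) F)} (hK : IsFieldSubalgebra s K)
    (hs : 1 ≤ s) : Nonempty (Fin n) := by
  rcases Nat.eq_zero_or_pos n with rfl | hn
  · have h := hK.finrank_eq
    rw [Module.finrank_zero_of_subsingleton] at h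
    omega
  · exact ⟨⟨0, hn⟩⟩

/-- a field of degree at least two contains a non-scalar matrix of determinant one -/
theorem normOne [Fintype F] {s : ℕ} {K : Subalgebra F (Matrix (Fin n) (Fin n) F)} (hK : IsFieldSubalgebra s K)
    (hs : 2 ≤ s) : ∃ g ∈ specialLinear (Fin n) F, (g : Matrix (Fin n) (Fin n) F) ∈ K ∧ g ∉ scalars (Fin n) F := by
  classical
  have := nonempty_of_field hK (by omega)
  let _ : Field K := (isField_of_fieldSub hK).toField
  have : Finite K := Module.finite_of_finite F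
  obtain ⟨x, hx⟩ := IsCyclic.exists_ofOrder_eq_natCard (α := Kˣ)
  rw [Nat.card_units, Module.natCard_eq_pow_finrank (K := F), hK.finrank_eq, Nat.card_eq_fintype_card] at hx
  let j : Kˣ →* GL (Fin n) F := Units.map K.val.toRingHom.toMonoidHom
  have hj : Function.Injective j := Units.map_injective Subtype.val_injective
  have hq : 2 ≤ Fintype.card F := Fintype.one_lt_card
  have hu : ∀ c : Fˣ, c ^ (Fintype.card F - 1) = 1 := fun c => by
    rw [← Fintype.card_units]
    exact pow_card_eq_one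
  refine ⟨j x ^ (Fintype.card F - 1), ?_, ?_, ?_⟩
  · change Matrix.GeneralLinearGroup.det _ = 1
    rw [map_pow, hu]
  · rw [← map_pow]
    exact ((x ^ (Fintype.card F - 1) : Kˣ) : K).2
  · rintro ⟨c, hc⟩
    have h1 : x ^ ((Fintype.card F - 1) * (Fintype.card F - 1)) = 1 := by
      apply hj
      rw [map_pow, pow_mul, ← hc, ← map_pow, hu, map_one, map_one]
    have h2 := orderOf_dvd_of_pow_eq_one h1
    rw [hx] at h2
    obtain ⟨r, hr⟩ : ∃ r, Fintype.card F = r + 1 := ⟨Fintype.card F - 1, by omega⟩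
    have h3 : (r + 1) ^ 2 ≤ (r + 1) ^ s := Nat.pow_le_pow_right (by omega) hs
    rw [hr, Nat.add_sub_cancel] at h2
    have h4 := Nat.le_of_dvd (Nat.mul_pos (by omega) (by omega)) h2
    have h5 : (r + 1) ^ 2 = r * r + 2 * r + 1 := by ring
    omega

/-- a field of degree at least two contains a non-scalar matrix -/
theorem exists_nonscalar {s : ℕ} {K : Subalgebra F (Matrix (Fin n) (Fin n) F)} (hK : IsFieldSubalgebra s K)
    (hs : 2 ≤ s) : ∃ k ∈ K, ∀ c : F, k ≠ c • (1 : Matrix (Fin n) (Fin n) F) := by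
  have := nonempty_of_field hK (by omega)
  by_contra h
  push Not at h
  have hb : K = ⊥ := by
    refine le_bot_iff.1 fun k hk => ?_
    obtain ⟨c, rfl⟩ := h k hk
    exact Subalgebra.smul_mem _ (Subalgebra.one_mem _) c
  have h1 := hK.finrank_eq
  rw [hb, Subalgebra.finrank_bot] at h1
  omega

/-- a non-scalar element of a field of matrices has no eigenvector -/
theorem no_eigen {s : ℕ} {K : Subalgebra F (Matrix (Fin n) (Fin n) F)} (hK : IsFieldSubalgebra s K)
    {k : Matrix (Fin n) (Fin n) F} (hk : k ∈ K) {v : Fin n → F} (hv : v ≠ 0) {c : F} (h : k *ᵥ v = c • v) :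
    k = c • (1 : Matrix (Fin n) (Fin n) F) := by
  refine sub_eq_zero.1 (field_inj hK (K.sub_mem hk (K.smul_mem K.one_mem c)) hv ?_)
  rw [sub_mulVec, smul_mulVec, one_mulVec, h, sub_self]

/-- no transvection or reflection `1 + a φ` normalises a field of degree at least two, in dimension at least three -/
theorem noRefl (hn : 3 ≤ n) {s : ℕ} {K : Subalgebra F (Matrix (Fin n) (Fin n) F)} (hK : IsFieldSubalgebra s K)
    (hs : 2 ≤ s) {a φ : Fin n → F} (ha : a ≠ 0) (hφ : φ ≠ 0) {g : GL (Fin n) F}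
    (hg : (g : Matrix (Fin n) (Fin n) F) = 1 + vecMulVec a φ) : g ∉ subalgebraNormalizer K := by
  intro hN
  obtain ⟨k, hk, hns⟩ := exists_nonscalar hK hs
  have hgw : ∀ w, (g : Matrix (Fin n) (Fin n) F) *ᵥ w = w + (φ ⬝ᵥ w) • a := by
    intro w
    rw [hg, add_mulVec, one_mulVec, vecMulVec_mulVec, op_smul_eq_smul]
  let L : (Fin n → F) →ₗ[F] F × F :=
    (dotProductEquiv F (Fin n) φ).prod ((dotProductEquiv F (Fin n) φ).comp (Matrix.toLin' k))
  have hL : LinearMap.ker L ≠ ⊥ := LinearMap.ker_ne_bot_of_finrank_lt (by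
    rw [Module.finrank_prod, Module.finrank_self, Module.finrank_fin_fun]
    omega)
  obtain ⟨w, hw, hw0⟩ := (Submodule.ne_bot_iff _).1 hL
  have h1 : φ ⬝ᵥ w = 0 := congrArg Prod.fst hw
  have h2 : φ ⬝ᵥ (k *ᵥ w) = 0 := congrArg Prod.snd hw
  have h3 : (g : Matrix (Fin n) (Fin n) F) *ᵥ w = w := by rw [hgw, h1, zero_smul, add_zero]
  have h4 : (g : Matrix (Fin n) (Fin n) F) * k * ((g⁻¹ : GL (Fin n) F) : Matrix (Fin n) (Fin n) F) = k := by
    refine sub_eq_zero.1 (field_inj hK (K.sub_mem ((hN k).1 hk) hk) hw0 ?_)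
    have h5 : ((g⁻¹ : GL (Fin n) F) : Matrix (Fin n) (Fin n) F) *ᵥ w = w := by
      conv_lhs => rw [← h3]
      exact inv_mulVec_mulVec g w
    rw [sub_mulVec, ← mulVec_mulVec, ← mulVec_mulVec, h5, hgw, h2, zero_smul, add_zero, sub_self]
  obtain ⟨u, hu⟩ : ∃ u, φ ⬝ᵥ u ≠ 0 := by
    by_contra h
    push Not at h
    exact hφ (dotProduct_eq_zero φ h)
  have h6 : (g : Matrix (Fin n) (Fin n) F) *ᵥ (k *ᵥ u) = k *ᵥ ((g : Matrix (Fin n) (Fin n) F) *ᵥ u) := by
    conv_rhs => rw [← h4, ← mulVec_mulVec, ← mulVec_mulVec, inv_mulVec_mulVec]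
  rw [hgw, hgw, mulVec_add, mulVec_smul, add_right_inj] at h6
  refine hns ((φ ⬝ᵥ u)⁻¹ * (φ ⬝ᵥ (k *ᵥ u))) (no_eigen hK hk ha ?_)
  rw [mul_smul, h6, smul_smul, inv_mul_cancel₀ hu, one_smul]

theorem noTv (hn : 3 ≤ n) {s : ℕ} {K : Subalgebra F (Matrix (Fin n) (Fin n) F)} (hK : IsFieldSubalgebra s K)
    (hs : 2 ≤ s) {a φ : Fin n → F} (_hφa : φ ⬝ᵥ a = 0) (ha : a ≠ 0) (hφ : φ ≠ 0) {g : GL (Fin n) F}
    (hg : (g : Matrix (Fin n) (Fin n) F) = 1 + vecMulVec a φ) : g ∉ subalgebraNormalizer K :=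
  noRefl hn hK hs ha hφ hg

theorem boxAF : BoxAF := by
  classical
  intro F _ _ n s K Y v φ hs hK hY hφ hAF
  have := nonempty_of_field hK hs.one_le
  let _ : Field K := (isField_of_fieldSub hK).toField
  have : Finite K := Module.finite_of_finite F
  have hv : v ≠ 0 := by
    rintro rfl
    exact hφ (dotProduct_zero φ)
  have hN : NormAlg Y K := fun y hy k hk => (hY hy k).1 hk
  let ev : K →ₗ[F] (Fin n → F) :=
    { toFun := fun k => (k : Matrix (Fin n) (Fin n) F) *ᵥ v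
      map_add' := fun a b => add_mulVec _ _ _
      map_smul' := fun c a => smul_mulVec _ _ _ }
  have hev : LinearMap.ker ev = ⊥ := LinearMap.ker_eq_bot'.2 fun k hk => Subtype.ext (field_inj hK k.2 hv hk)
  obtain ⟨L, hL⟩ := LinearMap.exists_leftInverse_of_injective ev hev
  let l₀ : Module.Dual F K := (φ ⬝ᵥ v)⁻¹ • (dotProductEquiv F (Fin n) φ).comp ev
  have hl₀ : ∀ k : K, l₀ k = (φ ⬝ᵥ v)⁻¹ * (φ ⬝ᵥ ((k : Matrix (Fin n) (Fin n) F) *ᵥ v)) := fun k => rfl
  have key : ∀ l : Module.Dual F K, l 1 = 1 → ∃ σ : K ≃ₐ[F] K, ∀ k, l (σ k) = l₀ k := by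
    intro l hl
    obtain ⟨ψ, hψ⟩ := (dotProductEquiv F (Fin n)).surjective (l.comp L)
    have h1 : ∀ k : K, ψ ⬝ᵥ ((k : Matrix (Fin n) (Fin n) F) *ᵥ v) = l k := by
      intro k
      have h2 : ψ ⬝ᵥ (ev k) = l (L (ev k)) := LinearMap.congr_fun hψ (ev k)
      have h3 : L (ev k) = k := LinearMap.congr_fun hL k
      rw [h3] at h2
      exact h2
    have h2 : ψ ⬝ᵥ v = 1 := by
      have := h1 1
      rwa [OneMemClass.coe_one, one_mulVec, hl] at this
    obtain ⟨y, hy, ⟨d, hd⟩, c, hc⟩ := hAF ψ (by rw [h2]; exact one_ne_zero)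
    have hd0 : d ≠ 0 := by
      rintro rfl
      exact mulVec_ne_zero y hv (by rw [hd, zero_smul])
    have h3 : ((y⁻¹ : GL (Fin n) F) : Matrix (Fin n) (Fin n) F) *ᵥ v = d⁻¹ • v := by
      have := inv_mulVec_mulVec y v
      rw [hd, mulVec_smul] at this
      conv_rhs => rw [← this, smul_smul, inv_mul_cancel₀ hd0, one_smul]
    have h4 : ∀ k : K, l (conjSub hN ⟨y, hy⟩ k) = c * d⁻¹ * (φ ⬝ᵥ ((k : Matrix (Fin n) (Fin n) F) *ᵥ v)) := by
      intro k
      rw [← h1, conjSub_coe, ← mulVec_mulVec, ← mulVec_mulVec, dotProduct_mulVec]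
      change (ψ ᵥ* (y : Matrix (Fin n) (Fin n) F)) ⬝ᵥ ((k : Matrix (Fin n) (Fin n) F) *ᵥ
        (((y⁻¹ : GL (Fin n) F) : Matrix (Fin n) (Fin n) F) *ᵥ v)) = _
      rw [hc, h3, mulVec_smul, smul_dotProduct, dotProduct_smul, smul_eq_mul, smul_eq_mul, mul_assoc]
    have h5 := h4 1
    rw [map_one, hl, OneMemClass.coe_one, one_mulVec] at h5
    refine ⟨conjSub hN ⟨y, hy⟩, fun k => ?_⟩
    rw [h4, hl₀, eq_inv_of_mul_eq_one_left h5.symm]
  let E : Module.Dual F K →ₗ[F] F := Module.Dual.eval F K 1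
  have hl1 : l₀ 1 = 1 := by rw [hl₀, OneMemClass.coe_one, one_mulVec, inv_mul_cancel₀ hφ]
  have h1 : ∀ μ : LinearMap.ker E, ∃ σ : K ≃ₐ[F] K, ∀ k, (l₀ + μ.1) (σ k) = l₀ k := by
    intro μ
    refine key _ ?_
    have : μ.1 1 = 0 := μ.2
    rw [LinearMap.add_apply, hl1, this, add_zero]
  choose σ hσ using h1
  have hinj : Function.Injective σ := by
    intro μ ν h
    apply Subtype.ext
    refine LinearMap.ext fun k => ?_
    obtain ⟨k, rfl⟩ := (σ μ).surjective k
    have h2 := hσ μ k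
    have h3 := hσ ν k
    rw [← h, ← h2, LinearMap.add_apply, LinearMap.add_apply, add_right_inj] at h3
    exact h3.symm
  have h2 := Nat.card_le_card_of_injective σ hinj
  have hgal : IsGalois F K := inferInstance
  rw [IsGalois.card_aut_eq_finrank F K, hK.finrank_eq, Module.natCard_eq_pow_finrank (K := F),
    Nat.card_eq_fintype_card] at h2
  have h3 := E.finrank_range_add_finrank_ker
  have h4 : Module.finrank F (LinearMap.range E) ≤ 1 := by
    have := (LinearMap.range E).finrank_le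
    rwa [Module.finrank_self] at this
  rw [Subspace.dual_finrank_eq, hK.finrank_eq] at h3
  have hq : 2 ≤ Fintype.card F := Fintype.one_lt_card
  have hs2 := hs.two_le
  obtain ⟨r, rfl⟩ : ∃ r, s = r + 2 := ⟨s - 2, by omega⟩
  have h5 : Fintype.card F ^ (r + 1) ≤ r + 2 := le_trans (Nat.pow_le_pow_right (by omega) (by omega)) h2
  have h6 : 2 ^ (r + 1) ≤ r + 2 := le_trans (Nat.pow_le_pow_left hq _) h5
  have h7 : r < 2 ^ r := Nat.lt_two_pow_self
  have h8 : r = 0 := by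
    rw [pow_succ] at h6
    omega
  subst h8
  rw [pow_one] at h5
  omega

end Cfsg.Agent.SM.L.U
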