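import Cfsg.Agent.SM.L.Tr
import Cfsg.Agent.SM.L.U
import Cfsg.Agent.H667.HerFinIso
import Cfsg.Agent.LieClassical.SympSimple
import Cfsg.Agent.S0269
import Cfsg.Agent.S0765

/-!
# SM/L: consequences of `MF`, transvections, the symplectic group (helper18)

* `MF.mulZ`, `MF.noncomm`, `MF.not_solv`, `MF.noP`, `MF.not_ext`
* `pel A` (the elements of order `1` or `p`), `Tw.pel`
* `st hf u` (symplectic transvection), `sp_facts`
-/

set_option autoImplicit false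
set_option linter.unusedSectionVars false

namespace Cfsg.Agent.SM.L

open Cfsg Cfsg.Geo Matrix
open Cfsg.Agent.H873 (tv tv_mulVec coe_tv tv_mem_specialLinear gl_ext)
open Cfsg.Agent.S5642 (rep rep_dot)
open scoped MatrixGroups commutatorElement

variable {n : ℕ} {F : Type} [Field F] {R C : Subgroup (GL (Fin n) F)}

theorem comm_mulZ {y y' z z' : GL (Fin n) F} (hz : z ∈ scalars (Fin n) F) (hz' : z' ∈ scalars (Fin n) F) :
    y * z * (y' * z') * (y * z)⁻¹ * (y' * z')⁻¹ = y * y' * y⁻¹ * y'⁻¹ := by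
  have h1 : y * z * (y' * z') * (y * z)⁻¹ = y * (z * (y' * z') * z⁻¹) * y⁻¹ := by group
  rw [h1, scal_comm hz, mul_inv_cancel_right]
  have h2 : y * (y' * z') * y⁻¹ * (y' * z')⁻¹ = y * y' * (z' * y⁻¹ * z'⁻¹) * y'⁻¹ := by group
  rw [h2, scal_comm hz', mul_inv_cancel_right]

theorem MF.mulZ (h : MF R C) {N : Subgroup (GL (Fin n) F)} (hN : N ≤ R) (hn : ∀ x ∈ R, ∀ y ∈ N, x * y * x⁻¹ ∈ N)
    (hc : ∀ x ∈ R, ∀ y ∈ R, x * y * x⁻¹ * y⁻¹ ∈ N) : ∀ x ∈ R, ∃ y ∈ N, ∃ z ∈ scalars (Fin n) F, x = y * z := by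
  refine (h.simp N hN hn).resolve_left fun hle => ?_
  obtain ⟨x, hx, y, hy, hxy⟩ := h.nab
  exact hxy (hle (hc x hx y hy))

theorem MF.noncomm (h : MF R C) {N : Subgroup (GL (Fin n) F)}
    (hN : ∀ x ∈ R, ∃ y ∈ N, ∃ z ∈ scalars (Fin n) F, x = y * z) : ∃ x ∈ N, ∃ y ∈ N, x * y ≠ y * x := by
  obtain ⟨x, hx, y, hy, hxy⟩ := h.nab
  obtain ⟨a, ha, z, hz, rfl⟩ := hN x hx
  obtain ⟨b, hb, z', hz', rfl⟩ := hN y hy
  refine ⟨a, ha, b, hb, fun e => hxy ?_⟩
  rw [comm_mulZ hz hz', e, mul_inv_cancel_right, mul_inv_cancel]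
  exact Subgroup.one_mem _

theorem MF.not_le_scal (h : MF R C) : ¬ R ≤ scalars (Fin n) F := fun hle => by
  obtain ⟨x, hx, y, -, hxy⟩ := h.noncomm (N := R) fun x hx => ⟨x, hx, 1, Subgroup.one_mem _, (mul_one x).symm⟩
  exact hxy (scal_comm (hle hx) y)

theorem MF.not_solv (h : MF R C) {N : Subgroup (GL (Fin n) F)}
    (hN : ∀ x ∈ R, ∃ y ∈ N, ∃ z ∈ scalars (Fin n) F, x = y * z) : ¬ Group.IsSolvable N := by
  intro hs
  have key : ∀ {N : Subgroup (GL (Fin n) F)}, (∀ x ∈ R, ∃ y ∈ N, ∃ z ∈ scalars (Fin n) F, x = y * z) → ⁅R, R⁆ ≤ ⁅N, N⁆ := by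
    intro N hN
    refine Subgroup.commutator_le.2 fun x hx y hy => ?_
    obtain ⟨a, ha, z, hz, rfl⟩ := hN x hx
    obtain ⟨b, hb, z', hz', rfl⟩ := hN y hy
    rw [commutatorElement_def, comm_mulZ hz hz']
    exact Subgroup.commutator_mem_commutator ha hb
  have hR : ⁅R, R⁆ ≤ R := Subgroup.commutator_le.2 fun x hx y hy =>
    R.mul_mem (R.mul_mem (R.mul_mem hx hy) (R.inv_mem hx)) (R.inv_mem hy)
  have hD := h.mulZ hR (fun x hx y hy => by
    have h1 : x * y * x⁻¹ = ⁅x, y⁆ * y := by rw [commutatorElement_def]; group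
    rw [h1]
    exact Subgroup.mul_mem _ (Subgroup.commutator_mem_commutator hx (hR hy)) hy)
    fun x hx y hy => Subgroup.commutator_mem_commutator hx hy
  have hle : ⁅R, R⁆ ≤ N := (key hN).trans (Subgroup.commutator_le.2 fun x hx y hy =>
    N.mul_mem (N.mul_mem (N.mul_mem hx hy) (N.inv_mem hx)) (N.inv_mem hy))
  obtain ⟨x, hx, y, hy, hxy⟩ := h.noncomm hD
  have hne : (⁅R, R⁆ : Subgroup (GL (Fin n) F)).subgroupOf N ≠ ⊥ := fun e => by
    have h1 : (⟨x, hle hx⟩ : N) ∈ (⁅R, R⁆ : Subgroup (GL (Fin n) F)).subgroupOf N := hx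
    rw [e, Subgroup.mem_bot] at h1
    have h2 : x = 1 := congrArg Subtype.val h1
    exact hxy (by rw [h2, one_mul, mul_one])
  have hlt := Group.IsSolvable.commutator_lt_of_ne_bot hne
  have h3 := Subgroup.map_lt_map_iff_of_injective (f := N.subtype) N.subtype_injective |>.2 hlt
  rw [Subgroup.map_commutator, Subgroup.subgroupOf_map_subtype, inf_eq_left.2 hle] at h3
  exact h3.not_ge (key hD)

theorem eq_one_of_pow [Fintype F] {c : F} {k : ℕ} (h : c ^ ringChar F ^ k = 1) : c = 1 := by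
  have : Fact (ringChar F).Prime := ⟨CharP.char_is_prime F _⟩
  have h1 : (c - 1) ^ ringChar F ^ k = 0 := by rw [sub_pow_char_pow, h, one_pow, sub_self]
  exact sub_eq_zero.1 (pow_eq_zero_iff (pow_ne_zero _ (CharP.char_is_prime F _).ne_zero) |>.1 h1)

theorem pow_mv {x : GL (Fin n) F} {v : Fin n → F} {c : F} (h : (x : Matrix (Fin n) (Fin n) F) *ᵥ v = c • v) (k : ℕ) :
    ((x ^ k : GL (Fin n) F) : Matrix (Fin n) (Fin n) F) *ᵥ v = c ^ k • v := by
  induction k with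
  | zero => rw [pow_zero, pow_zero, Units.val_one, one_mulVec, one_smul]
  | succ k ih => rw [pow_succ', mul_mv, ih, mulVec_smul, h, smul_smul, pow_succ]

theorem FixP.fix [Fintype F] {x : GL (Fin n) F} {v : Fin n → F} (h : FixP x v) {k : ℕ} (hx : x ^ ringChar F ^ k = 1) :
    (x : Matrix (Fin n) (Fin n) F) *ᵥ v = v := by
  obtain ⟨c, hc⟩ := h
  by_cases hv : v = 0
  · rw [hv, mulVec_zero]
  have h1 := pow_mv hc (ringChar F ^ k)
  rw [hx, Units.val_one, one_mulVec] at h1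
  have h2 : c ^ ringChar F ^ k = 1 := by
    by_contra hne
    have h3 : (c ^ ringChar F ^ k - 1) • v = 0 := by rw [sub_smul, ← h1, one_smul, sub_self]
    exact hv ((smul_eq_zero.1 h3).resolve_left (sub_ne_zero.2 hne))
  rw [hc, eq_one_of_pow h2, one_smul]

theorem MF.noP [Fintype F] (h : MF R C) (N : Subgroup (GL (Fin n) F)) (hN : N ≤ R) (hn : ∀ x ∈ R, ∀ y ∈ N, x * y * x⁻¹ ∈ N)
    (hp : IsPGroup (ringChar F) N) : N = ⊥ := by
  have : Fact (ringChar F).Prime := ⟨CharP.char_is_prime F _⟩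
  rcases h.simp N hN hn with hle | hle
  · refine eq_bot_iff.2 fun x hx => Subgroup.mem_bot.2 (gl_ext fun v => ?_)
    obtain ⟨k, hk⟩ := hp ⟨x, hx⟩
    rw [(FixP.of_scal (hle hx) v).fix (congrArg Subtype.val hk), Units.val_one, one_mulVec]
  · have := hp.isNilpotent
    exact (h.not_solv hle inferInstance).elim

theorem MF.not_ext [Fintype F] (h : MF R C) : ¬ Ext R := by
  classical
  rintro ⟨s, K, hs, -, hK, hle⟩
  have := U.nonempty_of_field hK hs.one_lt.le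
  let _ : Field K := (H912.isField_of_fieldSub hK).toField
  have : Finite K := Module.finite_of_finite F
  obtain ⟨k, hk⟩ := IsCyclic.exists_monoid_generator (α := Kˣ)
  let j : Kˣ →* GL (Fin n) F := Units.map K.val.toRingHom.toMonoidHom
  have hj : ∀ g : GL (Fin n) F, (g : Matrix (Fin n) (Fin n) F) ∈ K → ∃ a : ℕ, g = j k ^ a := by
    intro g hg
    have h0 : (⟨g, hg⟩ : K) ≠ 0 := fun e => g.ne_zero (congrArg Subtype.val e)
    obtain ⟨a, ha⟩ := hk (Units.mk0 _ h0)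
    refine ⟨a, Units.ext ?_⟩
    rw [← map_pow]
    exact (congrArg (fun u : Kˣ => ((u : K) : Matrix (Fin n) (Fin n) F)) ha).symm
  have hc : ∀ x ∈ R, ∃ a : ℕ, x * j k * x⁻¹ = j k ^ a := fun x hx => hj _ ((hle hx _).1 (k : K).2)
  have hN := h.mulZ (N := R ⊓ Subgroup.centralizer {j k}) inf_le_left (fun x hx y hy => by
    refine ⟨R.mul_mem (R.mul_mem hx hy.1) (R.inv_mem hx), Subgroup.mem_centralizer_singleton_iff.2 ?_⟩
    obtain ⟨a, ha⟩ := hc x⁻¹ (R.inv_mem hx)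
    have h1 : Commute y (j k ^ a) := Commute.pow_right (Subgroup.mem_centralizer_singleton_iff.1 hy.2) a
    rw [inv_inv] at ha
    calc x * y * x⁻¹ * j k = x * (y * (x⁻¹ * j k * x)) * x⁻¹ := by group
      _ = x * ((x⁻¹ * j k * x) * y) * x⁻¹ := by rw [ha, h1.eq]
      _ = j k * (x * y * x⁻¹) := by group) fun x hx y hy => by
    refine ⟨R.mul_mem (R.mul_mem (R.mul_mem hx hy) (R.inv_mem hx)) (R.inv_mem hy), Subgroup.mem_centralizer_singleton_iff.2 ?_⟩
    obtain ⟨a, ha⟩ := hc x⁻¹ (R.inv_mem hx)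
    obtain ⟨b, hb⟩ := hc y⁻¹ (R.inv_mem hy)
    have h1 : x⁻¹ * (y⁻¹ * j k * y⁻¹⁻¹) * x⁻¹⁻¹ = y⁻¹ * (x⁻¹ * j k * x⁻¹⁻¹) * y⁻¹⁻¹ := by
      rw [hb, ← conj_pow, ha, ← conj_pow, hb, ← pow_mul, ← pow_mul, mul_comm]
    calc x * y * x⁻¹ * y⁻¹ * j k = x * y * (x⁻¹ * (y⁻¹ * j k * y⁻¹⁻¹) * x⁻¹⁻¹) * (x⁻¹ * y⁻¹) := by group
      _ = j k * (x * y * x⁻¹ * y⁻¹) := by rw [h1]; group
  obtain ⟨g, hg, hgK, hgs⟩ := U.normOne hK hs.two_le
  obtain ⟨a, rfl⟩ := hj g hgK
  refine hgs (h.cen _ hg fun x hx => ?_)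
  obtain ⟨y, hy, z, hz, rfl⟩ := hN x hx
  have h1 : Commute y (j k ^ a) := Commute.pow_right (Subgroup.mem_centralizer_singleton_iff.1 hy.2) a
  rw [← mul_assoc, ← h1.eq, mul_assoc, mul_assoc, scal_comm hz]

/-! ### unipotent elements -/

/-- the elements of order `1` or `p` -/
def pel (A : Subgroup (GL (Fin n) F)) : Set (GL (Fin n) F) := {x | x ∈ A ∧ x ^ ringChar F ^ 1 = 1}

theorem Tw.pel [Fintype F] {τ : GL (Fin n) F →* GL (Fin n) F} (h : Tw τ) (hR : Inv τ R) (hC : Inv τ C) {x : GL (Fin n) F}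
    (hx : x ∈ pel (R ⊓ C)) : τ x ∈ pel (R ⊓ C) ∧ ∃ y ∈ pel (R ⊓ C), τ y = x := by
  refine ⟨⟨⟨(hR x).1 hx.1.1, (hC x).1 hx.1.2⟩, by rw [← map_pow, hx.2, map_one]⟩, ?_⟩
  obtain ⟨y, rfl⟩ := Finite.surjective_of_injective h.injective x
  exact ⟨y, ⟨⟨(hR y).2 hx.1.1, (hC y).2 hx.1.2⟩, h.injective (by rw [map_pow, hx.2, map_one])⟩, rfl⟩

theorem tv_vm (a φ : Fin n → F) (h : φ ⬝ᵥ a = 0) (ψ : Fin n → F) :
    ψ ᵥ* (tv a φ h : Matrix (Fin n) (Fin n) F) = ψ + (ψ ⬝ᵥ a) • φ := by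
  rw [coe_tv, vecMul_add, vecMul_one, vecMul_vecMulVec]

theorem tv_pow (a φ : Fin n → F) (h : φ ⬝ᵥ a = 0) : tv a φ h ^ ringChar F ^ 1 = 1 := by
  have key : ∀ (k : ℕ) (x : Fin n → F), ((tv a φ h ^ k : GL (Fin n) F) : Matrix (Fin n) (Fin n) F) *ᵥ x =
      x + ((k : F) * (φ ⬝ᵥ x)) • a := by
    intro k x
    induction k with
    | zero => simp
    | succ k ih =>
      rw [pow_succ', mul_mv, ih, tv_mulVec, dotProduct_add, dotProduct_smul, h, smul_zero, add_zero, add_assoc, ← add_smul,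
        Nat.cast_succ, add_mul, one_mul]
  refine gl_ext fun x => ?_
  rw [key, pow_one, ringChar.Nat.cast_ringChar, zero_mul, zero_smul, add_zero, Units.val_one, one_mulVec]

theorem exists_dot {φ : Fin n → F} (h : φ ≠ 0) : ∃ u, φ ⬝ᵥ u ≠ 0 := by
  by_contra h'
  push Not at h'
  exact h (dotProduct_eq_zero φ h')

theorem tv_not_scal {a φ : Fin n → F} (h : φ ⬝ᵥ a = 0) (ha : a ≠ 0) (hφ : φ ≠ 0) : tv a φ h ∉ scalars (Fin n) F := by
  intro hs
  obtain ⟨c, hc⟩ := (mem_scalars_iff _).1 hs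
  obtain ⟨u, hu⟩ := exists_dot hφ
  have h1 := tv_mulVec a φ h u
  rw [hc, smul_mulVec, one_mulVec] at h1
  have h2 := congrArg (φ ⬝ᵥ ·) h1
  simp only [dotProduct_smul, dotProduct_add, h, mul_zero, add_zero, smul_eq_mul] at h2
  have h3 : (c : F) = 1 := mul_right_cancel₀ hu (by rw [h2, one_mul])
  rw [h3, one_smul, left_eq_add, smul_eq_zero] at h1
  exact h1.elim hu ha

/-- `x` commutes with `1 + a φ` if it fixes `a` and `φ` -/
theorem comm_of_fix {x g : GL (Fin n) F} {a φ : Fin n → F} (hg : ∀ w, (g : Matrix (Fin n) (Fin n) F) *ᵥ w = w + (φ ⬝ᵥ w) • a)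
    (ha : (x : Matrix (Fin n) (Fin n) F) *ᵥ a = a) (hφ : ∀ w, φ ⬝ᵥ ((x : Matrix (Fin n) (Fin n) F) *ᵥ w) = φ ⬝ᵥ w) :
    x * g = g * x := gl_ext fun w => by rw [mul_mv, mul_mv, hg, hg, mulVec_add, mulVec_smul, ha, hφ]

/-- a non-zero common zero of `k < n` functionals -/
theorem exists_zero {k : ℕ} (hk : k < n) (φ : Fin k → Fin n → F) : ∃ u, u ≠ 0 ∧ ∀ i, φ i ⬝ᵥ u = 0 := by
  have hL : LinearMap.ker (Matrix.toLin' (Matrix.of φ)) ≠ ⊥ := LinearMap.ker_ne_bot_of_finrank_lt (by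
    rw [Module.finrank_fin_fun, Module.finrank_fin_fun]
    exact hk)
  obtain ⟨w, hw, hw0⟩ := (Submodule.ne_bot_iff _).1 hL
  exact ⟨w, hw0, fun i => congrFun hw i⟩

theorem not_sl_le_stP (hn : 2 ≤ n) {v : Fin n → F} (hv : v ≠ 0) : ¬ specialLinear (Fin n) F ≤ stP v := by
  intro hle
  obtain ⟨φ, hφ⟩ := exists_dot hv
  obtain ⟨a, ha, h⟩ := exists_zero (k := 1) (by omega) ![φ]
  have h0 : φ ⬝ᵥ a = 0 := h 0
  rw [dotProduct_comm] at hφ
  obtain ⟨c, hc⟩ := hle (tv_mem_specialLinear a φ h0)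
  rw [tv_mulVec] at hc
  have h2 := congrArg (φ ⬝ᵥ ·) hc
  simp only [dotProduct_smul, dotProduct_add, h0, mul_zero, add_zero, smul_eq_mul] at h2
  have h3 : c = 1 := mul_right_cancel₀ hφ (by rw [← h2, one_mul])
  rw [h3, one_smul, add_eq_left, smul_eq_zero] at hc
  exact hc.elim hφ ha

/-! ### the symplectic group -/

section forms

variable {f : (Fin n → F) → (Fin n → F) → F}

theorem rep_self (hf : IsSymplecticForm f) (u : Fin n → F) : rep f u ⬝ᵥ u = 0 := by rw [rep_dot hf.bilinear, hf.alternating]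

theorem rep_ne (hf : IsSymplecticForm f) {u : Fin n → F} (hu : u ≠ 0) : rep f u ≠ 0 := fun e => by
  obtain ⟨-, x, hx⟩ := hf.nondegenerate u hu
  exact hx (by rw [← rep_dot hf.bilinear, e, zero_dotProduct])

/-- the symplectic transvection -/
def st (hf : IsSymplecticForm f) (u : Fin n → F) : GL (Fin n) F := tv u (rep f u) (rep_self hf u)

theorem st_mv (hf : IsSymplecticForm f) (u x : Fin n → F) :
    (st hf u : Matrix (Fin n) (Fin n) F) *ᵥ x = x + f u x • u := by rw [st, tv_mulVec, rep_dot hf.bilinear]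

theorem st_iso (hf : IsSymplecticForm f) (u : Fin n → F) : Iso f (st hf u) := fun x y => by
  rw [st_mv, st_mv]
  simp only [hf.bilinear.add_left, hf.bilinear.add_right, hf.bilinear.smul_left, hf.bilinear.smul_right, hf.alternating]
  rw [hf.skew x u]
  ring

theorem iso_of_pow [Fintype F] {x : GL (Fin n) F} (hx : x ∈ similarityGroup f) {k : ℕ}
    (h : x ^ ringChar F ^ k = 1) : Iso f x := by
  obtain ⟨c, hc⟩ := hx
  have key : ∀ (j : ℕ) (u w : Fin n → F), f (((x ^ j : GL (Fin n) F) : Matrix (Fin n) (Fin n) F) *ᵥ u)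
      (((x ^ j : GL (Fin n) F) : Matrix (Fin n) (Fin n) F) *ᵥ w) = (c : F) ^ j * f u w := by
    intro j u w
    induction j with
    | zero => simp
    | succ j ih => rw [pow_succ', mul_mv, mul_mv, hc, ih, pow_succ', mul_assoc]
  intro u w
  by_cases h0 : f u w = 0
  · rw [hc, h0, mul_zero]
  have h1 := key (ringChar F ^ k) u w
  rw [h, Units.val_one, one_mulVec, one_mulVec] at h1
  have h2 : (c : F) ^ ringChar F ^ k = 1 := mul_right_cancel₀ h0 (by rw [← h1, one_mul])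
  rw [hc, eq_one_of_pow h2, one_mul]

theorem not_sl_le_sim (hn : 3 ≤ n) (hf : IsSymplecticForm f) : ¬ specialLinear (Fin n) F ≤ similarityGroup f := by
  intro hle
  obtain ⟨v, hv, -⟩ := exists_zero (n := n) (F := F) (k := 0) (by omega) ![]
  obtain ⟨-, w, hw⟩ := hf.nondegenerate v hv
  obtain ⟨a, ha, h⟩ := exists_zero (k := 2) (by omega) ![rep f v, rep f w]
  have h0 : rep f v ⬝ᵥ a = 0 := h 0
  have h1 : f w a = 0 := (rep_dot hf.bilinear _ _).symm.trans (h 1)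
  have h0' : f v a = 0 := (rep_dot hf.bilinear _ _).symm.trans h0
  obtain ⟨c, hc⟩ := hle (tv_mem_specialLinear a _ h0)
  obtain ⟨-, b, hb⟩ := hf.nondegenerate a ha
  have e1 := hc v w
  have e2 := hc w (b - (f v b / f v w) • w)
  have e3 : f v (b - (f v b / f v w) • w) = 0 := by
    rw [S5642.f_sub_right hf.bilinear, hf.bilinear.smul_right, div_mul_cancel₀ _ hw, sub_self]
  simp only [tv_mulVec, rep_dot hf.bilinear, hf.alternating, zero_smul, add_zero, e3, hf.bilinear.add_right,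
    hf.bilinear.add_left, hf.bilinear.smul_right, hf.bilinear.smul_left, h0', mul_zero] at e1 e2
  have h3 : (c : F) = 1 := mul_right_cancel₀ hw (by rw [← e1, one_mul])
  rw [h3, one_mul, add_eq_left, S5642.f_sub_right hf.bilinear, hf.bilinear.smul_right, hf.skew a w, h1] at e2
  simp [hw, hb] at e2

theorem sp_iso (hf : IsSymplecticForm f) : ∃ m : ℕ, n = 2 * m ∧ Nonempty (spG f ≃* Matrix.symplecticGroup (Fin m) F) := by
  let B : LinearMap.BilinForm F (Fin n → F) := LinearMap.mk₂ F f hf.bilinear.add_left hf.bilinear.smul_left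
    hf.bilinear.add_right hf.bilinear.smul_right
  let ρ : spG f →* ((Fin n → F) ≃ₗ[F] (Fin n → F)) :=
    ((LinearMap.GeneralLinearGroup.generalLinearEquiv F (Fin n → F)).toMonoidHom.comp
      (Matrix.GeneralLinearGroup.toLin (n := Fin n) (R := F)).toMonoidHom).comp (spG f).subtype
  have hρ : ∀ (x : spG f) w, ρ x w = ((x : GL (Fin n) F) : Matrix (Fin n) (Fin n) F) *ᵥ w := fun _ _ => rfl
  obtain ⟨m, hm, e⟩ := H667.HerFin.exists_sp ρ (fun x y e => Subtype.ext (gl_ext fun w => by rw [← hρ, ← hρ, e])) B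
    hf.alternating ⟨fun u hu => by_contra fun h0 => (hf.nondegenerate u h0).2.elim fun x hx => hx (hu x),
      fun u hu => by_contra fun h0 => (hf.nondegenerate u h0).1.elim fun x hx => hx (hu x)⟩ (fun g => ⟨fun hg => by
      obtain ⟨x, hx⟩ := (Matrix.GeneralLinearGroup.toLin (n := Fin n) (R := F)).surjective
        ((LinearMap.GeneralLinearGroup.generalLinearEquiv F (Fin n → F)).symm g)
      have h1 : ∀ w, (x : Matrix (Fin n) (Fin n) F) *ᵥ w = g w := fun w =>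
        congrArg (fun u : LinearMap.GeneralLinearGroup F (Fin n → F) => (u : (Fin n → F) →ₗ[F] (Fin n → F)) w) hx
      exact ⟨⟨x, fun u w => by rw [h1, h1]; exact hg u w⟩, LinearEquiv.ext fun w => h1 w⟩, by
      rintro ⟨x, rfl⟩ u w
      exact x.2 u w⟩)
  exact ⟨m, by rw [← hm, Module.finrank_fin_fun], e⟩

theorem sp_facts [Fintype F] (hf : IsSymplecticForm f) (hn : 3 ≤ n) (h42 : ¬ (n = 4 ∧ Fintype.card F = 2)) :
    spG f ≤ specialLinear (Fin n) F ∧ ∀ N : Subgroup (GL (Fin n) F), N ≤ spG f → (∀ x ∈ spG f, ∀ y ∈ N, x * y * x⁻¹ ∈ N) →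
      (∃ x ∈ N, ∃ y ∈ N, x * y ≠ y * x) → spG f ≤ N := by
  obtain ⟨m, hm, ⟨e⟩⟩ := sp_iso hf
  have hq : 2 ≤ Fintype.card F := Fintype.one_lt_card
  have hp : commutator (Matrix.symplecticGroup (Fin m) F) = ⊤ := S0269.result m (by omega)
  constructor
  · intro x hx
    let d : Matrix.symplecticGroup (Fin m) F →* Fˣ :=
      (Matrix.GeneralLinearGroup.det.comp (spG f).subtype).comp e.symm.toMonoidHom
    have h1 : e ⟨x, hx⟩ ∈ d.ker := Abelianization.commutator_subset_ker d (hp ▸ Subgroup.mem_top _)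
    have h2 : Matrix.GeneralLinearGroup.det ((e.symm (e ⟨x, hx⟩) : spG f) : GL (Fin n) F) = 1 := h1
    rw [e.symm_apply_apply] at h2
    exact h2
  · rintro N hN hn ⟨x, hx, y, hy, hxy⟩ g hg
    let N' : Subgroup (Matrix.symplecticGroup (Fin m) F) := N.comap ((spG f).subtype.comp e.symm.toMonoidHom)
    have hmem : ∀ a : spG f, e a ∈ N' ↔ (a : GL (Fin n) F) ∈ N := fun a => by
      change ((e.symm (e a) : spG f) : GL (Fin n) F) ∈ N ↔ _
      rw [e.symm_apply_apply]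
    have : N'.Normal := ⟨fun a ha b => by
      obtain ⟨a, rfl⟩ := e.surjective a
      obtain ⟨b, rfl⟩ := e.surjective b
      rw [← map_inv, ← map_mul, ← map_mul, hmem]
      exact hn _ b.2 _ ((hmem a).1 ha)⟩
    have h1 := LieClassical.SympSimple.commutator_le_of_not_le_center (S0765.result m) N' fun hle => hxy (by
      have h2 := Subgroup.mem_center_iff.1 (hle ((hmem ⟨y, hN hy⟩).2 hy)) (e ⟨x, hN hx⟩)
      rw [← map_mul, ← map_mul] at h2
      exact congrArg Subtype.val (e.injective h2))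
    exact (hmem ⟨g, hg⟩).1 (h1 (hp ▸ Subgroup.mem_top _))

end forms

end Cfsg.Agent.SM.L
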