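import Cfsg.Agent.SM.L.Defs
import Cfsg.Agent.SM.Ex78.Base
import Cfsg.Agent.H851.Rl.RedBig
import Cfsg.Agent.H951.Rl.Irr
import Cfsg.Agent.H951.Rl.ExtGL

/-!
# SM/L, boxes K1 and K2: orders (helper89)

* `card_dvd` : `|SL_n(q)|` divides `|X| |Y|`
* `full` : the full `u`-part of `q ^ k - 1` divides `|X|` if `u` does not divide `|Y|`
* `size` : `q ^ (n ^ 2 - 1) ≤ 2 |X| |Y|`
* `red` : a reducible group whose order is divisible by a primitive prime divisor of `q ^ (n - 1) - 1`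
-/

set_option autoImplicit false
set_option linter.unusedSectionVars false
set_option maxHeartbeats 200000

namespace Cfsg.Agent.SM.L.K

open Cfsg Cfsg.Geo Matrix Module Cfsg.Agent.H728.DghpNum
open Cfsg.Agent.H294.Rl (PG PG_succ card_sl_mul sl_ge)
open Cfsg.Agent.H199.PslAut (itGL)
open scoped MatrixGroups

variable {n : ℕ} {F : Type} [Field F] [Fintype F] {X Y : Subgroup (GL (Fin n) F)}

theorem card_dvd (h : Pd2 X Y) : Nat.card (specialLinear (Fin n) F) ∣ Nat.card X * Nat.card Y := by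
  have h1 : Cfsg.Agent.SM.Ex78.Pd (X.subgroupOf (specialLinear (Fin n) F)) (Y.subgroupOf (specialLinear (Fin n) F)) := by
    intro g
    obtain ⟨x, hx, y, hy, e⟩ := h.mul g g.2
    exact ⟨⟨x, h.left hx⟩, hx, ⟨y, h.right hy⟩, hy, Subtype.ext e⟩
  have h2 := h1.card_dvd
  rwa [Nat.card_congr (Subgroup.subgroupOfEquivOfLe h.left).toEquiv,
    Nat.card_congr (Subgroup.subgroupOfEquivOfLe h.right).toEquiv] at h2

theorem size (hn : 2 ≤ n) (h : Pd2 X Y) : Fintype.card F ^ (n ^ 2 - 1) ≤ 2 * (Nat.card X * Nat.card Y) :=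
  (sl_ge hn).trans (Nat.mul_le_mul_left _ (Nat.le_of_dvd (Nat.mul_pos Nat.card_pos Nat.card_pos) (card_dvd h)))

theorem dvd_PG (q : ℕ) : ∀ m k : ℕ, 1 ≤ k → k ≤ m → q ^ k - 1 ∣ PG q m
  | 0, k, h1, h2 => by omega
  | m + 1, k, h1, h2 => by
    rw [PG_succ]
    rcases Nat.lt_or_ge m k with h | h
    · obtain rfl : k = m + 1 := by omega
      exact Dvd.intro _ rfl
    · exact ((dvd_PG q m k h1 h).mul_left _).mul_left _

theorem not_dvd_pred {q k u : ℕ} (hP : Ppd q k u) (hk : 2 ≤ k) : ¬ u ∣ q - 1 := by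
  intro h
  have := (hP.dvd_iff 1).mp (by rwa [pow_one])
  exact absurd (Nat.le_of_dvd one_pos this) (by omega)

theorem full (h : Pd2 X Y) {k u a : ℕ} (hP : Ppd (Fintype.card F) k u) (hk : 2 ≤ k) (hkn : k ≤ n)
    (hY : ¬ u ∣ Nat.card Y) (ha : u ^ a ∣ Fintype.card F ^ k - 1) : u ^ a ∣ Nat.card X := by
  have h1 : u ^ a ∣ Nat.card (specialLinear (Fin n) F) * (Fintype.card F - 1) := by
    rw [card_sl_mul (by omega)]
    exact ha.trans (dvd_PG _ n k (by omega) hkn)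
  have h2 := (Nat.Coprime.pow_left a (hP.prime.coprime_iff_not_dvd.2 (not_dvd_pred hP hk))).dvd_of_dvd_mul_right h1
  exact (Nat.Coprime.pow_left a (hP.prime.coprime_iff_not_dvd.2 hY)).dvd_of_dvd_mul_right (h2.trans (card_dvd h))

theorem full1 (h : Pd2 X Y) {k u : ℕ} (hP : Ppd (Fintype.card F) k u) (hk : 2 ≤ k) (hkn : k ≤ n)
    (hY : ¬ u ∣ Nat.card Y) : u ∣ Nat.card X := by
  have := full (a := 1) h hP hk hkn hY (by rw [pow_one]; exact (hP.dvd_iff k).2 dvd_rfl)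
  rwa [pow_one] at this

/-! ### reducible groups -/

section red

variable {u k : ℕ} {g : GL (Fin n) F}

theorem pow_mulVec {w : Fin n → F} {c : F} (h : (g : Matrix (Fin n) (Fin n) F) *ᵥ w = c • w) (i : ℕ) :
    ((g ^ i : GL (Fin n) F) : Matrix (Fin n) (Fin n) F) *ᵥ w = c ^ i • w := by
  induction i with
  | zero => simp
  | succ i ih => rw [pow_succ, Units.val_mul, ← mulVec_mulVec, h, mulVec_smul, ih, smul_smul, pow_succ']

theorem fix_of_fixP (hP : Ppd (Fintype.card F) k u) (hk : 2 ≤ k) (hg : orderOf g = u) {w : Fin n → F}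
    (h : FixP g w) : (g : Matrix (Fin n) (Fin n) F) *ᵥ w = w := by
  obtain ⟨c, hc⟩ := h
  by_cases hw : w = 0
  · rw [hw, mulVec_zero]
  have h1 := pow_mulVec hc u
  rw [← hg, pow_orderOf_eq_one, Units.val_one, one_mulVec, hg] at h1
  have h2 : c ^ u = 1 := by
    have h3 : (c ^ u - 1) • w = 0 := by rw [sub_smul, one_smul, ← h1, sub_self]
    exact sub_eq_zero.1 ((smul_eq_zero.1 h3).resolve_right hw)
  have hc0 : c ≠ 0 := by
    rintro rfl
    rw [zero_pow hP.prime.ne_zero] at h2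
    exact zero_ne_one h2
  have h3 : c ^ (Fintype.card F - 1) = 1 := FiniteField.pow_card_sub_one_eq_one c hc0
  have h4 := Nat.dvd_gcd (orderOf_dvd_of_pow_eq_one h2) (orderOf_dvd_of_pow_eq_one h3)
  rw [(hP.prime.coprime_iff_not_dvd.2 (not_dvd_pred hP hk)).gcd_eq_one, Nat.dvd_one, orderOf_eq_one_iff] at h4
  rw [hc, h4, one_smul]

/-- the sum of the powers -/
noncomputable def nrm (g : GL (Fin n) F) (u : ℕ) : Matrix (Fin n) (Fin n) F :=
  ∑ i ∈ Finset.range u, ((g ^ i : GL (Fin n) F) : Matrix (Fin n) (Fin n) F)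

theorem mul_nrm (hg : orderOf g = u) : (g : Matrix (Fin n) (Fin n) F) * nrm g u = nrm g u := by
  have h1 : (g : Matrix (Fin n) (Fin n) F) ^ u = 1 := by
    rw [← Units.val_pow_eq_pow_val, ← hg, pow_orderOf_eq_one, Units.val_one]
  have h2 := mul_geom_sum (g : Matrix (Fin n) (Fin n) F) u
  rw [h1, sub_self, sub_mul, one_mul, sub_eq_zero] at h2
  simpa [nrm] using h2

theorem nrm_mul (hg : orderOf g = u) : nrm g u * (g : Matrix (Fin n) (Fin n) F) = nrm g u := by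
  have h1 : (g : Matrix (Fin n) (Fin n) F) ^ u = 1 := by
    rw [← Units.val_pow_eq_pow_val, ← hg, pow_orderOf_eq_one, Units.val_one]
  have h2 := geom_sum_mul (g : Matrix (Fin n) (Fin n) F) u
  rw [h1, sub_self, mul_sub, mul_one, sub_eq_zero] at h2
  simpa [nrm] using h2

theorem nrm_mulVec {w : Fin n → F} (h : (g : Matrix (Fin n) (Fin n) F) *ᵥ w = w) : nrm g u *ᵥ w = (u : F) • w := by
  have h1 : ∀ i, ((g ^ i : GL (Fin n) F) : Matrix (Fin n) (Fin n) F) *ᵥ w = w := fun i => by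
    simpa using pow_mulVec (g := g) (w := w) (c := (1 : F)) (by rw [h, one_smul]) i
  rw [nrm, sum_mulVec]
  simp only [h1, Finset.sum_const, Finset.card_range, Nat.cast_smul_eq_nsmul]

theorem vecMul_nrm {w : Fin n → F} (h : w ᵥ* (g : Matrix (Fin n) (Fin n) F) = w) : w ᵥ* nrm g u = (u : F) • w := by
  have h1 : ∀ i, w ᵥ* ((g ^ i : GL (Fin n) F) : Matrix (Fin n) (Fin n) F) = w := fun i => by
    induction i with
    | zero => simp
    | succ i ih => rw [pow_succ, Units.val_mul, ← vecMul_vecMul, ih, h]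
  rw [nrm, vecMul_sum]
  simp only [h1, Finset.sum_const, Finset.card_range, Nat.cast_smul_eq_nsmul]

/-- the fixed vectors are proportional -/
theorem fix_uniq (hP : Ppd (Fintype.card F) k u) (hk : 2 ≤ k) (hn : n = k + 1) (hg : orderOf g = u) {v w : Fin n → F}
    (hv0 : v ≠ 0) (hv : (g : Matrix (Fin n) (Fin n) F) *ᵥ v = v) (hw : (g : Matrix (Fin n) (Fin n) F) *ᵥ w = w) :
    ∃ c : F, w = c • v := by
  set A : Matrix (Fin n) (Fin n) F := (g : Matrix (Fin n) (Fin n) F) - 1 with hA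
  have hu : (u : F) ≠ 0 := hP.natCast_ne (k := 1) (pow_one _).symm
  have hmem : ∀ x, x ∈ LinearMap.ker (toLin' A) ↔ (g : Matrix (Fin n) (Fin n) F) *ᵥ x = x := fun x => by
    rw [LinearMap.mem_ker, toLin'_apply, hA, sub_mulVec, one_mulVec, sub_eq_zero]
  have hcomm : (g : Matrix (Fin n) (Fin n) F) * A = A * g := by rw [hA, mul_sub, sub_mul, mul_one, one_mul]
  have hrank := LinearMap.finrank_range_add_finrank_ker (toLin' A)
  rw [finrank_fin_fun] at hrank
  have hle : finrank F (LinearMap.ker (toLin' A)) ≤ 1 := by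
    rcases Cfsg.Agent.H304.Ppd.le_finrank_of_mem_stabilizer hP hg (W := LinearMap.ker (toLin' A))
      (fun x hx => by rw [(hmem x).1 hx]; exact hx) with h1 | h1
    · exfalso
      have h2 : finrank F (LinearMap.range (toLin' A)) ≤ 1 := by omega
      -- the image is fixed
      have h3 : ∀ x, (g : Matrix (Fin n) (Fin n) F) *ᵥ (A *ᵥ x) = A *ᵥ x := by
        intro x
        apply fix_of_fixP hP hk hg
        by_cases h0 : A *ᵥ x = 0
        · exact ⟨0, by rw [h0, mulVec_zero, zero_smul]⟩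
        obtain ⟨z, hz⟩ := finrank_le_one_iff.1 h2
        obtain ⟨a, ha⟩ := hz ⟨A *ᵥ x, x, rfl⟩
        obtain ⟨b, hb⟩ := hz ⟨A *ᵥ ((g : Matrix (Fin n) (Fin n) F) *ᵥ x), _, rfl⟩
        have ha' : a • (z : Fin n → F) = A *ᵥ x := congrArg Subtype.val ha
        have hb' : b • (z : Fin n → F) = A *ᵥ ((g : Matrix (Fin n) (Fin n) F) *ᵥ x) := congrArg Subtype.val hb
        have ha0 : a ≠ 0 := by
          rintro rfl
          exact h0 (by rw [← ha', zero_smul])
        refine ⟨b * a⁻¹, ?_⟩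
        rw [mulVec_mulVec, hcomm, ← mulVec_mulVec, ← hb', ← ha', smul_smul, mul_assoc, inv_mul_cancel₀ ha0, mul_one]
      have h4 : ∀ x, A *ᵥ x = 0 := by
        intro x
        have h5 := nrm_mulVec (u := u) (h3 x)
        rw [mulVec_mulVec, hA, mul_sub, nrm_mul hg, mul_one, sub_self, zero_mulVec] at h5
        exact (smul_eq_zero.1 h5.symm).resolve_left hu
      have h5 : g = 1 := by
        apply Cfsg.Agent.H873.gl_ext
        intro x
        have := h4 x
        rw [hA, sub_mulVec, sub_eq_zero] at this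
        rw [this, Units.val_one]
      rw [h5, orderOf_one] at hg
      exact hP.prime.one_lt.ne hg
    · rw [Fintype.card_fin] at h1
      omega
  obtain ⟨z, hz⟩ := finrank_le_one_iff.1 hle
  obtain ⟨a, ha⟩ := hz ⟨v, (hmem v).2 hv⟩
  obtain ⟨b, hb⟩ := hz ⟨w, (hmem w).2 hw⟩
  have ha' : a • (z : Fin n → F) = v := congrArg Subtype.val ha
  have hb' : b • (z : Fin n → F) = w := congrArg Subtype.val hb
  have ha0 : a ≠ 0 := by
    rintro rfl
    exact hv0 (by rw [← ha', zero_smul])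
  exact ⟨b * a⁻¹, by rw [← hb', ← ha', smul_smul, mul_assoc, inv_mul_cancel₀ ha0, mul_one]⟩

theorem it_mulVec (x : GL (Fin n) F) (w : Fin n → F) :
    (itGL x⁻¹ : Matrix (Fin n) (Fin n) F) *ᵥ w = w ᵥ* (x : Matrix (Fin n) (Fin n) F) := by
  rw [Cfsg.Agent.H199.PslAut.coe_itGL, inv_inv, mulVec_transpose]

theorem order_it (x : GL (Fin n) F) : orderOf (itGL x⁻¹) = orderOf x := by
  rw [orderOf_injective itGL (Function.LeftInverse.injective Cfsg.Agent.H199.PslAut.itGL_itGL), orderOf_inv]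

theorem exists_dot {v : Fin n → F} (hv : v ≠ 0) : ∃ ψ : Fin n → F, ψ ⬝ᵥ v ≠ 0 := by
  obtain ⟨i, hi⟩ := Function.ne_iff.1 hv
  exact ⟨Pi.single i 1, by simpa using hi⟩

/-- **a reducible group** -/
theorem red (hP : Ppd (Fintype.card F) k u) (hk : 2 ≤ k) (hn : n = k + 1) (hu : u ∣ Nat.card X)
    (hirr : ¬ ActsIrreducibly (matrixSet X)) : Red X := by
  obtain ⟨g, hgX, hg⟩ := Cfsg.Agent.H951.Rl.exists_elt hP.prime hu
  have hu0 : (u : F) ≠ 0 := hP.natCast_ne (k := 1) (pow_one _).symm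
  have hg' : orderOf (itGL g⁻¹) = u := by rw [order_it, hg]
  have fixH : ∀ {ψ : Fin n → F}, FixH g ψ → ψ ᵥ* (g : Matrix (Fin n) (Fin n) F) = ψ := by
    intro ψ h
    rw [← it_mulVec]
    apply fix_of_fixP hP hk hg'
    obtain ⟨c, hc⟩ := h
    exact ⟨c, by rw [it_mulVec, hc]⟩
  have key : ∀ v φ : Fin n → F, φ ⬝ᵥ v ≠ 0 → (g : Matrix (Fin n) (Fin n) F) *ᵥ v = v →
      φ ᵥ* (g : Matrix (Fin n) (Fin n) F) = φ → ((∀ x ∈ X, FixP x v) ∨ ∀ x ∈ X, FixH x φ) → Red X := by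
    intro v φ h1 h2 h3 h4
    refine ⟨v, φ, h1, fun w _ hw => ?_, fun ψ _ hψ => ?_, h4⟩
    · refine fix_uniq hP hk hn hg ?_ h2 (fix_of_fixP hP hk hg (hw g hgX))
      rintro rfl
      exact h1 (dotProduct_zero _)
    · refine fix_uniq hP hk hn hg' ?_ (by rw [it_mulVec, h3]) (by rw [it_mulVec, fixH (hψ g hgX)])
      rintro rfl
      exact h1 (zero_dotProduct _)
  subst hn
  rcases Cfsg.Agent.H95.Rl.red_of hP hu hirr with ⟨v, hv, h⟩ | ⟨W, hW, h⟩
  · obtain ⟨ψ, hψ⟩ := exists_dot hv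
    have h1 := fix_of_fixP hP hk hg (h g hgX)
    refine key v (ψ ᵥ* nrm g u) ?_ h1 (by rw [vecMul_vecMul, nrm_mul hg]) (Or.inl h)
    rw [← dotProduct_mulVec, nrm_mulVec h1, dotProduct_smul]
    exact smul_ne_zero hu0 hψ
  · obtain ⟨φ, hφ, h1⟩ := Cfsg.Agent.H815.Rl.dual_fix hW h
    have h2 : ∀ x ∈ X, FixH x φ := by
      intro x hx
      obtain ⟨c, hc⟩ := h1 (itGL x⁻¹) ⟨x⁻¹, X.inv_mem hx, rfl⟩
      exact ⟨c, by rw [← it_mulVec, hc]⟩
    obtain ⟨w, hw⟩ := exists_dot hφ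
    have h3 := fixH (h2 g hgX)
    refine key (nrm g u *ᵥ w) φ ?_ (by rw [mulVec_mulVec, mul_nrm hg]) h3 (Or.inr h2)
    rw [dotProduct_mulVec, vecMul_nrm h3, smul_dotProduct, dotProduct_comm]
    exact smul_ne_zero hu0 hw

end red

end Cfsg.Agent.SM.L.K
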