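import Cfsg.Agent.SM.L.KBase
import Cfsg.Agent.H788.Rl.Tab
import Cfsg.Agent.H953.Sympl

/-!
# SM/L, box K1: dimension four (helper89)

* `classes4` : the irreducible subgroups of `SL_4(q)` of order divisible by a primitive prime divisor of `q ^ 3 - 1`
* `sub44` : `SL_4(4)` is not the product of `SL_4(2)` and a geometric group
-/

set_option autoImplicit false
set_option linter.unusedSectionVars false
set_option maxHeartbeats 200000

namespace Cfsg.Agent.SM.L.K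

open Cfsg Cfsg.Geo Matrix Module Cfsg.Agent.H728.DghpNum Cfsg.Agent.H304.Ppd Cfsg.Agent.H251.GeoCard
open Cfsg.Agent.H592.Rl (le_of_div)
open Cfsg.Agent.H851.Rl (Uni)
open scoped MatrixGroups

variable {F : Type} [Field F] [Fintype F]

/-- `R` is defined over a subfield of prime index -/
def Sub {n : ℕ} (R : Subgroup (GL (Fin n) F)) : Prop :=
  ∃ (F₀ : Subfield F) (r : ℕ) (P : GL (Fin n) F), r.Prime ∧ Fintype.card F = Nat.card F₀ ^ r ∧ R ≤ subfieldSubgroup F₀ P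

theorem classes4 {u : ℕ} (hP : Ppd (Fintype.card F) 3 u) {R : Subgroup (GL (Fin 4) F)}
    (hR : R ≤ specialLinear (Fin 4) F) (hne : ¬ specialLinear (Fin 4) F ≤ R) (hud : u ∣ Nat.card R)
    (hirr : ActsIrreducibly (matrixSet R)) :
    Uni R ∨ Sub R ∨
    ∃ H : Subgroup (GL (Fin 4) F), IsMaximalIn (specialLinear (Fin 4) F) H ∧ R ≤ H ∧ InLinearResidualClass H := by
  classical
  have hu := hP.prime
  have h7 : 7 ≤ u := hP.le_of (by decide)
  have hqd : ¬ u ∣ Fintype.card F - 1 := not_dvd_pred hP (by norm_num)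
  have hFd : ¬ u ∣ Nat.card F := by rw [Nat.card_eq_fintype_card]; exact hP.ndvd
  obtain ⟨x, hx, hxu⟩ := Cfsg.Agent.H951.Rl.exists_elt hu hud
  obtain ⟨H, hH, hRH⟩ := H905.exists_isMaximalIn_of_lt (lt_of_le_not_ge hR hne)
  have hdvd : ∀ {Y : Subgroup (GL (Fin 4) F)}, R ≤ Y → u ∣ Nat.card Y := fun {Y} h =>
    hud.trans (Subgroup.card_dvd_of_le h)
  rcases H915.sl_cases (by norm_num) hH with ⟨W, h0, h1, h⟩ | ⟨t, m, D, htm, hD, -, -, h⟩ |
    ⟨r, K, hr, hrn, hK, h⟩ | ⟨n₁, n₂, e, P, h1, h2, h3, -, h⟩ | ⟨F₀, r, P, hr, hF₀, h⟩ |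
    ⟨r, k', p', e, R₀, hR₀, hr, hro, -, hk', hnk, -, hmin, hZ, hc, h⟩ | ⟨k', R₀, hR₀, hnk, -, -, hZ, hc, h⟩ |
    ⟨m, t, e, P, hm, ht, hmt, h⟩ | ⟨g, hg, hne', h4, h⟩ | ⟨σ, g, hg, h⟩ | ⟨-, Q, hQ, h⟩ | h
  · exfalso
    rcases Cfsg.Agent.H951.Rl.of_irr' hirr (hRH.trans (h.le.trans inf_le_left)) with h2 | h2
    · exact h0 h2
    · exact h1 h2
  · exfalso
    have ht := hD.two_le
    have hm := hD.pos
    rcases decomp hD hu hFd (hdvd (hRH.trans (h.le.trans inf_le_left))) with h5 | h5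
    · have h6 : t ≤ 4 := by rw [← htm]; exact Nat.le_mul_of_pos_right t hm
      omega
    · rw [Nat.card_eq_fintype_card] at h5
      have h6 := le_of_div hP h5
      have : 2 * m ≤ 4 := by rw [← htm]; exact Nat.mul_le_mul_right m ht
      omega
  · exfalso
    have h6 : r ≤ 4 := Nat.le_of_dvd (by norm_num) hrn
    rcases Cfsg.Agent.H851.Rl.ext_dvd' hr hP (by norm_num) (by simp) hK (hRH.trans (h.le.trans inf_le_left)) hud with h5 | h5
    · omega
    · have h8 := Nat.dvd_gcd hrn h5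
      exact hr.one_lt.ne' (Nat.dvd_one.1 h8)
  · exfalso
    nlinarith
  · exact Or.inr (Or.inl ⟨F₀, r, P, hr, hF₀, hRH.trans (h.le.trans inf_le_left)⟩)
  · exfalso
    have hno : Odd 4 := by rw [hnk]; exact hro.pow
    exact absurd hno (by decide)
  · exfalso
    have hk2 : k' = 2 := Nat.pow_right_injective le_rfl (show 2 ^ k' = 2 ^ 2 from hnk.symm)
    subst hk2
    rcases symplecticType hR₀.symplecticType hR₀.absIrred (Or.inr ⟨rfl, hZ, hc⟩) (by norm_num) hu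
      (hdvd (hRH.trans (h.le.trans inf_le_left))) with h1 | h1 | h1
    · omega
    · rw [Nat.card_eq_fintype_card] at h1
      exact hqd h1
    · omega
  · exfalso
    have h8 : m ^ 2 ≤ m ^ t := Nat.pow_le_pow_right (by omega) ht
    nlinarith
  · exact absurd (even_of_bilinear hP (by norm_num) (by simp) hxu hg.bilinear hg.nondegenerate
      ((hRH.trans (h.le.trans inf_le_left)) hx)) (by decide)
  · exact Or.inl ⟨σ, g, hg, hRH.trans (h.le.trans inf_le_left)⟩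
  · exact absurd (even_of_quadratic hP (by norm_num) (by simp) hxu hQ ((hRH.trans (h.le.trans inf_le_left)) hx)) (by decide)
  · exact Or.inr (Or.inr ⟨H, hH, hRH, h⟩)

theorem sub_dead {n p f k u : ℕ} (hp : p.Prime) (hF : Fintype.card F = p ^ f) (hP : Ppd p (f * k) u) (hk : 2 ≤ k)
    (hn : n < 2 * k) {R : Subgroup (GL (Fin n) F)} (hud : u ∣ Nat.card R) : ¬ Sub R := by
  rintro ⟨F₀, r, P, hr, hF₀, hM⟩
  have hfk := hP.pos
  have hf : 1 ≤ f := Nat.pos_of_mul_pos_right hfk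
  have hP' : Ppd (Fintype.card F) k u := Cfsg.Agent.H851.Rl.ppd_of hp hf hF hP.prime hP.ord (by omega)
  have h1 : Nat.card F₀ ∣ p ^ f := by
    rw [← hF, hF₀]
    exact dvd_pow_self _ hr.ne_zero
  obtain ⟨g, -, hg⟩ := (Nat.dvd_prime_pow hp).1 h1
  have h2 : g * r = f := by
    have h3 : p ^ (g * r) = p ^ f := by rw [pow_mul, ← hg, ← hF₀, hF]
    exact Nat.pow_right_injective hp.two_le h3
  rcases subfield hP.prime (by rw [Nat.card_eq_fintype_card]; exact hP'.ndvd) (hud.trans (Subgroup.card_dvd_of_le hM))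
    with h3 | ⟨i, h3, h4, h5⟩
  · rw [Nat.card_eq_fintype_card] at h3
    exact not_dvd_pred hP' hk h3
  · rw [hg, ← pow_mul, hP.dvd_iff, ← h2, mul_assoc] at h5
    have hg0 : 0 < g := by
      rcases Nat.eq_zero_or_pos g with h | h
      · rw [h, zero_mul] at h2; omega
      · exact h
    have h7 := Nat.le_of_dvd h3 (Nat.dvd_of_mul_dvd_mul_left hg0 h5)
    rw [Fintype.card_fin] at h4
    have h8 : 2 * k ≤ r * k := Nat.mul_le_mul_right k hr.two_le
    omega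

/-! ### `SL_4(4)` -/

section four

variable {F₀ : Subfield F} {P : GL (Fin 4) F} {X Y : Subgroup (GL (Fin 4) F)}

theorem exists_sl (hF : Fintype.card F = 4) (g : GL (Fin 4) F) :
    ∃ (c : F) (h : GL (Fin 4) F), c ≠ 0 ∧ h ∈ specialLinear (Fin 4) F ∧
      (g : Matrix (Fin 4) (Fin 4) F) = c • (h : Matrix (Fin 4) (Fin 4) F) := by
  set d := (g : Matrix (Fin 4) (Fin 4) F).det with hd
  have hd0 : d ≠ 0 := (Matrix.GeneralLinearGroup.det g).ne_zero
  have h1 : (d⁻¹ • (g : Matrix (Fin 4) (Fin 4) F)).det = 1 := by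
    have h2 := FiniteField.pow_card d⁻¹
    rw [hF] at h2
    rw [det_smul, Fintype.card_fin, h2, inv_mul_cancel₀ hd0]
  refine ⟨d, Matrix.GeneralLinearGroup.mkOfDetNeZero _ (by rw [h1]; exact one_ne_zero), hd0,
    (Cfsg.Agent.H873.mem_specialLinear_iff _).2 h1, ?_⟩
  show _ = d • d⁻¹ • (g : Matrix (Fin 4) (Fin 4) F)
  rw [smul_smul, mul_inv_cancel₀ hd0, one_smul]

theorem mem_sub {x : GL (Fin 4) F} (hx : x ∈ subfieldSubgroup F₀ P) :
    ∃ (c : F) (A : GL (Fin 4) F₀), c ≠ 0 ∧ (x : Matrix (Fin 4) (Fin 4) F) * P =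
      c • ((P * Matrix.GeneralLinearGroup.map F₀.subtype A : GL (Fin 4) F) : Matrix (Fin 4) (Fin 4) F) := by
  obtain ⟨y, hy, rfl⟩ := hx
  have h1 : y ∈ ((_ ⊔ scalars (Fin 4) F : Subgroup (GL (Fin 4) F)) : Set (GL (Fin 4) F)) := hy
  rw [Subgroup.mul_normal] at h1
  obtain ⟨_, ⟨a, rfl⟩, z, hz, rfl⟩ := h1
  obtain ⟨c, hc⟩ := (mem_scalars_iff _).1 hz
  refine ⟨c, a, c.ne_zero, ?_⟩
  show ((P * (Matrix.GeneralLinearGroup.map F₀.subtype a * z) * P⁻¹ : GL (Fin 4) F) : Matrix (Fin 4) (Fin 4) F) * P = _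
  rw [← Units.val_mul, inv_mul_cancel_right, Units.val_mul, Units.val_mul, hc, mul_smul_comm, mul_one, mul_smul_comm]
  rfl

theorem form_eq (hF : Fintype.card F = 4) (h : Pd2 X Y) (hX : X ≤ subfieldSubgroup F₀ P)
    {f : (Fin 4 → F) → (Fin 4 → F) → F} (hf : IsBilinearForm f) (hY : Y ≤ similarityGroup f) (g : GL (Fin 4) F) :
    ∃ (m : F) (A : GL (Fin 4) F₀), m ≠ 0 ∧ ∀ a b, f ((g : Matrix (Fin 4) (Fin 4) F) *ᵥ a) ((g : Matrix (Fin 4) (Fin 4) F) *ᵥ b) =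
      m * f (((P * Matrix.GeneralLinearGroup.map F₀.subtype A : GL (Fin 4) F) : Matrix (Fin 4) (Fin 4) F) *ᵥ a)
        (((P * Matrix.GeneralLinearGroup.map F₀.subtype A : GL (Fin 4) F) : Matrix (Fin 4) (Fin 4) F) *ᵥ b) := by
  obtain ⟨c, s, hc, hs, e⟩ := exists_sl hF (g * P⁻¹)
  obtain ⟨x, hx, y, hy, e1⟩ := h.mul s⁻¹ (Subgroup.inv_mem _ hs)
  obtain ⟨d, A, hd, eA⟩ := mem_sub (hX (X.inv_mem hx))
  obtain ⟨l, hl⟩ := hY (Y.inv_mem hy)
  have e2 : s = y⁻¹ * x⁻¹ := by rw [← _root_.mul_inv_rev, ← e1, inv_inv]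
  have e3 : (g : Matrix (Fin 4) (Fin 4) F) = (c * d) • (((y⁻¹ : GL (Fin 4) F) : Matrix (Fin 4) (Fin 4) F) *
      ((P * Matrix.GeneralLinearGroup.map F₀.subtype A : GL (Fin 4) F) : Matrix (Fin 4) (Fin 4) F)) := by
    rw [← smul_smul, ← mul_smul_comm d, ← eA, ← mul_assoc, ← Units.val_mul, ← e2, ← smul_mul_assoc, ← e, ← Units.val_mul,
      inv_mul_cancel_right]
  refine ⟨(c * d) * (c * d) * l, A, mul_ne_zero (mul_ne_zero (mul_ne_zero hc hd) (mul_ne_zero hc hd)) l.ne_zero,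
    fun a b => ?_⟩
  rw [e3, smul_mulVec, smul_mulVec, hf.smul_left, hf.smul_right, ← mulVec_mulVec, ← mulVec_mulVec, hl]
  ring

theorem sym44 (hF : Fintype.card F = 4) (h : Pd2 X Y) (hX : X ≤ subfieldSubgroup F₀ P) (h0 : F₀ ≠ ⊤) : ¬ Sym Y := by
  classical
  rintro ⟨f, hf, hY⟩
  obtain ⟨ω, hω⟩ : ∃ ω, ω ∉ F₀ := by
    by_contra h1
    push Not at h1
    exact h0 (eq_top_iff.2 fun x _ => h1 x)
  have hω0 : ω ≠ 0 := fun h1 => hω (h1 ▸ F₀.zero_mem)
  obtain ⟨m, e, S, hS⟩ := Cfsg.Agent.H953.exists_std hf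
  obtain rfl : m = 2 := by
    have := Fintype.card_congr e
    simp at this
    omega
  set d : Fin 4 → F := Function.update 1 (e (Sum.inl 0)) ω with hd
  have hdet : (diagonal d).det ≠ 0 := by
    rw [det_diagonal]
    refine Finset.prod_ne_zero_iff.2 fun i _ => ?_
    by_cases hi : i = e (Sum.inl 0)
    · rw [hd, hi, Function.update_self]; exact hω0
    · rw [hd, Function.update_of_ne hi]; exact one_ne_zero
  obtain ⟨m₁, A₁, hm₁, e₁⟩ := form_eq hF h hX hf.bilinear hY S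
  obtain ⟨m₂, A₂, hm₂, e₂⟩ := form_eq hF h hX hf.bilinear hY (S * Matrix.GeneralLinearGroup.mkOfDetNeZero _ hdet)
  have key : ∀ a b : Fin 4 → F, (∀ i, a i ∈ F₀) → (∀ i, b i ∈ F₀) →
      m₁ * m₂⁻¹ * Cfsg.Agent.H953.stdForm 2 F ((diagonal d *ᵥ a) ∘ e) ((diagonal d *ᵥ b) ∘ e) ∈ F₀ := by
    intro a b ha hb
    set B : Matrix (Fin 4) (Fin 4) F :=
      ((Matrix.GeneralLinearGroup.map F₀.subtype (A₁⁻¹ * A₂) : GL (Fin 4) F) : Matrix (Fin 4) (Fin 4) F) with hB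
    have hBm : ∀ c : Fin 4 → F, (∀ i, c i ∈ F₀) → ∀ i, (B *ᵥ c) i ∈ F₀ := fun c hc i => by
      show ∑ j, B i j * c j ∈ F₀
      exact F₀.sum_mem fun j _ => F₀.mul_mem (((A₁⁻¹ * A₂ : GL (Fin 4) F₀) : Matrix (Fin 4) (Fin 4) F₀) i j).2 (hc j)
    have h1 := e₁ (B *ᵥ a) (B *ᵥ b)
    have h2 := e₂ a b
    rw [mulVec_mulVec a _ B, mulVec_mulVec b _ B, mulVec_mulVec a _ B, mulVec_mulVec b _ B, ← mulVec_mulVec a _ B,
      ← mulVec_mulVec b _ B, hS, hB, ← Units.val_mul, mul_assoc, ← map_mul, mul_inv_cancel_left] at h1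
    rw [Units.val_mul, ← mulVec_mulVec, ← mulVec_mulVec, hS] at h2
    have h3 : m₁ * m₂⁻¹ * Cfsg.Agent.H953.stdForm 2 F ((diagonal d *ᵥ a) ∘ e) ((diagonal d *ᵥ b) ∘ e) =
        Cfsg.Agent.H953.stdForm 2 F ((B *ᵥ a) ∘ e) ((B *ᵥ b) ∘ e) := by
      rw [hB, h1]
      erw [h2]
      field_simp
    rw [h3, Cfsg.Agent.H953.stdForm]
    exact F₀.sum_mem fun i _ => F₀.sub_mem (F₀.mul_mem (hBm a ha _) (hBm b hb _)) (F₀.mul_mem (hBm a ha _) (hBm b hb _))
  have hs : ∀ j i : Fin 4, (Pi.single j (1 : F) : Fin 4 → F) i ∈ F₀ := fun j i => by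
    rw [Pi.single_apply]
    split_ifs
    · exact F₀.one_mem
    · exact F₀.zero_mem
  have h1 := key _ _ (hs (e (Sum.inl 0))) (hs (e (Sum.inr 0)))
  have h2 := key _ _ (hs (e (Sum.inl 1))) (hs (e (Sum.inr 1)))
  simp [Cfsg.Agent.H953.stdForm, Pi.single_apply, hd] at h1 h2
  apply hω
  have h3 := F₀.mul_mem (F₀.inv_mem h2) h1
  rwa [inv_mul_cancel_left₀ (mul_ne_zero hm₁ (inv_ne_zero hm₂))] at h3

theorem card_sub44 (hF : Fintype.card F = 4) (h0 : Nat.card F₀ = 2) (h1 : X ≤ specialLinear (Fin 4) F)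
    (hX : X ≤ subfieldSubgroup F₀ P) : Nat.card X ≤ 20160 := by
  classical
  set N := subfieldSubgroup F₀ P with hN
  let d : N →* Fˣ := (Matrix.GeneralLinearGroup.det : GL (Fin 4) F →* Fˣ).comp N.subtype
  have hd : Function.Surjective d := by
    intro u
    let z : GL (Fin 4) F := Units.map (Matrix.scalar (Fin 4) : F →+* Matrix (Fin 4) (Fin 4) F).toMonoidHom u
    have hz : z ∈ scalars (Fin 4) F := ⟨u, rfl⟩
    refine ⟨⟨z, z, Subgroup.mem_sup_right hz, ?_⟩, Units.ext ?_⟩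
    · show P * z * P⁻¹ = z
      rw [← scalars_central hz, mul_inv_cancel_right]
    · show (Matrix.scalar (Fin 4) (u : F)).det = u
      have h2 := FiniteField.pow_card (u : F)
      rw [hF] at h2
      rw [Matrix.scalar_apply, det_diagonal, Finset.prod_const, Finset.card_univ, Fintype.card_fin, h2]
  have h2 := Subgroup.card_eq_card_quotient_mul_card_subgroup d.ker
  rw [Nat.card_congr (QuotientGroup.quotientKerEquivOfSurjective d hd).toEquiv, Nat.card_units,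
    Nat.card_eq_fintype_card (α := F), hF] at h2
  have h3 : Nat.card X ≤ Nat.card d.ker :=
    Nat.card_le_card_of_injective (fun x : X => (⟨⟨x, hX x.2⟩, h1 x.2⟩ : d.ker))
      fun x y hxy => Subtype.ext (congrArg (fun z : d.ker => (z.1.1 : GL (Fin 4) F)) hxy)
  have h4 := subfield_card_dvd F₀ P
  have _ : Fintype F₀ := Fintype.ofFinite _
  have h5 : Nat.card (GL (Fin 4) F₀) = 20160 := by
    rw [Nat.card_eq_fintype_card] at h0
    rw [Matrix.card_GL_field]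
    simp [Fin.prod_univ_four, h0]
  rw [h5, Nat.card_eq_fintype_card (α := F), hF, ← hN, h2] at h4
  have h6 := Nat.le_of_dvd (by norm_num) h4
  omega

theorem sub44 (hF : Fintype.card F = 4) (h : Pd2 X Y) (hY : Ext Y ∨ Sym Y) : ¬ Sub X := by
  rintro ⟨F₀, r, P, hr, h1, hX⟩
  have h2 : Nat.card F₀ = 2 := by
    have h3 : Nat.card F₀ ∣ 2 ^ 2 := by
      rw [show 2 ^ 2 = Nat.card F₀ ^ r by rw [← h1, hF]; rfl]
      exact dvd_pow_self _ hr.ne_zero
    obtain ⟨g, hg, h4⟩ := (Nat.dvd_prime_pow Nat.prime_two).1 h3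
    rw [hF, h4, ← pow_mul] at h1
    have h5 : 2 = g * r := Nat.pow_right_injective le_rfl (show 2 ^ 2 = 2 ^ (g * r) from h1)
    have h6 := hr.two_le
    interval_cases g
    · omega
    · exact h4
    · omega
  rcases hY with ⟨s, K, hs, hsn, hK, hY⟩ | hY
  · obtain rfl : s = 2 := (Nat.prime_dvd_prime_iff_eq hs Nat.prime_two).1 (hs.dvd_of_dvd_pow (show s ∣ 2 ^ 2 from hsn))
    have h3 := card_sub44 hF h2 h.left hX
    have h4 := Cfsg.Agent.H951.Rl.card_ext_sl_prod hK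
    have h5 := Subgroup.card_le_of_le (le_inf hY h.right)
    have h6 := Nat.le_of_dvd (Nat.mul_pos Nat.card_pos Nat.card_pos) (card_dvd h)
    have h7 := Cfsg.Agent.H294.Rl.card_sl_mul (F := F) (n := 4) (by norm_num)
    rw [hF] at h4 h7
    have h8 : Cfsg.Agent.H294.Rl.PG 4 4 = 2961100800 := by decide
    have h9 : 2 * ∏ i : Fin (Fintype.card (Fin 4) / 2), ((4 ^ 2) ^ (Fintype.card (Fin 4) / 2) - (4 ^ 2) ^ (i : ℕ)) = 122400 := by
      decide
    rw [h8] at h7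
    rw [h9] at h4
    have h10 : Nat.card X * Nat.card Y ≤ 20160 * 40800 := Nat.mul_le_mul h3 (by omega)
    omega
  · refine sym44 hF h hX ?_ hY
    rintro rfl
    rw [Nat.card_congr Subfield.topEquiv.toEquiv, Nat.card_eq_fintype_card, hF] at h2
    omega

end four

end Cfsg.Agent.SM.L.K
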