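import Cfsg.Agent.SM.L.KFour
import Cfsg.Agent.H851.Rl.ResTab
import Cfsg.Agent.H951.Rl.BigN
import Cfsg.Agent.S0144

/-!
# SM/L, boxes K1 and K2: the partner of a geometric factor is reducible (helper89)
-/

set_option autoImplicit false
set_option linter.unusedSectionVars false
set_option maxHeartbeats 200000

namespace Cfsg.Agent.SM.L.K

open Cfsg Cfsg.Geo Matrix Module Cfsg.Agent.H728.DghpNum
open Cfsg.Agent.H851.Rl (Uni Big GPPS ppd_of)
open Cfsg.Agent.H788.Rl (bound' pow_dvd_of_equiv le_seven le_five res_tab C)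
open Cfsg.Agent.H951.Rl (not_irr of_irr')
open scoped MatrixGroups

variable {n : ℕ} {F : Type} [Field F] [Fintype F] {X Y : Subgroup (GL (Fin n) F)} {p f k : ℕ}

/-- no primitive prime divisor of `q ^ k - 1` divides the order -/
def Kill (Y : Subgroup (GL (Fin n) F)) (k : ℕ) : Prop := ∀ u, Ppd (Fintype.card F) k u → ¬ u ∣ Nat.card Y

theorem kill_ext {s : ℕ} {K : Subalgebra F (Matrix (Fin n) (Fin n) F)} (hs : s.Prime) (hsn : s ∣ n)
    (h : s < n ∨ s ∣ Fintype.card F) (hK : IsFieldSubalgebra s K) (hY : Y ≤ subalgebraNormalizer K) (hn : 1 ≤ n)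
    (hk : n < 2 * k) (hc : Nat.Coprime n k) : Kill Y k := by
  intro u hP hu
  have _ : Nonempty (Fin n) := ⟨⟨0, hn⟩⟩
  rcases Cfsg.Agent.H851.Rl.ext_dvd' hs hP (by omega) (by rwa [Fintype.card_fin]) hK hY hu with rfl | h1
  · rcases h with h | h
    · obtain ⟨c, rfl⟩ := hsn
      have h2 := hP.lt
      have h3 : 2 ≤ c := by
        rcases c with _ | _ | c <;> omega
      nlinarith
    · exact hP.ndvd h
  · exact hs.one_lt.ne' (Nat.eq_one_of_dvd_coprimes hc hsn h1)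

theorem kill_even (hn : 4 ≤ n) (he : Even n) (hY : Ext Y ∨ Sym Y) (hk : n < 2 * k) (hc : Nat.Coprime n k) : Kill Y k := by
  rcases hY with ⟨s, K, hs, hsn, hK, hY⟩ | ⟨g, hg, hY⟩
  · refine kill_ext hs hsn (Or.inl (lt_of_le_of_ne (Nat.le_of_dvd (by omega) hsn) ?_)) hK hY (by omega) hk hc
    rintro rfl
    have := hs.even_iff.1 he
    omega
  · intro u hP hu
    have _ : Nonempty (Fin n) := ⟨⟨0, by omega⟩⟩
    have h1 := Cfsg.Agent.H851.Rl.sim_even hP (by omega) (by rwa [Fintype.card_fin]) hu hg.bilinear hg.nondegenerate hY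
    exact absurd (Nat.eq_one_of_dvd_coprimes hc he.two_dvd h1.two_dvd) (by norm_num)

theorem uni_dead (hp : p.Prime) (hF : Fintype.card F = p ^ f) (h : Pd2 X Y) (hK : Kill Y k) (ho : Odd k) (h3 : 3 ≤ k)
    (hk : n < 2 * k) (hkn : k ≤ n) : ¬ Uni X := by
  intro hU
  obtain ⟨σ, g, hg, hle⟩ := hU
  obtain ⟨-, f₀, rfl, -⟩ := Cfsg.Agent.H851.Rl.exists_half hp hF hg.ne_refl hg.involutive
  have hf₀ : f₀ ≠ 0 := by
    rintro rfl
    have := Fintype.one_lt_card (α := F)
    simp at hF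
    omega
  obtain ⟨r, hr⟩ := exists_ppd (q := p ^ f₀) (e := k) (Nat.one_lt_pow hf₀ hp.one_lt) h3
    (fun h6 => absurd (h6.2 ▸ ho) (by decide))
  have h2 : Ppd (Fintype.card F) k r := by
    have := hr.pow 2 two_ne_zero
    rwa [← pow_mul, mul_comm f₀, ← hF, (Nat.coprime_two_right.2 ho).gcd_eq_one, Nat.div_one] at this
  exact Cfsg.Agent.H851.Rl.uni_not hF hr.prime hr.ord ho (by rwa [Fintype.card_fin]) (by rw [Fintype.card_fin]; omega)
    ⟨σ, g, hg, hle⟩ (full1 h h2 (by omega) hkn (hK r h2))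

theorem out_dead (hp : p.Prime) (hF : Fintype.card F = p ^ f) (h : Pd2 X Y) (hK : Kill Y k) (ho : Odd k) (h3 : 3 ≤ k)
    (hk : n < 2 * k) (hkn : k ≤ n) (hc : Nat.Coprime n k) : ¬ Cfsg.Agent.H851.Rl.Out k X := by
  rintro (⟨s, K, hs, h1, h2, -⟩ | ⟨h1, -⟩ | ⟨h1, -⟩ | ⟨-, h1⟩)
  · rw [Fintype.card_fin] at h1
    exact hs.one_lt.ne' (Nat.eq_one_of_dvd_coprimes hc h1 h2)
  · exact Nat.not_even_iff_odd.2 ho h1
  · exact Nat.not_even_iff_odd.2 ho h1
  · exact uni_dead hp hF h hK ho h3 hk hkn h1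

/-- **large dimension** -/
theorem irr10 (G : GPPS) {r a : ℕ} (hF : Fintype.card F = p ^ f) (hB : Big p f k r a) (hn : 10 ≤ n) (h : Pd2 X Y)
    (hK : Kill Y k) (ho : Odd k) (hk : n < 2 * k) (hkn : k ≤ n) (hc : Nat.Coprime n k)
    (hne : ¬ specialLinear (Fin n) F ≤ X) : ¬ ActsIrreducibly (matrixSet X) := by
  intro hirr
  have hP : Ppd (Fintype.card F) k r := ppd_of hB.hp hB.hf hF hB.prime hB.ord hB.hk
  exact out_dead hB.hp hF h hK ho (by omega) hk hkn hc (Cfsg.Agent.H851.Rl.list10 G hF hB (by rwa [Fintype.card_fin])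
    (by rwa [Fintype.card_fin]) (full h hP (by omega) hkn (hK r hP) (hF ▸ hB.dvd)) hirr hne)

theorem num {q b d c : ℕ} (hq : 0 < q) (h : q ^ (b + d) ≤ c * q ^ b) : q ^ d ≤ c := by
  rw [pow_add, mul_comm] at h
  exact Nat.le_of_mul_le_mul_right h (Nat.pow_pos hq)

theorem card_even (hn : n = 4 ∨ n = 6) (hY : Ext Y ∨ Sym Y) : Nat.card Y ≤ Fintype.card F ^ (n * (n + 1) / 2 + 1) := by
  have hq : 2 ≤ Fintype.card F := Fintype.one_lt_card
  have _ : Nonempty (Fin n) := ⟨⟨0, by omega⟩⟩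
  rcases hY with ⟨s, K, hs, hsn, hK, hY⟩ | ⟨g, hg, hY⟩
  · have h1 := (Subgroup.card_le_of_le hY).trans (Cfsg.Agent.H951.Rl.card_ext_le hs hK)
    rw [Fintype.card_fin] at h1
    refine h1.trans ?_
    have h2 : s ≤ Fintype.card F ^ 2 := by
      have h3 : s ≤ 3 := by
        have h4 := Nat.le_of_dvd (by omega) hsn
        by_contra h5
        rcases hn with rfl | rfl <;> interval_cases s <;> simp_all (config := { decide := true })
      nlinarith
    have h3 : n ^ 2 / s ≤ n ^ 2 / 2 := Nat.div_le_div_left hs.two_le (by norm_num)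
    refine (Nat.mul_le_mul h2 (Nat.pow_le_pow_right (by omega) h3)).trans ?_
    rw [← pow_add]
    apply Nat.pow_le_pow_right (by omega)
    rcases hn with rfl | rfl <;> norm_num
  · have h1 := (Subgroup.card_le_of_le hY).trans (Cfsg.Agent.H951.Rl.card_sim_le hg)
    rwa [Fintype.card_fin] at h1

theorem res4 {X Y H : Subgroup (GL (Fin 4) F)} (hq2 : Fintype.card F ≠ 2) (h : Pd2 X Y) (hK : Kill Y 3)
    (hY : Nat.card Y ≤ Fintype.card F ^ 11) (hH : IsMaximalIn (specialLinear (Fin 4) F) H) (hXH : X ≤ H)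
    (hS : InLinearResidualClass H) : False := by
  have hq : 2 ≤ Fintype.card F := Fintype.one_lt_card
  have hHS : H ≤ specialLinear (Fin 4) F := hH.1.le
  have hd : ∀ u, Ppd (Fintype.card F) 3 u → u ^ 1 ∣ Nat.card H := fun u hu => by
    rw [pow_one]
    exact (full1 h hu (by norm_num) (by norm_num) (hK u hu)).trans (Subgroup.card_dvd_of_le hXH)
  obtain ⟨P, p', hP, hp', hc, ⟨⟨e⟩, h7⟩ | ⟨⟨K, _, _, hK4, ⟨e⟩⟩, -⟩⟩ := S5782.result H hH hS
  · have h1 : Nat.card H ≤ 20160 := bound' (by norm_num) hP hHS e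
      (Nat.le_of_dvd (by norm_num) Cfsg.Agent.H900.SU4.card_mulAut_alt_seven) (by norm_num)
    have h2 := size (by norm_num) h
    have h3 : Fintype.card F ^ (11 + 4) ≤ 40320 * Fintype.card F ^ 11 :=
      h2.trans (by have := Nat.mul_le_mul ((Subgroup.card_le_of_le hXH).trans h1) hY; omega)
    have h4 := num (by omega) h3
    have h5 : Fintype.card F < 15 := lt_of_pow_lt_pow_left₀ 4 (by norm_num) (h4.trans_lt (by norm_num))
    have h6 : Fintype.card F = 11 := by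
      rw [hc] at h5 hq2 ⊢
      interval_cases p' <;> simp_all (config := { decide := true })
    have h8 : Ppd (Fintype.card F) 3 19 := by
      rw [h6]
      have _ : Fact (Nat.Prime 3) := ⟨Nat.prime_three⟩
      exact ⟨by norm_num, orderOf_eq_prime (by decide) (by decide), by norm_num⟩
    have h9 := (pow_dvd_of_equiv hP hHS h8.prime (not_dvd_pred h8 (by norm_num)) (hd 19 h8) e).trans
      Cfsg.Agent.H900.SU4.card_mulAut_alt_seven
    norm_num at h9
  · obtain ⟨u, hu⟩ := exists_ppd (e := 3) hq le_rfl (by norm_num)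
    have h1 := (pow_dvd_of_equiv hP hHS hu.prime (not_dvd_pred hu (by norm_num)) (hd u hu) e).trans
      (Cfsg.Agent.H269.U5.card_aut_u42 hK4)
    rw [pow_one] at h1
    have h2 : u ≤ 5 := le_five (a := 7) hu.prime h1 (by norm_num)
    have h3 : 7 ≤ u := hu.le_of (by decide)
    omega

theorem mulAut_m12 : Nat.card (MulAut ↥Spor.M12) ∣ 190080 := by
  rw [Subgroup.card_eq_card_quotient_mul_card_subgroup (Inn ↥Spor.M12), show (190080 : ℕ) = 2 * 95040 by norm_num]
  refine mul_dvd_mul (dvd_of_eq S2061.result) ?_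
  rw [← Cfsg.Agent.H852.IMMathieu.card_M12]
  exact Subgroup.card_range_dvd _

theorem res6 {X Y H : Subgroup (GL (Fin 6) F)} (hp : p.Prime) (hF : Fintype.card F = p ^ f) {u : ℕ} (hu0 : Ppd p (f * 5) u)
    (h : Pd2 X Y) (hK : Kill Y 5)
    (hY : Nat.card Y ≤ Fintype.card F ^ 22) (hH : IsMaximalIn (specialLinear (Fin 6) F) H) (hXH : X ≤ H)
    (hS : InLinearResidualClass H) : False := by
  have hq : 2 ≤ Fintype.card F := Fintype.one_lt_card
  have hHS : H ≤ specialLinear (Fin 6) F := hH.1.le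
  have hu : Ppd (Fintype.card F) 5 u := ppd_of hp (Nat.pos_of_mul_pos_right hu0.pos) hF hu0.prime hu0.ord (by norm_num)
  have hd : u ∣ Nat.card H := (full1 h hu (by norm_num) (by norm_num) (hK u hu)).trans (Subgroup.card_dvd_of_le hXH)
  have h11 : 11 ≤ u := hu.le_of (by decide)
  have hu1 := not_dvd_pred hu (by norm_num)
  have key : ∀ {P : Subgroup (GL (Fin 6) F)} {S : Type} [Group S], IsResidualCore H P →
      ((P ⧸ (scalars (Fin 6) F).subgroupOf P) ≃* S) → ¬ Nat.card (MulAut S) ∣ 210 ^ 10 := by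
    intro P S _ hP e h1
    have h2 := pow_dvd_of_equiv (a := 1) hP hHS hu.prime hu1 (by rwa [pow_one]) e
    rw [pow_one] at h2
    have := le_seven hu.prime h2 h1
    omega
  obtain ⟨P, p', hP, hp', -, ⟨⟨e⟩, hc, -, h7⟩ | ⟨⟨e⟩, -⟩ | ⟨⟨K, _, _, hK4, ⟨e⟩⟩, -⟩ | ⟨⟨e⟩, hc⟩ |
    ⟨⟨K, _, _, hK9, ⟨e⟩⟩, -⟩ | ⟨⟨e⟩, -⟩⟩ := S5800.result H hH hS
  · have h1 : Nat.card H ≤ 7920 := bound' (by norm_num) hP hHS e Cfsg.Agent.H852.NCPsl11.card_aut.le (by norm_num)
    have h2 := size (by norm_num) h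
    have h3 : Fintype.card F ^ (22 + 13) ≤ 15840 * Fintype.card F ^ 22 :=
      h2.trans (by have := Nat.mul_le_mul ((Subgroup.card_le_of_le hXH).trans h1) hY; omega)
    have h4 := num (by omega) h3
    have h5 : Fintype.card F < 3 := lt_of_pow_lt_pow_left₀ 13 (by norm_num) (h4.trans_lt (by norm_num))
    omega
  · exact key hP e (Cfsg.Agent.H900.SU4.card_mulAut_alt_seven.trans (by norm_num))
  · exact key hP e ((Cfsg.Agent.H788.Rl.mulAut_l34 hK4).trans (by norm_num))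
  · have h8 : Ppd (Fintype.card F) 5 11 := by
      rw [hc]
      have _ : Fact (Nat.Prime 5) := ⟨Nat.prime_five⟩
      exact ⟨by norm_num, orderOf_eq_prime (by decide) (by decide), by norm_num⟩
    have h1 := (full (a := 2) h h8 (by norm_num) (by norm_num) (hK 11 h8) (by rw [hc]; norm_num)).trans
      (Subgroup.card_dvd_of_le hXH)
    have h9 := (pow_dvd_of_equiv hP hHS h8.prime (not_dvd_pred h8 (by norm_num)) h1 e).trans mulAut_m12
    norm_num at h9
  · exact key hP e (by rw [Cfsg.Agent.H851.Rl.mulAut_u43 hK9]; norm_num)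
  · exact Cfsg.Agent.H788.Rl.big (by norm_num) hu.prime hu.ord
      (Cfsg.Agent.H788.Rl.not_dvd_exp hp hF hu.prime (by norm_num) hu0.ord) hP hHS hd (c := 1) (Or.inl rfl)
      (by rw [pow_one]) (by norm_num) e

theorem not_stab (hn : 2 ≤ n) (hirr : ActsIrreducibly (matrixSet X)) {W : Submodule F (Fin n → F)}
    (hW : finrank F W = 1 ∨ finrank F W + 1 = n) : ¬ X ≤ subspaceStabilizer W := by
  intro h
  rcases of_irr' hirr h with rfl | rfl
  · rw [finrank_bot] at hW; omega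
  · rw [finrank_top, finrank_fin_fun] at hW; omega

/-- **even dimension** -/
theorem irr_even (G : GPPS) (hn : 4 ≤ n) (he : Even n) (h42 : ¬ (n = 4 ∧ Fintype.card F = 2)) (h : Pd2 X Y)
    (hY : Ext Y ∨ Sym Y) (hne : ¬ specialLinear (Fin n) F ≤ X) : ¬ ActsIrreducibly (matrixSet X) := by
  obtain ⟨p, _, ⟨f, hf⟩, hp, hF⟩ := FiniteField.card' F
  change Fintype.card F = p ^ f at hF
  obtain ⟨k, rfl⟩ : ∃ k, n = k + 1 := ⟨n - 1, by omega⟩
  have ho : Odd k := by
    rcases he with ⟨a, ha⟩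
    exact ⟨a - 1, by omega⟩
  have hc : Nat.Coprime (k + 1) k := by simp
  have hK : Kill Y k := kill_even hn he hY (by omega) hc
  by_cases h10 : 10 ≤ k + 1
  · by_cases hex : p = 2 ∧ f = 2 ∧ k = 9
    · obtain ⟨rfl, rfl, rfl⟩ := hex
      obtain ⟨r, hr⟩ := Cfsg.Agent.H951.Rl.exists_big (k := 7) hp hf (by norm_num) (by decide)
      exact irr10 G hF hr h10 h (kill_even hn he hY (by norm_num) (by norm_num)) (by decide)
        (by norm_num) (by norm_num) (by norm_num) hne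
    · obtain ⟨r, hr⟩ := Cfsg.Agent.H951.Rl.exists_big (k := k) hp hf (by omega) (by
        obtain ⟨a, ha⟩ := ho
        simp only [List.mem_cons, Prod.mk.injEq, List.not_mem_nil, or_false]
        omega)
      exact irr10 G hF hr h10 h hK ho (by omega) (by omega) hc hne
  intro hirr
  by_cases h44 : k = 3 ∧ Fintype.card F = 4
  · obtain ⟨rfl, h4⟩ := h44
    obtain ⟨u, hu⟩ := exists_ppd (q := Fintype.card F) (e := 3) Fintype.one_lt_card le_rfl (by norm_num)
    rcases classes4 hu h.left hne (full1 h hu (by norm_num) (by norm_num) (hK u hu)) hirr with h1 | h1 | ⟨H, hH, h1, hS⟩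
    · exact uni_dead hp hF h hK ho le_rfl (by norm_num) (by norm_num) h1
    · exact sub44 h4 h hY h1
    · exact res4 (by omega) h hK (card_even (Or.inl rfl) hY) hH h1 hS
  have hk : k = 3 ∨ k = 5 ∨ k = 7 := by
    obtain ⟨a, ha⟩ := ho
    omega
  obtain ⟨u, hu0⟩ := exists_ppd (q := p) (e := f * k) hp.two_le (by nlinarith) (by
    rintro ⟨rfl, h6⟩
    rcases hk with rfl | rfl | rfl
    · obtain rfl : f = 2 := by omega
      exact h44 ⟨rfl, hF⟩
    · omega
    · omega)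
  have hu : Ppd (Fintype.card F) k u := ppd_of hp hf hF hu0.prime hu0.ord (by omega)
  have hud := full1 h hu (by omega) (by omega) (hK u hu)
  by_cases h3 : k = 3
  · subst h3
    rcases classes4 hu h.left hne hud hirr with h1 | h1 | ⟨H, hH, h1, hS⟩
    · exact uni_dead hp hF h hK ho le_rfl (by norm_num) (by norm_num) h1
    · exact sub_dead hp hF hu0 (by norm_num) (by norm_num) hud h1
    · exact res4 (fun h2 => h42 ⟨rfl, h2⟩) h hK (card_even (Or.inl rfl) hY) hH h1 hS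
  rcases Cfsg.Agent.H592.Rl.classes9 (by omega) (by omega) le_rfl (by omega) hp hF hu.prime hu0.ord h.left hne hud with
    ⟨-, W, h1, h2⟩ | h1 | ⟨-, h1, -⟩ | ⟨h1, -⟩ | ⟨H, hH, h1, hS⟩
  · exact not_stab (by omega) hirr h1 h2
  · exact out_dead hp hF h hK ho (by omega) (by omega) (by omega) hc h1
  · have := hu.prime.even_iff.1 (h1 ▸ he)
    omega
  · omega
  · rcases hk with rfl | rfl | rfl
    · exact h3 rfl
    · exact res6 hp hF hu0 h hK (card_even (Or.inr rfl) hY) hH h1 hS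
    · refine (res_tab (by norm_num) (by norm_num) hH hS le_rfl (by norm_num) hu.prime hp hF hu0.ord
        (hud.trans (Subgroup.card_dvd_of_le h1)) fun _ => Or.inl ?_).2.2.2.2 rfl
      rintro rfl
      exact absurd hu.prime (by norm_num)

/-- **odd dimension at most nine** -/
theorem irr_odd (hp : p.Prime) (hF : Fintype.card F = p ^ f) {u s : ℕ} {X Y : Subgroup (GL (Fin (k + 1)) F)}
    (hu0 : Ppd p (f * k) u) (hun : u ≠ k + 1) (hud : u ∣ Nat.card X) (h : Pd2 X Y)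
    (hk : (k = 2 ∧ s = 3 ∧ 9 ≤ Fintype.card F) ∨ (k = 4 ∧ s = 5 ∧ 5 ≤ Fintype.card F) ∨ (k = 6 ∧ s = 7) ∨ (k = 8 ∧ s = 3))
    {K : Subalgebra F (Matrix (Fin (k + 1)) (Fin (k + 1)) F)} (hK : IsFieldSubalgebra s K) (hY : Y ≤ subalgebraNormalizer K)
    (hne : ¬ specialLinear (Fin (k + 1)) F ≤ X) : ¬ ActsIrreducibly (matrixSet X) := by
  intro hirr
  have hq : 2 ≤ Fintype.card F := Fintype.one_lt_card
  have he : Even k := by rcases hk with ⟨rfl, -⟩ | ⟨rfl, -⟩ | ⟨rfl, -⟩ | ⟨rfl, -⟩ <;> decide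
  have hX : Nat.card X ≤ 2 * Fintype.card F ^ ((k + 1) * k / 2 + 1) := by
    rcases Cfsg.Agent.H592.Rl.classes9 (by omega) (by omega) le_rfl (by omega) hp hF hu0.prime hu0.ord h.left hne hud with
      ⟨-, W, h1, h2⟩ | (⟨s', K', hs', h1, h2, -⟩ | ⟨-, h1, -⟩ | ⟨-, Q, hQ, h1⟩ | ⟨h1, -⟩) | ⟨-, h1, -⟩ | ⟨h1, -⟩ | ⟨H, hH, h1, hS⟩
    · exact absurd h2 (not_stab (by omega) hirr h1)
    · rw [Fintype.card_fin] at h1
      exact absurd (Nat.eq_one_of_dvd_coprimes (by simp : Nat.Coprime (k + 1) k) h1 h2) hs'.one_lt.ne'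
    · rw [Fintype.card_fin] at h1
      exact absurd h1 (Nat.not_even_iff_odd.2 he.add_one)
    · have h2 := (Subgroup.card_le_of_le h1).trans (Cfsg.Agent.H951.Rl.card_qsim_le hQ)
      rwa [Fintype.card_fin, Nat.add_sub_cancel] at h2
    · exact absurd he (Nat.not_even_iff_odd.2 h1)
    · exact absurd h1 hun
    · omega
    · have h2 := (Subgroup.card_le_of_le h1).trans (res_tab (by omega) (by omega) hH hS le_rfl (by omega) hu0.prime hp hF
        hu0.ord (hud.trans (Subgroup.card_dvd_of_le h1)) fun _ => Or.inl hun).1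
      refine h2.trans ?_
      rcases hk with ⟨rfl, -, h3⟩ | ⟨rfl, -, h3⟩ | ⟨rfl, -⟩ | ⟨rfl, -⟩
      · exact le_trans (by norm_num [C]) (Nat.mul_le_mul_left 2 (Nat.pow_le_pow_left h3 _))
      · exact le_trans (by norm_num [C]) (Nat.mul_le_mul_left 2 (Nat.pow_le_pow_left h3 _))
      · exact le_trans (by norm_num [C]) (Nat.mul_le_mul_left 2 (Nat.pow_le_pow_left hq _))
      · exact le_trans (by norm_num [C]) (Nat.mul_le_mul_left 2 (Nat.pow_le_pow_left hq _))
  have h1 := (Nat.mul_le_mul_right _ (Subgroup.card_le_of_le (le_inf hY h.right))).trans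
    (Cfsg.Agent.H951.Rl.card_ext_sl_le hK)
  rw [Fintype.card_fin] at h1
  have h2 : Fintype.card F ^ ((k + 1) ^ 2 - 1) * (Fintype.card F - 1) ≤
      4 * s * Fintype.card F ^ ((k + 1) * k / 2 + 1 + (k + 1) ^ 2 / s) := by
    refine (Nat.mul_le_mul_right _ (size (by omega) h)).trans ?_
    have h3 := Nat.mul_le_mul hX h1
    rw [pow_add _ _ ((k + 1) ^ 2 / s)]
    nlinarith
  have h3 : ∀ a b : ℕ, a * (Fintype.card F - 1) ≤ b → a ≤ b := fun a b hab =>
    (Nat.le_mul_of_pos_right a (by omega)).trans hab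
  rcases hk with ⟨rfl, rfl, h4⟩ | ⟨rfl, rfl, -⟩ | ⟨rfl, rfl⟩ | ⟨rfl, rfl⟩
  · have h5 : Fintype.card F ^ 8 * (Fintype.card F - 1) ≤ 12 * Fintype.card F ^ 7 := h2
    have h6 : Fintype.card F ^ 7 * (9 * 8) ≤ Fintype.card F ^ 8 * (Fintype.card F - 1) := by
      rw [pow_succ _ 7, mul_assoc]
      exact Nat.mul_le_mul_left _ (Nat.mul_le_mul h4 (by omega))
    have h7 : 0 < Fintype.card F ^ 7 := Nat.pow_pos (by omega)
    omega
  · have h5 := (Nat.pow_le_pow_left hq 8).trans (num (b := 16) (d := 8) (c := 20) (by omega) (h3 _ _ h2))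
    norm_num at h5
  · have h5 := (Nat.pow_le_pow_left hq 19).trans (num (b := 29) (d := 19) (c := 28) (by omega) (h3 _ _ h2))
    norm_num at h5
  · have h5 := (Nat.pow_le_pow_left hq 16).trans (num (b := 64) (d := 16) (c := 12) (by omega) (h3 _ _ h2))
    norm_num at h5

/-- `SL_3(3)` -/
theorem sl33 {X Y : Subgroup (GL (Fin 3) F)} (hF : Fintype.card F = 3) (h : Pd2 X Y)
    {K : Subalgebra F (Matrix (Fin 3) (Fin 3) F)} (hK : IsFieldSubalgebra 3 K) (hY : Y ≤ subalgebraNormalizer K)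
    (hne : ¬ specialLinear (Fin 3) F ≤ X) (hs : ¬ Group.IsSolvable X) : False := by
  have hSL : Nat.card (specialLinear (Fin 3) F) = 5616 := by
    have h7 := Cfsg.Agent.H294.Rl.card_sl_mul (F := F) (n := 3) (by norm_num)
    have h8 : Cfsg.Agent.H294.Rl.PG 3 3 = 11232 := by decide
    rw [hF, h8] at h7
    omega
  have hext : ∀ {Z : Subgroup (GL (Fin 3) F)} {K : Subalgebra F (Matrix (Fin 3) (Fin 3) F)}, IsFieldSubalgebra 3 K →
      Z ≤ subalgebraNormalizer K → Z ≤ specialLinear (Fin 3) F → Nat.card Z ≤ 40 := by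
    intro Z K hK h1 h2
    have h3 := (Nat.mul_le_mul_right _ (Subgroup.card_le_of_le (le_inf h1 h2))).trans (Cfsg.Agent.H951.Rl.card_ext_sl_le hK)
    rw [hF, Fintype.card_fin] at h3
    omega
  have h13 : 13 ∣ Nat.card X := by
    by_contra h1
    have h2 : Nat.card X ∣ 2 ^ 4 * 3 ^ 3 * 13 := by
      have := Subgroup.card_dvd_of_le h.left
      rwa [hSL] at this
    have h3 := ((by norm_num : Nat.Prime 13).coprime_iff_not_dvd.2 h1).symm.dvd_of_dvd_mul_right h2
    obtain ⟨a, b, ha, hb, e⟩ := (Nat.dvd_mul).1 h3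
    obtain ⟨i, -, rfl⟩ := (Nat.dvd_prime_pow Nat.prime_two).1 ha
    obtain ⟨j, -, rfl⟩ := (Nat.dvd_prime_pow Nat.prime_three).1 hb
    exact hs (S0144.result 2 3 i j Nat.prime_two Nat.prime_three e.symm)
  have _ : Fact (Nat.Prime 3) := ⟨Nat.prime_three⟩
  have hF' : Fintype.card F = 3 ^ 1 := hF
  rcases Cfsg.Agent.H592.Rl.classes9 (k := 3) (u := 13) le_rfl (by norm_num) (by norm_num) le_rfl Nat.prime_three hF'
    (by norm_num) (orderOf_eq_prime (by decide) (by decide)) h.left hne h13 with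
    ⟨h1, -⟩ | (⟨s', K', hs', -, h2, h3, h4⟩ | ⟨h1, -⟩ | ⟨h1, -⟩ | ⟨-, σ, g, hg, -⟩) | ⟨h1, -⟩ | ⟨h1, -⟩ | ⟨H, hH, -, hS⟩
  · omega
  · obtain rfl := (Nat.prime_dvd_prime_iff_eq hs' Nat.prime_three).1 h2
    have h5 := Nat.mul_le_mul (hext h3 h4 h.left) (hext hK hY h.right)
    have h6 := Nat.le_of_dvd (Nat.mul_pos Nat.card_pos Nat.card_pos) (card_dvd h)
    omega
  · exact absurd h1 (by decide)
  · exact absurd h1 (by decide)
  · obtain ⟨-, a, ha, -⟩ := Cfsg.Agent.H851.Rl.exists_half Nat.prime_three hF' hg.ne_refl hg.involutive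
    omega
  · omega
  · omega
  · obtain ⟨P, p', -, -, -, ⟨-, hc, -, h1⟩ | ⟨-, ⟨hc, h1⟩ | ⟨hc, -⟩⟩⟩ := S5776.result H hH hS
    · omega
    · omega
    · rw [hF] at hc
      have h2 : p' < 2 := by nlinarith
      interval_cases p' <;> omega

end Cfsg.Agent.SM.L.K
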