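import Cfsg.Agent.SM.L.KBase
import Cfsg.Agent.H873.Tv
import Cfsg.Agent.H251.GeoCardC

/-!
# SM/L, box K2: prime dimension different from the characteristic (helper89)

* `not_dvd_ext` : the normaliser of a field of degree `n` in `GL_n(q)`, `n` a prime, `n ≠ p`, has order prime to `p`
* `syl` : a group with the full `p`-part of `|SL_n(q)|` contains `SL_n(q)` or has a normal `p`-subgroup
-/

set_option autoImplicit false
set_option linter.unusedSectionVars false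
set_option maxHeartbeats 200000

namespace Cfsg.Agent.SM.L.K

open Cfsg Cfsg.Geo Matrix Module
open Cfsg.Agent.H294.Rl (PG card_sl_mul)
open Cfsg.Agent.H873 (HasTv tv hasTv_iff)
open scoped MatrixGroups

variable {n : ℕ} {F : Type} [Field F] [Fintype F] {X Y : Subgroup (GL (Fin n) F)} {p : ℕ}

/-- a `p`-group fixes a vector -/
theorem exists_fix [Fact p.Prime] [CharP F p] (hn : 1 ≤ n) {P : Subgroup (GL (Fin n) F)} (hP : IsPGroup p P) :
    ∃ v : Fin n → F, v ≠ 0 ∧ ∀ x ∈ P, (x : Matrix (Fin n) (Fin n) F) *ᵥ v = v := by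
  classical
  let _ : MulAction P (Fin n → F) :=
    { smul := fun x v => ((x : GL (Fin n) F) : Matrix (Fin n) (Fin n) F) *ᵥ v
      one_smul := fun v => one_mulVec v
      mul_smul := fun x y v => (mulVec_mulVec v _ _).symm }
  have h1 : p ∣ Nat.card (Fin n → F) := by
    obtain ⟨f, -, hf⟩ := FiniteField.card F p
    rw [Nat.card_fun, Nat.card_eq_fintype_card (α := F), hf, Nat.card_eq_fintype_card, Fintype.card_fin, ← pow_mul]
    exact dvd_pow_self _ (Nat.mul_ne_zero f.ne_zero (by omega))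
  obtain ⟨v, hv, h0⟩ := hP.exists_fixed_point_of_prime_dvd_card_of_fixed_point (Fin n → F) h1 (a := 0)
    (fun x => mulVec_zero _)
  exact ⟨v, fun h => h0 h.symm, fun x hx => hv ⟨x, hx⟩⟩

theorem not_dvd_ext [Fact p.Prime] [CharP F p] (hn : n.Prime) (hnp : p ≠ n)
    {K : Subalgebra F (Matrix (Fin n) (Fin n) F)} (hK : IsFieldSubalgebra n K) (hY : Y ≤ subalgebraNormalizer K) :
    ¬ p ∣ Nat.card Y := by
  intro h
  have hp : p.Prime := Fact.out
  have _ : Nonempty (Fin n) := ⟨⟨0, hn.pos⟩⟩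
  obtain ⟨y, hy, ho⟩ := Cfsg.Agent.H951.Rl.exists_elt hp h
  have hc := Cfsg.Agent.H251.GeoCard.commute_of_coprime hn hK hp hnp ⟨y, hY hy⟩ (by rw [← ho]; exact pow_orderOf_eq_one y)
  have hz : IsPGroup p (Subgroup.zpowers y) := IsPGroup.of_card (n := 1) (by rw [Nat.card_zpowers, ho, pow_one])
  obtain ⟨v, hv, hfix⟩ := exists_fix hn.pos hz
  have h1 := hfix y (Subgroup.mem_zpowers y)
  let L : K →ₗ[F] (Fin n → F) :=
    { toFun := fun k => (k : Matrix (Fin n) (Fin n) F) *ᵥ v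
      map_add' := fun a b => add_mulVec _ _ _
      map_smul' := fun c a => smul_mulVec _ _ _ }
  have hinj : Function.Injective L := by
    rw [injective_iff_map_eq_zero]
    intro k hk
    by_contra h0
    obtain ⟨k', hk', e⟩ := hK.2 k k.2 (fun h => h0 (Subtype.ext h))
    have h2 : (k : Matrix (Fin n) (Fin n) F) *ᵥ v = 0 := hk
    apply hv
    rw [← one_mulVec v, ← e, hK.1 k k.2 k' hk', ← mulVec_mulVec, h2, mulVec_zero]
  have hsurj : Function.Surjective L :=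
    (LinearMap.injective_iff_surjective_of_finrank_eq_finrank (by rw [hK.3, finrank_fin_fun])).1 hinj
  have h2 : y = 1 := by
    apply Cfsg.Agent.H873.gl_ext
    intro w
    obtain ⟨k, rfl⟩ := hsurj w
    show (y : Matrix (Fin n) (Fin n) F) *ᵥ ((k : Matrix (Fin n) (Fin n) F) *ᵥ v) = _
    rw [mulVec_mulVec, hc k k.2, ← mulVec_mulVec, h1, Units.val_one, one_mulVec]
    rfl
  rw [h2, orderOf_one] at ho
  exact hp.one_lt.ne ho

/-- trivial on `W` and on the quotient -/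
def Rad (W : Submodule F (Fin n → F)) : Subgroup (GL (Fin n) F) where
  carrier := {x | (∀ w ∈ W, (x : Matrix (Fin n) (Fin n) F) *ᵥ w = w) ∧ ∀ w, (x : Matrix (Fin n) (Fin n) F) *ᵥ w - w ∈ W}
  one_mem' := ⟨fun w _ => one_mulVec w, fun w => by rw [Units.val_one, one_mulVec, sub_self]; exact W.zero_mem⟩
  mul_mem' := fun {x y} hx hy => ⟨fun w hw => by rw [Units.val_mul, ← mulVec_mulVec, hy.1 w hw, hx.1 w hw], fun w => by
    rw [Units.val_mul, ← mulVec_mulVec, ← sub_add_sub_cancel _ ((y : Matrix (Fin n) (Fin n) F) *ᵥ w)]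
    exact W.add_mem (hx.2 _) (hy.2 _)⟩
  inv_mem' := fun {x} hx => ⟨fun w hw => by
    conv_lhs => rw [← hx.1 w hw]
    rw [mulVec_mulVec, ← Units.val_mul, inv_mul_cancel, Units.val_one, one_mulVec], fun w => by
    have h1 := W.neg_mem (hx.2 (((x⁻¹ : GL (Fin n) F) : Matrix (Fin n) (Fin n) F) *ᵥ w))
    rwa [mulVec_mulVec, ← Units.val_mul, mul_inv_cancel, Units.val_one, one_mulVec, neg_sub] at h1⟩

theorem rad_pgroup [CharP F p] (W : Submodule F (Fin n → F)) : IsPGroup p (Rad W) := by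
  intro x
  refine ⟨1, Subtype.ext ?_⟩
  have h1 : ∀ (i : ℕ) w, (((x : GL (Fin n) F) ^ i : GL (Fin n) F) : Matrix (Fin n) (Fin n) F) *ᵥ w =
      w + (i : F) • (((x : GL (Fin n) F) : Matrix (Fin n) (Fin n) F) *ᵥ w - w) := by
    intro i w
    induction i with
    | zero => simp
    | succ i ih =>
      rw [pow_succ', Units.val_mul, ← mulVec_mulVec, ih, mulVec_add, mulVec_smul, x.2.1 _ (x.2.2 w), Nat.cast_succ, add_smul,
        one_smul]
      abel
  apply Cfsg.Agent.H873.gl_ext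
  intro w
  rw [pow_one, Subgroup.coe_pow, h1, CharP.cast_eq_zero, zero_smul, add_zero, Subgroup.coe_one, Units.val_one, one_mulVec]

theorem rad_conj {W : Submodule F (Fin n → F)} {x y : GL (Fin n) F}
    (h1 : ∀ w ∈ W, (x : Matrix (Fin n) (Fin n) F) *ᵥ w ∈ W)
    (h2 : ∀ w ∈ W, ((x⁻¹ : GL (Fin n) F) : Matrix (Fin n) (Fin n) F) *ᵥ w ∈ W) (hy : y ∈ Rad W) : x * y * x⁻¹ ∈ Rad W := by
  have h0 : ∀ w, (x : Matrix (Fin n) (Fin n) F) *ᵥ (((x⁻¹ : GL (Fin n) F) : Matrix (Fin n) (Fin n) F) *ᵥ w) = w := fun w => by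
    rw [mulVec_mulVec, ← Units.val_mul, mul_inv_cancel, Units.val_one, one_mulVec]
  refine ⟨fun w hw => ?_, fun w => ?_⟩
  · rw [Units.val_mul, Units.val_mul, ← mulVec_mulVec, ← mulVec_mulVec, hy.1 _ (h2 w hw), h0]
  · have h3 := h1 _ (hy.2 (((x⁻¹ : GL (Fin n) F) : Matrix (Fin n) (Fin n) F) *ᵥ w))
    rwa [mulVec_sub, h0, mulVec_mulVec, mulVec_mulVec, ← Units.val_mul, ← Units.val_mul] at h3

theorem tv_mem_rad {W : Submodule F (Fin n → F)} {v φ : Fin n → F} (hv : v ∈ W) (hφ : ∀ w ∈ W, φ ⬝ᵥ w = 0) :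
    tv v φ (hφ v hv) ∈ Rad W :=
  ⟨fun w hw => by rw [Cfsg.Agent.H873.tv_mulVec, hφ w hw, zero_smul, add_zero], fun w => by
    rw [Cfsg.Agent.H873.tv_mulVec, add_sub_cancel_left]
    exact W.smul_mem _ hv⟩

theorem exists_dot' {W : Submodule F (Fin n → F)} {v : Fin n → F} (hv : v ∉ W) :
    ∃ ψ : Fin n → F, (∀ w ∈ W, ψ ⬝ᵥ w = 0) ∧ ψ ⬝ᵥ v = 1 := by
  obtain ⟨f, h1, h2⟩ := Submodule.exists_le_ker_of_notMem hv
  have h3 : ∀ w, (fun i => f (Pi.single i 1)) ⬝ᵥ w = f w := by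
    intro w
    conv_rhs => rw [LinearMap.pi_apply_eq_sum_univ f w]
    rw [dotProduct]
    refine Finset.sum_congr rfl fun i _ => ?_
    have h4 : (Pi.single i (1 : F) : Fin n → F) = fun j => if i = j then 1 else 0 := by
      funext j
      simp [Pi.single_apply, eq_comm]
    rw [h4, smul_eq_mul, mul_comm]
  refine ⟨(f v)⁻¹ • fun i => f (Pi.single i 1), fun w hw => ?_, ?_⟩
  · rw [smul_dotProduct, h3, LinearMap.mem_ker.1 (h2 hw), smul_zero]
  · rw [smul_dotProduct, h3, smul_eq_mul, inv_mul_cancel₀ h1]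

/-- all the transvections with centre `v` lie in `X` -/
def Cen (X : Subgroup (GL (Fin n) F)) (v : Fin n → F) : Prop := ∀ φ, φ ⬝ᵥ v = 0 → HasTv X v φ

theorem Cen.act {v : Fin n → F} (h : Cen X v) {x : GL (Fin n) F} (hx : x ∈ X) :
    Cen X ((x : Matrix (Fin n) (Fin n) F) *ᵥ v) := by
  intro φ hφ
  rw [dotProduct_mulVec] at hφ
  have h1 := (h _ hφ).conj hx
  rwa [vecMul_vecMul, ← Units.val_mul, mul_inv_cancel, Units.val_one, vecMul_one] at h1

theorem Cen.smul {v : Fin n → F} (h : Cen X v) (c : F) : Cen X (c • v) := by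
  intro φ hφ
  rw [Cfsg.Agent.H873.hasTv_smul_comm]
  apply h
  rwa [smul_dotProduct, ← dotProduct_smul]

theorem Cen.add {v w : Fin n → F} (h : Cen X v) (h' : Cen X w) : Cen X (v + w) := by
  by_cases hv : v ∈ F ∙ w
  · obtain ⟨c, rfl⟩ := Submodule.mem_span_singleton.1 hv
    have := h'.smul (c + 1)
    rwa [add_smul, one_smul] at this
  · obtain ⟨ψ, h1, h2⟩ := exists_dot' hv
    obtain ⟨h3, h4⟩ := (hasTv_iff _ _ _).1 (h' ψ (h1 w (Submodule.mem_span_singleton_self w)))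
    have := h.act h4
    rwa [Cfsg.Agent.H873.tv_mulVec, h2, one_smul] at this

/-- the centres -/
def cenSub (X : Subgroup (GL (Fin n) F)) : Submodule F (Fin n → F) where
  carrier := {v | Cen X v}
  zero_mem' := fun φ _ => Cfsg.Agent.H873.hasTv_zero_left X φ
  add_mem' := fun h h' => Cen.add h h'
  smul_mem' := fun c _ h => Cen.smul h c

/-- **the full `p`-part** -/
theorem syl [Fact p.Prime] [CharP F p] (hn : 2 ≤ n) (hX : X ≤ specialLinear (Fin n) F)
    (hfull : ∀ a, p ^ a ∣ Nat.card (specialLinear (Fin n) F) → p ^ a ∣ Nat.card X)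
    (hne : ¬ specialLinear (Fin n) F ≤ X)
    (hO : ∀ N : Subgroup (GL (Fin n) F), N ≤ X → (∀ x ∈ X, ∀ y ∈ N, x * y * x⁻¹ ∈ N) → IsPGroup p N → N = ⊥) : False := by
  classical
  have hp : p.Prime := Fact.out
  obtain ⟨P⟩ : Nonempty (Sylow p X) := inferInstance
  set P1 : Subgroup (GL (Fin n) F) := (P : Subgroup X).map X.subtype with hP1
  have hP1p : IsPGroup p P1 := P.isPGroup'.map _
  have hP1X : P1 ≤ X := Subgroup.map_subtype_le _
  obtain ⟨v, hv, hfix⟩ := exists_fix (by omega) hP1p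
  have hstab : ∀ x ∈ P1, ∀ w ∈ F ∙ v, (x : Matrix (Fin n) (Fin n) F) *ᵥ w ∈ F ∙ v := by
    intro x hx w hw
    obtain ⟨c, rfl⟩ := Submodule.mem_span_singleton.1 hw
    rw [mulVec_smul, hfix x hx]
    exact hw
  have hnorm : P1 ≤ Subgroup.normalizer (Rad (F ∙ v) : Set (GL (Fin n) F)) := by
    intro x hx
    rw [Subgroup.mem_normalizer_iff]
    intro y
    refine ⟨fun hy => rad_conj (hstab x hx) (hstab _ (P1.inv_mem hx)) hy, fun hy => ?_⟩
    have h1 := rad_conj (x := x⁻¹) (hstab _ (P1.inv_mem hx)) (by rw [inv_inv]; exact hstab x hx) hy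
    rwa [show x⁻¹ * (x * y * x⁻¹) * x⁻¹⁻¹ = y by group] at h1
  have hQ : IsPGroup p ((P1 ⊔ Rad (F ∙ v)) ⊓ specialLinear (Fin n) F : Subgroup (GL (Fin n) F)) :=
    (hP1p.to_sup_of_normal_right' (rad_pgroup _) hnorm).to_le inf_le_left
  have hle : P1 ≤ (P1 ⊔ Rad (F ∙ v)) ⊓ specialLinear (Fin n) F := le_inf le_sup_left (hP1X.trans hX)
  have heq : P1 = (P1 ⊔ Rad (F ∙ v)) ⊓ specialLinear (Fin n) F := by
    apply Subgroup.eq_of_le_of_card_ge hle
    obtain ⟨b, hb⟩ := hQ.exists_card_eq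
    have h1 : p ^ b ∣ Nat.card X := hfull b (hb ▸ Subgroup.card_dvd_of_le inf_le_right)
    rw [hb, hP1, Subgroup.card_map_of_injective X.subtype_injective, P.card_eq_multiplicity]
    exact Nat.pow_le_pow_right hp.pos ((hp.pow_dvd_iff_le_factorization Nat.card_pos.ne').1 h1)
  have hcen : v ∈ cenSub X := by
    intro φ hφ
    have h1 : ∀ w ∈ F ∙ v, φ ⬝ᵥ w = 0 := by
      intro w hw
      obtain ⟨c, rfl⟩ := Submodule.mem_span_singleton.1 hw
      rw [dotProduct_smul, hφ, smul_zero]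
    refine (hasTv_iff _ _ _).2 ⟨hφ, hP1X ?_⟩
    rw [heq]
    exact ⟨Subgroup.mem_sup_right (tv_mem_rad (Submodule.mem_span_singleton_self v) h1),
      Cfsg.Agent.H873.tv_mem_specialLinear _ _ _⟩
  by_cases htop : cenSub X = ⊤
  · have _ : Nontrivial (Fin n) := Fin.nontrivial_iff_two_le.2 hn
    refine hne (Cfsg.Agent.H873.specialLinear_le_of_hasTv fun i j hij c => ?_)
    have h1 : (c • Pi.single i 1 : Fin n → F) ∈ cenSub X := htop ▸ Submodule.mem_top
    apply h1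
    simp [hij.symm]
  · obtain ⟨w, hw⟩ : ∃ w, w ∉ cenSub X := by
      by_contra h
      push Not at h
      exact htop (Submodule.eq_top_iff'.2 h)
    obtain ⟨ψ, h1, h2⟩ := exists_dot' hw
    have hact : ∀ x ∈ X, ∀ z ∈ cenSub X, (x : Matrix (Fin n) (Fin n) F) *ᵥ z ∈ cenSub X :=
      fun x hx z hz => Cen.act hz hx
    have h3 := hO (X ⊓ Rad (cenSub X)) inf_le_left (fun x hx y hy =>
      ⟨X.mul_mem (X.mul_mem hx hy.1) (X.inv_mem hx), rad_conj (hact x hx) (hact _ (X.inv_mem hx)) hy.2⟩)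
      ((rad_pgroup _).to_le inf_le_right)
    obtain ⟨h4, h5⟩ := (hasTv_iff _ _ _).1 (hcen ψ (h1 v hcen))
    have h6 : tv v ψ h4 ∈ X ⊓ Rad (cenSub X) := ⟨h5, tv_mem_rad hcen h1⟩
    rw [h3, Subgroup.mem_bot] at h6
    have h7 := Cfsg.Agent.H873.tv_mulVec v ψ h4 w
    rw [h6, h2, one_smul, Units.val_one, one_mulVec] at h7
    exact hv (by simpa using h7)

/-- **prime dimension** -/
theorem prime_dim [Fact p.Prime] [CharP F p] (hn : n.Prime) (hnp : p ≠ n) (h : Pd2 X Y)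
    {K : Subalgebra F (Matrix (Fin n) (Fin n) F)} (hK : IsFieldSubalgebra n K) (hY : Y ≤ subalgebraNormalizer K)
    (hne : ¬ specialLinear (Fin n) F ≤ X)
    (hO : ∀ N : Subgroup (GL (Fin n) F), N ≤ X → (∀ x ∈ X, ∀ y ∈ N, x * y * x⁻¹ ∈ N) → IsPGroup p N → N = ⊥) : False :=
  syl hn.two_le h.left (fun a ha => (Nat.Coprime.pow_left a ((Fact.out : p.Prime).coprime_iff_not_dvd.2
    (not_dvd_ext hn hnp hK hY))).dvd_of_dvd_mul_right (ha.trans (card_dvd h))) hne hO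

end Cfsg.Agent.SM.L.K
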