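import Cfsg.Agent.SM.L.KIrr
import Cfsg.Agent.SM.L.KSyl

/-!
# SM/L: the boxes K1 and K2 from the theorem on primitive prime divisors (helper89)
-/

set_option autoImplicit false
set_option maxHeartbeats 200000

namespace Cfsg.Agent.SM.L.K

open Cfsg Cfsg.Geo Matrix Module Cfsg.Agent.H728.DghpNum
open Cfsg.Agent.H851.Rl (GPPS ppd_of)
open scoped MatrixGroups

theorem boxK1_of (G : GPPS) : BoxK1 := by
  intro F _ _ n X Y hn he h42 h hY hne
  have hirr := irr_even G hn he h42 h hY hne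
  obtain ⟨k, rfl⟩ : ∃ k, n = k + 1 := ⟨n - 1, by omega⟩
  obtain ⟨u, hu⟩ := exists_ppd (q := Fintype.card F) (e := k) Fintype.one_lt_card (by omega) (by
    rintro ⟨-, rfl⟩
    exact absurd he (by decide))
  exact red hu (by omega) rfl (full1 h hu (by omega) (by omega) (kill_even hn he hY (by omega) (by simp) u hu)) hirr

theorem boxK2_of (G : GPPS) : BoxK2 := by
  intro F _ _ n X Y hn ho h hY hne hs hO
  obtain ⟨s, K, hsp, hsn, hK, hY⟩ := hY
  obtain ⟨p, _, ⟨f, hf⟩, hp, hF⟩ := FiniteField.card' F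
  change Fintype.card F = p ^ f at hF
  have _ : Fact p.Prime := ⟨hp⟩
  rw [ringChar.eq F p] at hO
  have hsle : s ≤ n := Nat.le_of_dvd (by omega) hsn
  by_cases h1 : s = n ∧ p ≠ n
  · obtain ⟨rfl, h1⟩ := h1
    exact (prime_dim hsp h1 h hK hY hne hO).elim
  have h2 : s < n ∨ (s = n ∧ p = n) := by omega
  have h3 : s < n ∨ s ∣ Fintype.card F := h2.imp_right fun h3 => by
    rw [hF, h3.1, h3.2]
    exact dvd_pow_self _ hf.ne'
  have h9 : s < n → 9 ≤ n ∧ ¬ n.Prime ∧ (n = 9 → s = 3) := by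
    intro h4
    have h5 : ¬ n.Prime := fun h5 => h4.ne ((Nat.prime_dvd_prime_iff_eq hsp h5).1 hsn)
    refine ⟨?_, h5, ?_⟩
    · by_contra h6
      obtain ⟨a, ha⟩ := ho
      obtain rfl | rfl | rfl : n = 3 ∨ n = 5 ∨ n = 7 := by omega
      all_goals exact h5 (by norm_num)
    · rintro rfl
      exact (Nat.prime_dvd_prime_iff_eq hsp Nat.prime_three).1 (hsp.dvd_of_dvd_pow (show s ∣ 3 ^ 2 from hsn))
  by_cases h33 : n = 3 ∧ f = 1
  · obtain ⟨rfl, rfl⟩ := h33
    obtain ⟨rfl, rfl⟩ : s = 3 ∧ p = 3 := by omega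
    exact (sl33 hF h hK hY hne hs).elim
  obtain ⟨k, rfl⟩ : ∃ k, n = k + 1 := ⟨n - 1, by omega⟩
  obtain ⟨a, ha⟩ := id ho
  obtain ⟨u, hu0⟩ := exists_ppd (q := p) (e := f * k) hp.two_le (by
    rcases Nat.lt_or_ge k 3 with h4 | h4
    · obtain rfl : k = 2 := by omega
      omega
    · nlinarith) (by
    rintro ⟨rfl, h6⟩
    have h7 : k ≤ f * k := Nat.le_mul_of_pos_left k hf
    omega)
  have hu : Ppd (Fintype.card F) k u := ppd_of hp hf hF hu0.prime hu0.ord (by omega)
  have hud := full1 h hu (by omega) (by omega) (kill_ext hsp hsn h3 hK hY (by omega) (by omega) (by simp) u hu)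
  refine red hu (by omega) rfl hud ?_
  by_cases h10 : 10 ≤ k + 1
  · obtain ⟨j, rfl⟩ : ∃ j, k = j + 1 := ⟨k - 1, by omega⟩
    have hj : Odd j := ⟨a - 1, by omega⟩
    have hc : Nat.Coprime (j + 1 + 1) j := by
      rw [add_assoc, Nat.coprime_self_add_left]
      exact Nat.coprime_two_left.2 hj
    obtain ⟨r, hr⟩ := Cfsg.Agent.H951.Rl.exists_big (k := j) hp hf (by omega) (by
      have h11 : ¬ (p = 2 ∧ j = 9) := by
        rintro ⟨rfl, rfl⟩
        rcases h2 with h2 | h2
        · exact (h9 h2).2.1 (by norm_num)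
        · omega
      simp only [List.mem_cons, Prod.mk.injEq, List.not_mem_nil, or_false]
      omega)
    exact irr10 G hF hr h10 h (kill_ext hsp hsn h3 hK hY (by omega) (by omega) hc) hj (by omega) (by omega) hc hne
  · refine irr_odd hp hF hu0 ?_ hud h ?_ hK hY hne
    · rintro rfl
      rcases h2 with h2 | h2
      · exact (h9 h2).2.1 hu.prime
      · exact hu0.ndvd (dvd_of_eq h2.2.symm)
    · have h4 : p ≤ Fintype.card F := hF ▸ Nat.le_self_pow hf.ne' p
      rcases h2 with h2 | ⟨h2, h5⟩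
      · have := h9 h2
        omega
      · obtain rfl | rfl | rfl | rfl : k = 2 ∨ k = 4 ∨ k = 6 ∨ k = 8 := by omega
        · refine Or.inl ⟨rfl, h2, ?_⟩
          rw [hF, h5]
          exact Nat.pow_le_pow_right (n := 3) (i := 2) (by norm_num) (by omega)
        · omega
        · omega
        · rw [h5] at hp
          exact absurd hp (by norm_num)

end Cfsg.Agent.SM.L.K
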