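import Cfsg.Agent.SM.L.Defs
import Cfsg.Agent.SM.Fac

/-!
# SM/L: from the abstract factorisation to the matrix form (helper18)

* `pj e : SL_n(F) →* Γ`, with range `S` and kernel the scalars;  `mem_pg`
* `exists_tw` : conjugation by an element normalising `S` is induced by a `Tw` automorphism
* `mf_of_fac` : `Fac M S H T B → MF (pg e T) (pg e B)`
-/

set_option autoImplicit false
set_option linter.unusedSectionVars false

namespace Cfsg.Agent.SM.L

open Cfsg Cfsg.Geo Matrix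
open Cfsg.Agent.H851.Rl (pg)
open Cfsg.Agent.H199.PslAut
open Cfsg.Agent.H304.PslT (pre toGL_injective range_toGL)
open Cfsg.Agent.ClassicalGeometry.AutPSL.Auto (cj fld itr coe_cj coe_itr)
open scoped MatrixGroups

section tw

variable {n : ℕ} {F : Type} [Field F]

theorem mem_sl {x : GL (Fin n) F} : x ∈ specialLinear (Fin n) F ↔ (x : Matrix (Fin n) (Fin n) F).det = 1 := by
  constructor
  · intro h
    exact congrArg Units.val (MonoidHom.mem_ker.mp h)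
  · intro h
    show Matrix.GeneralLinearGroup.det x = 1
    exact Units.ext h

theorem scal_comm {z : GL (Fin n) F} (hz : z ∈ scalars (Fin n) F) (x : GL (Fin n) F) : z * x = x * z := by
  obtain ⟨c, hc⟩ := (mem_scalars_iff z).1 hz
  apply Units.ext
  rw [Units.val_mul, Units.val_mul, hc, smul_mul_assoc, one_mul, mul_smul_comm, mul_one]

/-- the determinant one matrices as elements of Mathlib's `SL` -/
def toSL : specialLinear (Fin n) F →* Matrix.SpecialLinearGroup (Fin n) F where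
  toFun x := ⟨((x : GL (Fin n) F) : Matrix (Fin n) (Fin n) F), mem_sl.1 x.2⟩
  map_one' := rfl
  map_mul' _ _ := rfl

theorem toGL_toSL (x : specialLinear (Fin n) F) : Matrix.SpecialLinearGroup.toGL (toSL x) = x := Units.ext rfl

theorem toSL_surjective : Function.Surjective (toSL (n := n) (F := F)) := fun s =>
  ⟨⟨Matrix.SpecialLinearGroup.toGL s, mem_sl.2 s.2⟩, rfl⟩

end tw

section pj

variable {Γ : Type} [Group Γ] {S : Subgroup Γ} {n : ℕ} {F : Type} [Field F]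

/-- the projection `SL_n(F) → S ≤ Γ` -/
noncomputable def pj (e : S ≃* Matrix.ProjectiveSpecialLinearGroup (Fin n) F) : specialLinear (Fin n) F →* Γ :=
  S.subtype.comp (e.symm.toMonoidHom.comp ((Cfsg.Agent.H304.PslT.pr n F).comp toSL))

variable (e : S ≃* Matrix.ProjectiveSpecialLinearGroup (Fin n) F)

theorem pj_apply (x : specialLinear (Fin n) F) : pj e x = (e.symm (Cfsg.Agent.H304.PslT.pr n F (toSL x)) : S) := rfl

theorem pj_mem (x : specialLinear (Fin n) F) : pj e x ∈ S := (e.symm _).2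

theorem pj_surj {g : Γ} (hg : g ∈ S) : ∃ x, pj e x = g := by
  obtain ⟨s, hs⟩ := QuotientGroup.mk'_surjective (Subgroup.center (Matrix.SpecialLinearGroup (Fin n) F)) (e ⟨g, hg⟩)
  obtain ⟨x, rfl⟩ := toSL_surjective s
  refine ⟨x, ?_⟩
  rw [pj_apply]
  change ((e.symm (QuotientGroup.mk' _ (toSL x)) : S) : Γ) = g
  rw [hs, e.symm_apply_apply]

theorem pj_eq_one {x : specialLinear (Fin n) F} : pj e x = 1 ↔ (x : GL (Fin n) F) ∈ scalars (Fin n) F := by
  rw [pj_apply, OneMemClass.coe_eq_one, MulEquiv.map_eq_one_iff]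
  change QuotientGroup.mk' _ (toSL x) = 1 ↔ _
  rw [← MonoidHom.mem_ker, QuotientGroup.ker_mk', Matrix.SpecialLinearGroup.mem_center_iff, mem_scalars_iff]
  constructor
  · rintro ⟨r, h1, h2⟩
    rcases Nat.eq_zero_or_pos n with rfl | hn
    · exact ⟨1, Subsingleton.elim _ _⟩
    have h3 : r ≠ 0 := by
      rintro rfl
      rw [Fintype.card_fin, zero_pow hn.ne'] at h1
      exact zero_ne_one h1
    refine ⟨Units.mk0 r h3, ?_⟩
    have h4 : ((x : GL (Fin n) F) : Matrix (Fin n) (Fin n) F) = Matrix.scalar (Fin n) r := h2.symm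
    rw [h4, Units.val_mk0, Matrix.smul_one_eq_diagonal]
    rfl
  · rintro ⟨c, hc⟩
    have h4 : Matrix.scalar (Fin n) (c : F) = ((x : GL (Fin n) F) : Matrix (Fin n) (Fin n) F) := by
      rw [hc, Matrix.smul_one_eq_diagonal]
      rfl
    refine ⟨c, ?_, h4⟩
    have h5 := mem_sl.1 x.2
    rw [hc, det_smul, det_one, mul_one] at h5
    exact h5

theorem mem_pg {X : Subgroup Γ} {x : specialLinear (Fin n) F} : (x : GL (Fin n) F) ∈ pg e X ↔ pj e x ∈ X := by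
  constructor
  · rintro ⟨s, ⟨t, ht, h1⟩, h2⟩
    have h3 : s = toSL x := toGL_injective (h2.trans (toGL_toSL x).symm)
    subst h3
    have h4 : e t = Cfsg.Agent.H304.PslT.pr n F (toSL x) := h1
    rw [pj_apply, ← h4, e.symm_apply_apply]
    exact ht
  · intro h
    exact ⟨toSL x, ⟨e.symm (Cfsg.Agent.H304.PslT.pr n F (toSL x)), h, e.apply_symm_apply _⟩, toGL_toSL x⟩

theorem pg_le (X : Subgroup Γ) : pg e X ≤ specialLinear (Fin n) F := fun _ hx =>
  Cfsg.Agent.H304.PslT.mem_specialLinear_of_mem_pre hx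

theorem mem_pg' {X : Subgroup Γ} {x : GL (Fin n) F} (hx : x ∈ specialLinear (Fin n) F) :
    x ∈ pg e X ↔ pj e ⟨x, hx⟩ ∈ X := mem_pg e (x := ⟨x, hx⟩)

theorem z_le_pg (X : Subgroup Γ) : scalars (Fin n) F ⊓ specialLinear (Fin n) F ≤ pg e X := fun x hx => by
  rw [mem_pg' e hx.2, (pj_eq_one e (x := ⟨x, hx.2⟩)).2 hx.1]
  exact X.one_mem

theorem le_of_sl_le {X : Subgroup Γ} (h : specialLinear (Fin n) F ≤ pg e X) : S ≤ X := fun g hg => by
  obtain ⟨x, rfl⟩ := pj_surj e hg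
  exact (mem_pg e).1 (h x.2)

theorem pj_eq {x y : specialLinear (Fin n) F} (h : pj e x = pj e y) :
    ∃ z ∈ scalars (Fin n) F ⊓ specialLinear (Fin n) F, (x : GL (Fin n) F) = y * z := by
  refine ⟨((y⁻¹ * x : specialLinear (Fin n) F) : GL (Fin n) F), ⟨(pj_eq_one e).1 ?_, (y⁻¹ * x).2⟩, ?_⟩
  · rw [map_mul, map_inv, h, inv_mul_cancel]
  · simp

/-- the image in `Γ` -/
noncomputable def im (I : Subgroup (GL (Fin n) F)) : Subgroup Γ := (I.subgroupOf (specialLinear (Fin n) F)).map (pj e)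

theorem mem_im {I : Subgroup (GL (Fin n) F)} {g : Γ} :
    g ∈ im e I ↔ ∃ x : specialLinear (Fin n) F, (x : GL (Fin n) F) ∈ I ∧ pj e x = g := Iff.rfl

theorem im_ne_bot {I : Subgroup (GL (Fin n) F)} (h1 : I ≤ specialLinear (Fin n) F) (h2 : ¬ I ≤ scalars (Fin n) F) :
    im e I ≠ ⊥ := fun h => h2 fun x hx => by
  have h3 : pj e ⟨x, h1 hx⟩ ∈ im e I := ⟨⟨x, h1 hx⟩, hx, rfl⟩
  rw [h, Subgroup.mem_bot] at h3
  exact (pj_eq_one e).1 h3

theorem pg_le_of_le_im {I : Subgroup (GL (Fin n) F)} (hz : scalars (Fin n) F ⊓ specialLinear (Fin n) F ≤ I) {X : Subgroup Γ}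
    (h : X ≤ im e I) : pg e X ≤ I := fun x hx => by
  have h1 := pg_le e X hx
  obtain ⟨y, hy, h2⟩ := h ((mem_pg' e h1).1 hx)
  obtain ⟨z, hz1, h3⟩ := pj_eq e h2.symm
  have h4 : x = y * z := h3
  rw [h4]
  exact I.mul_mem hy (hz hz1)

variable [Fintype F]

/-- conjugation by an element that normalises `S` -/
theorem exists_tw (hn : 2 ≤ n) {m : Γ} (hm : m ∈ Subgroup.normalizer (S : Set Γ)) :
    ∃ τ : GL (Fin n) F →* GL (Fin n) F, Tw τ ∧ (∀ x, x ∈ specialLinear (Fin n) F ↔ τ x ∈ specialLinear (Fin n) F) ∧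
      ∀ (x y : specialLinear (Fin n) F), (y : GL (Fin n) F) = τ x → pj e y = m * pj e x * m⁻¹ := by
  let α : MulAut (Matrix.ProjectiveSpecialLinearGroup (Fin n) F) := MulAut.congr e (S.normalizerMonoidHom ⟨m, hm⟩)
  have hα : ∀ x : specialLinear (Fin n) F, ((e.symm (α (Cfsg.Agent.H304.PslT.pr n F (toSL x))) : S) : Γ) = m * pj e x * m⁻¹ := by
    intro x
    change ((e.symm (e (S.normalizerMonoidHom ⟨m, hm⟩ (e.symm _))) : S) : Γ) = _
    rw [e.symm_apply_apply]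
    rfl
  have hd : ∀ (a : GL (Fin n) F) (σ : F ≃+* F) (x : GL (Fin n) F),
      x ∈ specialLinear (Fin n) F ↔ a * mapGL σ x * a⁻¹ ∈ specialLinear (Fin n) F := by
    intro a σ x
    rw [mem_sl, mem_sl, Units.val_mul, Units.val_mul, det_mul, det_mul, mul_comm, ← mul_assoc, ← det_mul, ← Units.val_mul,
      inv_mul_cancel, Units.val_one, det_one, one_mul, coe_mapGL]
    have h1 : ((x : Matrix (Fin n) (Fin n) F).map σ).det = σ (x : Matrix (Fin n) (Fin n) F).det :=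
      (RingEquiv.map_det σ _).symm
    rw [h1]
    exact ⟨fun h => by rw [h, map_one], fun h => σ.injective (by rw [h, map_one])⟩
  have hi : ∀ x : GL (Fin n) F, x ∈ specialLinear (Fin n) F ↔ itGL x ∈ specialLinear (Fin n) F := by
    intro x
    rw [mem_sl (x := itGL x), coe_itGL, det_transpose, ← mem_sl, inv_mem_iff]
  rcases exists_form hn α with ⟨a, σ, h⟩ | ⟨-, a, σ, h⟩
  · refine ⟨(MulAut.conj a).toMonoidHom.comp (mapGL σ), ⟨a, σ, Or.inl fun _ => rfl⟩, hd a σ, fun x y hy => ?_⟩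
    rw [← hα, h, pj_apply]
    have h1 : toSL y = cj a (fld σ (toSL x)) := Subtype.ext (congrArg Units.val hy)
    rw [h1]
    rfl
  · refine ⟨(MulAut.conj a).toMonoidHom.comp ((mapGL σ).comp itGL), ⟨a, σ, Or.inr fun _ => rfl⟩,
      fun x => (hi x).trans (hd a σ _), fun x y hy => ?_⟩
    rw [← hα, h, pj_apply]
    have h2 : ((itGL (x : GL (Fin n) F) : GL (Fin n) F) : Matrix (Fin n) (Fin n) F) = (itr (toSL x) : Matrix (Fin n) (Fin n) F) := by
      rw [coe_itGL, coe_itr, ← map_inv]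
      rfl
    have h1 : toSL y = cj a (fld σ (itr (toSL x))) := by
      apply Subtype.ext
      refine (congrArg Units.val hy).trans ?_
      change (a : Matrix (Fin n) (Fin n) F) * (((itGL (x : GL (Fin n) F) : GL (Fin n) F) : Matrix (Fin n) (Fin n) F).map σ) * _ = _
      rw [h2]
      rfl
    rw [h1]
    rfl

omit [Fintype F] in
theorem inv_pg {m : Γ} {τ : GL (Fin n) F →* GL (Fin n) F}
    (h1 : ∀ x, x ∈ specialLinear (Fin n) F ↔ τ x ∈ specialLinear (Fin n) F)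
    (h2 : ∀ (x y : specialLinear (Fin n) F), (y : GL (Fin n) F) = τ x → pj e y = m * pj e x * m⁻¹) {X : Subgroup Γ}
    (hX : ∀ g, g ∈ X ↔ m * g * m⁻¹ ∈ X) : Inv τ (pg e X) := by
  intro x
  by_cases hx : x ∈ specialLinear (Fin n) F
  · rw [mem_pg' e hx, mem_pg' e ((h1 x).1 hx), h2 ⟨x, hx⟩ ⟨τ x, (h1 x).1 hx⟩ rfl]
    exact hX _
  · exact ⟨fun h => absurd (pg_le e X h) hx, fun h => absurd ((h1 x).2 (pg_le e X h)) hx⟩

theorem conj_iff {X : Subgroup Γ} {m : Γ} (hm : m ∈ X) (g : Γ) : g ∈ X ↔ m * g * m⁻¹ ∈ X :=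
  ⟨fun h => X.mul_mem (X.mul_mem hm h) (X.inv_mem hm), fun h => by
    simpa [mul_assoc] using X.mul_mem (X.mul_mem (X.inv_mem hm) h) hm⟩

/-- an invariant subgroup lies in the maximal subgroup -/
theorem im_le (hn : 2 ≤ n) {M' S' K : Subgroup Γ} (hS : AS M' S') (hK : K ⋖ M') (hN : M' ≤ Subgroup.normalizer (S : Set Γ))
    {I : Subgroup (GL (Fin n) F)} (h1 : I ≤ specialLinear (Fin n) F) (h2 : im e I ≤ M') (h3 : ¬ pg e S' ≤ I)
    (hz : scalars (Fin n) F ⊓ specialLinear (Fin n) F ≤ I) (h4 : ¬ I ≤ scalars (Fin n) F)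
    (h5 : ∀ m ∈ K, ∀ τ : GL (Fin n) F →* GL (Fin n) F, Tw τ →
      (∀ X : Subgroup Γ, (∀ g, g ∈ X ↔ m * g * m⁻¹ ∈ X) → Inv τ (pg e X)) → ∀ x ∈ I, τ x ∈ I) : im e I ≤ K := by
  have hc : ∀ m ∈ K, ∀ g ∈ im e I, m * g * m⁻¹ ∈ im e I := by
    rintro m hm _ ⟨x, hx, rfl⟩
    obtain ⟨τ, t1, t2, t3⟩ := exists_tw e hn (hN (hK.le hm))
    exact ⟨⟨τ x, (t2 x).1 x.2⟩, h5 m hm τ t1 (fun X hX => inv_pg e t2 t3 hX) x hx, t3 x _ rfl⟩
  rcases le_or_mul_of_covBy hK h2 hc with k | k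
  · exact k
  · refine absurd (pg_le_of_le_im e hz (hS.le_of_conj h2 (fun g hg x hx => ?_) (im_ne_bot e h1 h4))) h3
    obtain ⟨a, ha, y, hy, rfl⟩ := k g (hS.le hg)
    have h6 := hc a ha _ ((im e I).mul_mem ((im e I).mul_mem hy hx) ((im e I).inv_mem hy))
    simpa [mul_assoc] using h6

theorem mf_of_fac (hn : 2 ≤ n) {M H T B : Subgroup Γ} (f : Fac M S H T B) : MF (pg e T) (pg e B) := by
  have hNS := f.asM.le_normalizer
  have hS : pg e S = specialLinear (Fin n) F :=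
    le_antisymm (pg_le e S) fun x hx => (mem_pg' e hx).2 (pj_mem e _)
  have hT : ∀ m ∈ H, ∀ g, g ∈ T ↔ m * g * m⁻¹ ∈ T := fun m hm => Subgroup.mem_normalizer_iff.1 (f.asH.le_normalizer hm)
  have himS : ∀ I, im e I ≤ S := by
    rintro I _ ⟨x, -, rfl⟩
    exact pj_mem e x
  refine ⟨⟨pg_le e T, pg_le e B, fun g hg => ?_⟩, z_le_pg e T, z_le_pg e B, fun h => f.ne (le_antisymm f.le (le_of_sl_le e h)),
    fun h => f.nB (le_of_sl_le e h), fun N h1 h2 => ?_, ?_, fun g hg h => ?_, fun h => ?_, fun I h1 h2 h3 h4 h5 g hg x hx => ?_,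
    fun I h1 h2 h3 h4 h5 => ?_, fun I h1 h2 h3 h4 h5 => ?_⟩
  · obtain ⟨t, ht, b, hb, h1⟩ := f.fac _ (pj_mem e ⟨g, hg⟩)
    obtain ⟨x, rfl⟩ := pj_surj e (f.le ht)
    refine ⟨x, (mem_pg e).2 ht, ((x⁻¹ * ⟨g, hg⟩ : specialLinear (Fin n) F) : GL (Fin n) F), (mem_pg e).2 ?_, by simp⟩
    rw [map_mul, map_inv, h1, inv_mul_cancel_left]
    exact hb
  · by_cases h3 : N ≤ scalars (Fin n) F
    · exact Or.inl h3
    right
    have h4 : im e N ≤ T := by
      rintro _ ⟨x, hx, rfl⟩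
      exact (mem_pg e).1 (h1 hx)
    have h5 : T ≤ im e N := by
      refine (f.asH.mono le_rfl f.asH.le).le_of_conj h4 ?_ (im_ne_bot e (h1.trans (pg_le e T)) h3)
      rintro g hg _ ⟨y, hy, rfl⟩
      obtain ⟨x, rfl⟩ := pj_surj e (f.le hg)
      exact ⟨x * y * x⁻¹, h2 x ((mem_pg e).2 hg) y hy, by rw [map_mul, map_mul, map_inv]⟩
    intro x hx
    obtain ⟨y, hy, h6⟩ := h5 ((mem_pg' e (pg_le e T hx)).1 hx)
    obtain ⟨z, hz, h7⟩ := pj_eq e h6.symm
    exact ⟨y, hy, z, hz.1, h7⟩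
  · by_contra hcon
    push Not at hcon
    refine f.asH.nab ⟨⟨fun a b => Subtype.ext ?_⟩⟩
    obtain ⟨x, hx⟩ := pj_surj e (f.le a.2)
    obtain ⟨y, hy⟩ := pj_surj e (f.le b.2)
    have h1 := (pj_eq_one e (x := x * y * x⁻¹ * y⁻¹)).2
      (hcon x ((mem_pg e).2 (hx ▸ a.2)) y ((mem_pg e).2 (hy ▸ b.2)))
    rw [map_mul, map_mul, map_mul, map_inv, map_inv, hx, hy] at h1
    change (a : Γ) * b = b * a
    calc (a : Γ) * b = a * b * (a : Γ)⁻¹ * (b : Γ)⁻¹ * (b * a) := by group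
      _ = b * a := by rw [h1, one_mul]
  · refine (pj_eq_one e (x := ⟨g, hg⟩)).1 (f.cen (f.asM.le (pj_mem e _)) fun t ht => ?_)
    obtain ⟨x, rfl⟩ := pj_surj e (f.le ht)
    rw [← map_mul, ← map_mul]
    congr 1
    exact Subtype.ext (h x ((mem_pg e).2 ht))
  · refine f.nb (eq_bot_iff.2 fun g hg => ?_)
    obtain ⟨x, rfl⟩ := pj_surj e (f.le hg.1)
    exact (pj_eq_one e).2 (h ⟨(mem_pg e).2 hg.1, (mem_pg e).2 hg.2⟩)
  · have h6 := im_le e hn f.asM f.hm hNS h1 ((himS I).trans f.asM.le) (hS.symm ▸ h2) h3 h4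
      fun m hm τ t1 t2 => h5 τ t1 (t2 T (hT m hm))
    have h7 := pg_le e T hx
    have h8 : ((⟨g, h1 hg⟩ * ⟨x, h7⟩ * (⟨g, h1 hg⟩ : specialLinear (Fin n) F)⁻¹ : specialLinear (Fin n) F) : GL (Fin n) F) ∈
        pg e T := by
      rw [mem_pg, map_mul, map_mul, map_inv]
      exact f.asH.conj _ (h6 ⟨⟨g, h1 hg⟩, hg, rfl⟩) _ ((mem_pg' e h7).1 hx)
    exact h8
  · have h6 := im_le e hn f.asM f.bm hNS h1 ((himS I).trans f.asM.le) (hS.symm ▸ h2) h3 h4
      fun m hm τ t1 t2 => h5 τ t1 (t2 B (conj_iff hm))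
    exact fun x hx => (mem_pg' e (h1 hx)).2 (h6 ⟨⟨x, h1 hx⟩, hx, rfl⟩)
  · have h7 := h1.trans (pg_le e T)
    have h8 : im e I ≤ H := by
      rintro _ ⟨x, hx, rfl⟩
      exact f.asH.le ((mem_pg e).1 (h1 hx))
    have h6 := im_le e hn f.asH f.pr (f.hm.le.trans hNS) h7 h8 h2 h3 h4
      fun m hm τ t1 t2 => h5 τ t1 (t2 T (hT m hm.1)) (t2 B (conj_iff hm.2))
    exact fun x hx => (mem_pg' e (h7 hx)).2 (h6 ⟨⟨x, h7 hx⟩, hx, rfl⟩).2

end pj

end Cfsg.Agent.SM.L
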