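import Cfsg.Agent.SM.L.Gen

/-!
# SM/L: the factor `B` fixes a point (helper18)
-/

set_option autoImplicit false
set_option linter.unusedSectionVars false

namespace Cfsg.Agent.SM.L

open Cfsg Cfsg.Geo Matrix
open Cfsg.Agent.H873 (tv tv_mulVec coe_tv tv_mem_specialLinear gl_ext)
open Cfsg.Agent.S5642 (rep rep_dot)
open scoped MatrixGroups

variable {n : ℕ} {F : Type} [Field F] {R C : Subgroup (GL (Fin n) F)}

theorem z_le_sim {f : (Fin n → F) → (Fin n → F) → F} (hf : IsSymplecticForm f) : scalars (Fin n) F ≤ similarityGroup f := by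
  intro z hz
  obtain ⟨c, hc⟩ := (mem_scalars_iff z).1 hz
  refine ⟨c * c, fun u w => ?_⟩
  rw [hc, smul_mulVec, smul_mulVec, one_mulVec, one_mulVec, hf.bilinear.smul_left, hf.bilinear.smul_right, Units.val_mul, mul_assoc]

theorem sim_norm {f : (Fin n → F) → (Fin n → F) → F} {x y : GL (Fin n) F} (hx : x ∈ similarityGroup f) (hy : y ∈ spG f) :
    x * y * x⁻¹ ∈ spG f := by
  obtain ⟨c, hc⟩ := hx
  intro u w
  rw [mul_mv, mul_mv, mul_mv, mul_mv, hc, hy, ← hc, mv_inv, mv_inv]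

theorem sim_comm {f : (Fin n → F) → (Fin n → F) → F} {x y : GL (Fin n) F} (hx : x ∈ similarityGroup f)
    (hy : y ∈ similarityGroup f) : x * y * x⁻¹ * y⁻¹ ∈ spG f := by
  obtain ⟨c, hc⟩ := hx
  obtain ⟨d, hd⟩ := hy
  intro u w
  have h1 := hd (((y⁻¹ : GL (Fin n) F) : Matrix (Fin n) (Fin n) F) *ᵥ u) (((y⁻¹ : GL (Fin n) F) : Matrix (Fin n) (Fin n) F) *ᵥ w)
  rw [mv_inv, mv_inv] at h1
  rw [mul_mv, mul_mv, mul_mv, mul_mv, mul_mv, mul_mv, hc, hd, mul_left_comm, ← hc, mv_inv, mv_inv, h1]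

/-- the hull of a reducible partner that fixes the point `v` -/
theorem Red.hull {X : Subgroup (GL (Fin n) F)} (h : Red X) {v : Fin n → F} (hv : v ≠ 0) (hX : ∀ x ∈ X, FixP x v) :
    ∃ φ, φ ⬝ᵥ v ≠ 0 ∧ (∀ w, w ≠ 0 → (∀ x ∈ X, FixP x w) → ∃ c : F, w = c • v) ∧
      ((∀ x, x ∈ hull X ↔ x ∈ specialLinear (Fin n) F ∧ FixP x v) ∨
        ∀ x, x ∈ hull X ↔ x ∈ specialLinear (Fin n) F ∧ FixP x v ∧ FixH x φ) := by
  obtain ⟨v', φ, h1, h2, h3, -⟩ := h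
  obtain ⟨c, rfl⟩ := h2 v hv hX
  have hc : c ≠ 0 := fun e => hv (by rw [e, zero_smul])
  have key : ∀ w, w ≠ 0 → (∀ x ∈ X, FixP x w) → ∃ d : F, w = d • c • v' := fun w hw hf => by
    obtain ⟨d, rfl⟩ := h2 w hw hf
    exact ⟨d * c⁻¹, by rw [smul_smul, inv_mul_cancel_right₀ hc]⟩
  have kP : ∀ x, FixP x (c • v') → ∀ w, (∀ y ∈ X, FixP y w) → FixP x w := fun x hx w hw => by
    by_cases h0 : w = 0
    · exact ⟨0, by rw [h0, mulVec_zero, smul_zero]⟩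
    obtain ⟨d, rfl⟩ := key w h0 hw
    exact hx.smul d
  refine ⟨φ, by rw [dotProduct_smul]; exact smul_ne_zero hc h1, key, ?_⟩
  by_cases hφ : ∀ x ∈ X, FixH x φ
  · refine Or.inr fun x => ⟨fun hx => ⟨hx.1, hx.2.1 _ hX, hx.2.2 _ hφ⟩, fun hx => ⟨hx.1, kP x hx.2.1, fun ψ hψ => ?_⟩⟩
    by_cases h0 : ψ = 0
    · exact ⟨0, by rw [h0, zero_vecMul, smul_zero]⟩
    obtain ⟨d, rfl⟩ := h3 ψ h0 hψ
    exact hx.2.2.smul d
  · refine Or.inl fun x => ⟨fun hx => ⟨hx.1, hx.2.1 _ hX⟩, fun hx => ⟨hx.1, kP x hx.2, fun ψ hψ => ?_⟩⟩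
    by_cases h0 : ψ = 0
    · exact ⟨0, by rw [h0, zero_vecMul, smul_zero]⟩
    obtain ⟨d, rfl⟩ := h3 ψ h0 hψ
    have hd : d ≠ 0 := fun e => h0 (by rw [e, zero_smul])
    exact (hφ fun y hy => by simpa [smul_smul, inv_mul_cancel₀ hd] using (hψ y hy).smul d⁻¹).elim

theorem boxP_of (hH : BoxHer) (hK : BoxK1) : BoxP := by
  intro F _ _ n R C v hn h42 h hv hC
  have ht : Tr R := h.pd.tr_of_fix hn hv hC
  obtain ⟨f, hf, hle⟩ := (hH F n R hn h42 h.pd.left h.neR ht).resolve_left h.not_ext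
  obtain ⟨hsl, hsp⟩ := sp_facts hf hn h42
  obtain ⟨m, hm, -⟩ := sp_iso hf
  have hnorm := h.invR (similarityGroup f ⊓ specialLinear (Fin n) F) inf_le_right
    (fun e => not_sl_le_sim hn hf (e.trans inf_le_left)) (inf_le_inf_right _ (z_le_sim hf))
    (fun e => h.not_le_scal ((le_inf hle h.pd.left).trans e))
    fun τ hτ hi => hτ.sim U.boxU (fun y hy => (hi y).1 hy) ht h.not_ext hf hle
  have hN := h.mulZ (N := R ⊓ spG f) inf_le_left
    (fun x hx y hy => ⟨R.mul_mem (R.mul_mem hx hy.1) (R.inv_mem hx), sim_norm (hle hx) hy.2⟩)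
    fun x hx y hy => ⟨R.mul_mem (R.mul_mem (R.mul_mem hx hy) (R.inv_mem hx)) (R.inv_mem hy), sim_comm (hle hx) (hle hy)⟩
  have hspR : spG f ≤ R := (hsp _ inf_le_right (fun x hx y hy =>
    ⟨hnorm x ⟨spG_le f hx, hsl hx⟩ y hy.1, sim_norm (spG_le f hx) hy.2⟩) (h.noncomm hN)).trans inf_le_left
  have hR : ∀ x, x ∈ R ↔ x ∈ specialLinear (Fin n) F ∧ ∃ y, Iso f y ∧ ∃ z ∈ scalars (Fin n) F, x = y * z := fun x =>
    ⟨fun hx => ⟨h.pd.left hx, let ⟨y, hy, k⟩ := hN x hx; ⟨y, hy.2, k⟩⟩, by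
      rintro ⟨hx, y, hy, z, hz, rfl⟩
      exact R.mul_mem (hspR hy) (h.zR ⟨hz, (Subgroup.mul_mem_cancel_left _ (hsl hy)).1 hx⟩)⟩
  obtain ⟨φ, hφ, -, hh⟩ := (hK F n C R (by omega) ⟨m, by omega⟩ h42 h.pd.symm (Or.inr ⟨f, hf, hle⟩) h.neC).hull hv hC
  have hCe : ∀ x, x ∈ C ↔ x ∈ hull C := fun x => ⟨fun hx => le_hull h.pd.right hx, fun hx => h.invC (hull C) (fun _ hx => hx.1)
    (fun e => not_sl_le_stP (by omega) hv fun y hy => (e hy).2.1 v hC) (z_le_hull C)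
    (fun e => h.nb (inf_le_right.trans ((le_hull h.pd.right).trans e))) (fun τ hτ hi => hτ.hull fun y hy => (hi y).1 hy) hx⟩
  rcases hh with hh | hh
  · exact ⟨f, by omega, hf, hv, hR, fun x => (hCe x).trans (hh x)⟩
  exfalso
  -- the centraliser in `R` of the unipotent elements of `R ⊓ C`
  have hmem : st hf v ∈ R ⊓ Subgroup.centralizer (pel (R ⊓ C)) := by
    refine ⟨hspR (st_iso hf v), fun x hx => ?_⟩
    have h1 := (hC x hx.1.2).fix hx.2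
    refine comm_of_fix (φ := rep f v) (tv_mulVec _ _ _) h1 fun w => ?_
    rw [rep_dot hf.bilinear, rep_dot hf.bilinear]
    conv_lhs => rw [← h1]
    exact iso_of_pow (hle hx.1.1) hx.2 v w
  have h1 := h.invA (R ⊓ Subgroup.centralizer (pel (R ⊓ C))) inf_le_left (fun e => by
      obtain ⟨u, hu, hz⟩ := exists_zero (k := 2) (by omega : 2 < n) ![rep f v, φ]
      have h0 : f v u = 0 := (rep_dot hf.bilinear _ _).symm.trans (hz 0)
      have h2 : φ ⬝ᵥ u = 0 := hz 1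
      have h3 : st hf u ∈ pel (R ⊓ C) := ⟨⟨hspR (st_iso hf u), (hCe _).2 ((hh _).2 ⟨tv_mem_specialLinear _ _ _,
        ⟨1, by rw [st_mv, hf.skew, h0, neg_zero, zero_smul, add_zero, one_smul]⟩,
        ⟨1, by rw [st, tv_vm, h2, zero_smul, add_zero, one_smul]⟩⟩)⟩, tv_pow _ _ _⟩
      exact tv_not_scal _ hu (rep_ne hf hu) (h.cen _ (tv_mem_specialLinear _ _ _) fun x hx => (e hx).2 _ h3))
    (fun z hz => ⟨h.zR hz, fun x _ => (scal_comm hz.1 x).symm⟩)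
    (fun e => tv_not_scal _ hv (rep_ne hf hv) (e hmem))
    (fun τ hτ hiR hiC g hg => ⟨(hiR g).1 hg.1, fun x hx => by
      obtain ⟨-, y, hy, rfl⟩ := hτ.pel hiR hiC hx
      rw [← map_mul, ← map_mul, hg.2 y hy]⟩) hmem
  obtain ⟨c, hc⟩ := ((hh _).1 ((hCe _).1 h1)).2.2
  rw [st, tv_vm] at hc
  have h2 := congrArg (· ⬝ᵥ v) hc
  simp only [add_dotProduct, smul_dotProduct, rep_self hf, smul_eq_mul, mul_zero, add_zero] at h2
  have h3 : c = 1 := mul_right_cancel₀ hφ (by rw [← h2, one_mul])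
  rw [h3, one_smul, add_eq_left, smul_eq_zero] at hc
  exact hc.elim hφ (rep_ne hf hv)

end Cfsg.Agent.SM.L
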