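import Cfsg.Agent.SM.L.Blk

/-!
# SM/L: the factor `T` fixes a point (helper18)
-/

set_option autoImplicit false
set_option linter.unusedSectionVars false

namespace Cfsg.Agent.SM.L

open Cfsg Cfsg.Geo Matrix
open Cfsg.Agent.H873 (tv tv_mulVec coe_tv tv_mem_specialLinear gl_ext one_add_mulVec)
open Cfsg.Agent.S5642 (rep rep_dot dot_ext f_sub_right)
open scoped MatrixGroups

variable {n : ℕ} {F : Type} [Field F] {R C : Subgroup (GL (Fin n) F)} {v w : Fin n → F} {f : (Fin n → F) → (Fin n → F) → F}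

/-- a reflection -/
theorem exists_rf {a ψ : Fin n → F} (h : ψ ⬝ᵥ a = 1) {c : F} (hc : c ≠ 0) : ∃ g : GL (Fin n) F,
    (g : Matrix (Fin n) (Fin n) F).det = c ∧ ∀ s, (g : Matrix (Fin n) (Fin n) F) *ᵥ s = s + (((c - 1) • ψ) ⬝ᵥ s) • a := by
  have h1 : (1 + vecMulVec a ((c - 1) • ψ)).det = c := by
    rw [vecMulVec_eq Unit, det_one_add_replicateCol_mul_replicateRow, smul_dotProduct, h, smul_eq_mul, mul_one, add_sub_cancel]
  exact ⟨Matrix.GeneralLinearGroup.mkOfDetNeZero _ (h1.trans_ne hc), h1, fun s => one_add_mulVec _ _ s⟩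

theorem left_ext (hf : IsSymplecticForm f) {a b : Fin n → F} (h : ∀ u, f a u = f b u) : a = b := by
  by_contra hne
  obtain ⟨-, x, hx⟩ := hf.nondegenerate _ (sub_ne_zero.2 hne)
  rw [hf.skew, f_sub_right hf.bilinear, hf.skew x a, hf.skew x b, h, sub_self, neg_zero] at hx
  exact hx rfl

theorem MF.symC [Fintype F] (h : MF R C) (hn : 4 ≤ n) (hf : IsSymplecticForm f) (hvw : f v w = 1)
    (hC : ∀ x, x ∈ C ↔ x ∈ specialLinear (Fin n) F ∧ x ∈ similarityGroup f)
    (hR : ∀ x ∈ R, FixP x v ∧ FixH x (rep f w)) (hu : ∀ u, u ≠ 0 → (∀ x ∈ R, FixP x u) → ∃ c : F, u = c • v)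
    (hW : slW v (rep f w) ≤ R) : n = 4 ∧ ∀ c : F, c ≠ 0 → c * c = 1 := by
  have hb := hf.bilinear
  have hwv : f w v = -1 := by rw [hf.skew, hvw]
  have hW' : ∀ x ∈ specialLinear (Fin n) F, (x : Matrix (Fin n) (Fin n) F) *ᵥ v = v →
      (∀ u, f w ((x : Matrix (Fin n) (Fin n) F) *ᵥ u) = f w u) → x ∈ R := fun x h1 h2 h3 =>
    hW ⟨h1, h2, fun u => by rw [rep_dot hb, rep_dot hb, h3]⟩
  have hAw : ∀ x ∈ R ⊓ C, FixP x w := fun x hx => by
    obtain ⟨c, hc⟩ := ((hC x).1 hx.2).2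
    obtain ⟨d, hd, -, h2⟩ := fix_both (by rw [rep_dot hb, hwv]; exact neg_ne_zero.2 one_ne_zero) (hR x hx.1).1 (hR x hx.1).2
    refine ⟨c * d⁻¹, left_ext hf fun u => ?_⟩
    have h3 := h2 (((x⁻¹ : GL (Fin n) F) : Matrix (Fin n) (Fin n) F) *ᵥ u)
    rw [rep_dot hb, rep_dot hb] at h3
    rw [← mv_inv x u, hc, hb.smul_left, h3, mul_assoc, inv_mul_cancel_left₀ hd]
  have hA := h.hullA hAw fun e => by
    obtain ⟨c, hc⟩ := hu w (fun e' => by rw [e', S5642.f_zero_right hb] at hvw; exact zero_ne_one hvw) e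
    rw [hc, hb.smul_right, hf.alternating, mul_zero] at hvw
    exact zero_ne_one hvw
  have hst : ∀ a, f v a = 0 → f w a = 0 → st hf a ∈ pel (R ⊓ C) := fun a h1 h2 =>
    ⟨⟨hW' _ (tv_mem_specialLinear _ _ _) (by rw [st_mv, hf.skew, h1, neg_zero, zero_smul, add_zero])
      fun u => by rw [st_mv, hb.add_right, hb.smul_right, h2, mul_zero, add_zero],
      (hC _).2 ⟨tv_mem_specialLinear _ _ _, spG_le f (st_iso hf a)⟩⟩, tv_pow _ _ _⟩
  obtain ⟨a, ha, hz⟩ := exists_zero (k := 2) (by omega : 2 < n) ![rep f v, rep f w]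
  have hva : f v a = 0 := (rep_dot hb _ _).symm.trans (hz 0)
  have hwa : f w a = 0 := (rep_dot hb _ _).symm.trans (hz 1)
  obtain ⟨x₀, hx₀⟩ : ∃ x, f a x = 1 := by
    obtain ⟨-, x, hx⟩ := hf.nondegenerate a ha
    exact ⟨(f a x)⁻¹ • x, by rw [hb.smul_right, inv_mul_cancel₀ hx]⟩
  -- the perp of `v, w, a` is `⟨a⟩`
  have key : ∀ b, f v b = 0 → f w b = 0 → f a b = 0 → b = f b x₀ • a := fun b h1 h2 h3 => by
    have h0 : rep f b ⬝ᵥ a = 0 := by rw [rep_dot hb, hf.skew, h3, neg_zero]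
    have hm : ∀ u, (tv a _ h0 : Matrix (Fin n) (Fin n) F) *ᵥ u = u + f b u • a := fun u => by rw [tv_mulVec, rep_dot hb]
    have h4 : tv a _ h0 ∈ C := hA ⟨hW' _ (tv_mem_specialLinear _ _ _) (by rw [hm, hf.skew, h1, neg_zero, zero_smul, add_zero])
      fun u => by rw [hm, hb.add_right, hb.smul_right, hwa, mul_zero, add_zero], tv_mem_specialLinear _ _ _, fun u k => by
        have h5 := (k _ (hst b h1 h2).1).fix (hst b h1 h2).2
        rw [st_mv, add_eq_left, smul_eq_zero] at h5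
        have h6 : f b u = 0 := h5.elim id fun e => by rw [e, hf.skew, S5642.f_zero_right hb, neg_zero]
        exact ⟨1, by rw [hm, h6, zero_smul, add_zero, one_smul]⟩, fun θ k => by
        obtain ⟨c, hc⟩ := fixH_iff'.1 (k _ (hst a hva hwa).1)
        have h5 := hc a
        have h6 := hc x₀
        simp only [st_mv, hf.alternating, zero_smul, add_zero, hx₀, one_smul, dotProduct_add] at h5 h6
        have h8 : θ ⬝ᵥ a = 0 := by
          by_contra hne
          have h9 : c = 1 := mul_right_cancel₀ hne (by rw [← h5, one_mul])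
          rw [h9, one_mul, add_eq_left] at h6
          exact hne h6
        exact ⟨1, by rw [tv_vm, h8, zero_smul, add_zero, one_smul]⟩⟩
    refine left_ext hf fun u => ?_
    have h5 := iso_of_pow ((hC _).1 h4).2 (tv_pow _ _ h0) x₀ u
    rw [hm, hm] at h5
    simp only [hb.add_left, hb.add_right, hb.smul_left, hb.smul_right, hf.alternating] at h5
    rw [hf.skew x₀ a, hx₀] at h5
    rw [hb.smul_left]
    linear_combination -h5
  refine ⟨?_, fun c hc => ?_⟩
  · by_contra hne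
    obtain ⟨b, hb0, hz⟩ := exists_zero (k := 4) (by omega : 4 < n) ![rep f v, rep f w, rep f a, rep f x₀]
    have h1 : f x₀ b = 0 := (rep_dot hb _ _).symm.trans (hz 3)
    have h2 := key b ((rep_dot hb _ _).symm.trans (hz 0)) ((rep_dot hb _ _).symm.trans (hz 1)) ((rep_dot hb _ _).symm.trans (hz 2))
    rw [hf.skew, h1, neg_zero, zero_smul] at h2
    exact hb0 h2
  have hav : f a v = 0 := by rw [hf.skew, hva, neg_zero]
  have haw : f a w = 0 := by rw [hf.skew, hwa, neg_zero]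
  obtain ⟨b, hvb, hwb, hab⟩ : ∃ b, f v b = 0 ∧ f w b = 0 ∧ f a b = 1 := by
    refine ⟨x₀ + (-f x₀ w) • v + f x₀ v • w, ?_, ?_, ?_⟩
    · simp only [hb.add_right, hb.smul_right, hf.alternating, hvw]
      rw [hf.skew x₀ v]
      ring
    · simp only [hb.add_right, hb.smul_right, hf.alternating, hwv]
      rw [hf.skew x₀ w]
      ring
    · simp only [hb.add_right, hb.smul_right, hav, haw, hx₀]
      ring
  have hbv : f b v = 0 := by rw [hf.skew, hvb, neg_zero]
  have hbw : f b w = 0 := by rw [hf.skew, hwb, neg_zero]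
  have hba : f b a = -1 := by rw [hf.skew, hab]
  have hexp : ∀ s t, f s t = -f w s * f v t + f v s * f w t + -f b s * f a t + f a s * f b t := fun s t => by
    have h1 := key (s + f w s • v + (-f v s) • w + f b s • a + (-f a s) • b)
      (by simp only [hb.add_right, hb.smul_right, hf.alternating, hvw, hva, hvb]; ring)
      (by simp only [hb.add_right, hb.smul_right, hf.alternating, hwv, hwa, hwb]; ring)
      (by simp only [hb.add_right, hb.smul_right, hf.alternating, hav, haw, hab]; ring)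
    obtain ⟨d, hd⟩ : ∃ d : F, s + f w s • v + (-f v s) • w + f b s • a + (-f a s) • b = d • a := ⟨_, h1⟩
    have h2 := congrArg (f b) hd
    simp only [hb.add_right, hb.smul_right, hf.alternating, hbv, hbw, hba] at h2
    have h3 := congrArg (f · t) hd
    simp only [hb.add_left, hb.smul_left] at h3
    linear_combination h3 + f a t * h2
  obtain ⟨ra, da, ma⟩ := exists_rf (a := a) (ψ := -rep f b) (by rw [neg_dotProduct, rep_dot hb, hba, neg_neg]) hc
  obtain ⟨rv, -, mv⟩ := exists_rf (a := v) (ψ := -rep f w) (by rw [neg_dotProduct, rep_dot hb, hwv, neg_neg]) hc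
  obtain ⟨rw', dw, mw⟩ := exists_rf (a := w) (ψ := rep f v) (by rw [rep_dot hb, hvw]) (inv_ne_zero hc)
  have cv : ∀ x : GL (Fin n) F, (x : Matrix (Fin n) (Fin n) F) *ᵥ v = v →
      (∀ u, f w ((x : Matrix (Fin n) (Fin n) F) *ᵥ u) = f w u) → x * rv = rv * x := fun x h1 h2 =>
    comm_of_fix mv h1 fun u => by simp only [smul_dotProduct, neg_dotProduct, rep_dot hb, h2]
  have cw : ∀ x : GL (Fin n) F, (x : Matrix (Fin n) (Fin n) F) *ᵥ w = w →
      (∀ u, f v ((x : Matrix (Fin n) (Fin n) F) *ᵥ u) = f v u) → x * rw' = rw' * x := fun x h1 h2 =>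
    comm_of_fix mw h1 fun u => by simp only [smul_dotProduct, rep_dot hb, h2]
  simp only [smul_dotProduct, neg_dotProduct, rep_dot hb, smul_eq_mul] at ma mv mw
  have hd : rw' * ra ∈ R := hW' _ (by rw [mem_sl, Units.val_mul, det_mul, da, dw, inv_mul_cancel₀ hc])
    (by simp only [mul_mv, ma, mw, hbv, hf.alternating, neg_zero, mul_zero, zero_smul, add_zero])
    fun u => by simp only [mul_mv, ma, mw, hb.add_right, hb.smul_right, hf.alternating, hwa, mul_zero, add_zero]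
  have hd' : rv * ra ∈ similarityGroup f := ⟨Units.mk0 c hc, fun s t => by
    simp only [mul_mv, ma, mv, hb.add_right, hb.smul_right, hb.add_left, hb.smul_left, hf.alternating, hwa, hva, hav,
      Units.val_mk0]
    rw [hf.skew s a, hf.skew s v]
    linear_combination (1 - c) * hexp s t⟩
  have hfix : ∀ x ∈ pel (R ⊓ C), (x : Matrix (Fin n) (Fin n) F) *ᵥ v = v ∧ (x : Matrix (Fin n) (Fin n) F) *ᵥ w = w := fun x hx =>
    ⟨(hR x hx.1.1).1.fix hx.2, (hAw x hx.1).fix hx.2⟩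
  have hcj : ∀ g ∈ R, ∀ x ∈ pel (R ⊓ C), g * x * g⁻¹ ∈ similarityGroup f → g * x * g⁻¹ ∈ pel (R ⊓ C) := fun g hg x hx k => by
    have h1 := R.mul_mem (R.mul_mem hg hx.1.1) (R.inv_mem hg)
    exact ⟨⟨h1, (hC _).2 ⟨h.pd.left h1, k⟩⟩, by rw [conj_pow, hx.2, mul_one, mul_inv_cancel]⟩
  have hI := h.invA (R ⊓ Subgroup.normalizer (pel (R ⊓ C))) inf_le_left (fun e => by
      have h0 : rep f v ⬝ᵥ a = 0 := hz 0
      have hm : ∀ u, (tv a _ h0 : Matrix (Fin n) (Fin n) F) *ᵥ u = u + f v u • a := fun u => by rw [tv_mulVec, rep_dot hb]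
      have h1 : tv a _ h0 ∈ R := hW' _ (tv_mem_specialLinear _ _ _) (by rw [hm, hf.alternating, zero_smul, add_zero])
        fun u => by rw [hm, hb.add_right, hb.smul_right, hwa, mul_zero, add_zero]
      have h2 := (hfix _ (((e (R.inv_mem h1)).2 _).1 (hst b hvb hwb))).2
      have h3 := congrArg ((tv a _ h0 : Matrix (Fin n) (Fin n) F) *ᵥ ·) h2
      simp only [mul_mv, mv_inv, inv_inv, st_mv, add_eq_left] at h3
      rw [hm, hb.add_right, hb.smul_right, hbw, hvw, hba, one_mul, zero_add, neg_one_smul, neg_eq_zero] at h3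
      rw [h3, S5642.f_zero_right hb] at hab
      exact zero_ne_one hab)
    (fun z hz => ⟨h.zR hz, Subgroup.mem_normalizer_fintype fun x hx => by rwa [scal_comm hz.1, mul_inv_cancel_right]⟩)
    (fun e => h.nb fun g hg => e ⟨hg.1, Subgroup.mem_normalizer_fintype fun x hx => hcj g hg.1 x hx
      (Subgroup.mul_mem _ (Subgroup.mul_mem _ ((hC _).1 hg.2).2 ((hC _).1 hx.1.2).2) (Subgroup.inv_mem _ ((hC _).1 hg.2).2))⟩)
    (fun τ hτ hiR hiC g hg => ⟨(hiR g).1 hg.1, Subgroup.mem_normalizer_fintype fun x hx => by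
      obtain ⟨-, y, hy, rfl⟩ := hτ.pel hiR hiC hx
      rw [← map_inv, ← map_mul, ← map_mul]
      exact (hτ.pel hiR hiC ((hg.2 y).1 hy)).1⟩)
    (show rw' * ra ∈ _ from ⟨hd, Subgroup.mem_normalizer_fintype fun x hx => hcj _ hd x hx (by
      obtain ⟨h1, h2⟩ := hfix x hx
      have h3 := iso_of_pow ((hC _).1 hx.1.2).2 hx.2
      have e1 := cv x h1 fun u => by rw [← h3 w u, h2]
      have e2 := cw x h2 fun u => by rw [← h3 v u, h1]
      have e3 := cv ra (by rw [ma, hbv, neg_zero, mul_zero, zero_smul, add_zero])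
        fun u => by rw [ma, hb.add_right, hb.smul_right, hwa, mul_zero, add_zero]
      have e4 := cw ra (by rw [ma, hbw, neg_zero, mul_zero, zero_smul, add_zero])
        fun u => by rw [ma, hb.add_right, hb.smul_right, hva, mul_zero, add_zero]
      have e5 : rw' * ra * x * (rw' * ra)⁻¹ = rv * ra * x * (rv * ra)⁻¹ := by
        rw [← e3, ← e4, mul_assoc ra rw' x, mul_assoc ra rv x, ← e1, ← e2]
        group
      rw [e5]
      exact Subgroup.mul_mem _ (Subgroup.mul_mem _ hd' ((hC _).1 hx.1.2).2) (Subgroup.inv_mem _ hd'))⟩)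
  obtain ⟨μ, hμ⟩ := ((hC _).1 hI).2
  have e1 := hμ v w
  have e2 := hμ a b
  simp only [mul_mv, ma, mw, hb.add_right, hb.smul_right, hb.add_left, hb.smul_left, hf.alternating, hva, hvb, hbv, hbw, hba,
    hab, hvw, neg_zero, mul_zero, zero_smul, add_zero] at e1 e2
  have e3 : c⁻¹ = c := by linear_combination e1 - e2
  nth_rw 1 [← e3]
  exact inv_mul_cancel₀ hc

theorem boxQ_of (hH : BoxHer) (hK : BoxK1) (hK' : BoxK2) : BoxQ := by
  intro F _ _ n R C v hn h42 h hv hR
  have ht : Tr C := h.pd.symm.tr_of_fix hn hv hR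
  have hES := hH F n C hn h42 h.pd.right h.neC ht
  have hev : Sym C → Even n := fun ⟨f, hf, _⟩ => let ⟨m, hm, _⟩ := sp_iso hf; ⟨m, by omega⟩
  have hred : Red R := by
    rcases Nat.even_or_odd n with he | ho
    · exact hK F n R C (by obtain ⟨m, hm⟩ := he; omega) he h42 h.pd hES h.neR
    · exact hK' F n R C hn ho h.pd (hES.resolve_right fun e => Nat.not_even_iff_odd.2 ho (hev e)) h.neR
        (h.not_solv fun x hx => ⟨x, hx, 1, Subgroup.one_mem _, (mul_one x).symm⟩) h.noP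
  obtain ⟨φ, hφ, hu, hh⟩ := hred.hull hv hR
  have hno := h.invR (hull R) (fun _ hx => hx.1) (fun e => not_sl_le_stP (by omega) hv fun y hy => (e hy).2.1 v hR) (z_le_hull R)
    (fun e => h.not_le_scal ((le_hull h.pd.left).trans e)) fun τ hτ hi => hτ.hull fun y hy => (hi y).1 hy
  have hh := hh.resolve_left fun hh => h.not_par (by omega) hv hR fun g h1 h2 => hno g ((hh g).2 ⟨h1, h2⟩)
  have hR' : ∀ x ∈ R, FixP x v ∧ FixH x φ := fun x hx => ((hh x).1 (le_hull h.pd.left hx)).2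
  have hW : Even n → slW v φ ≤ R := fun ⟨m, hm⟩ => h.slW_le (by omega) hφ hR' fun g hg => hno g ((hh g).2 (slW_fix hg))
  have hE := h.not_extC hn hφ hR' hu hW
  have hS := hES.resolve_left hE
  have hW' := hW (hev hS)
  obtain ⟨m, hm⟩ := hev hS
  obtain ⟨f, hf, hle⟩ := hS
  have hC : ∀ x, x ∈ C ↔ x ∈ specialLinear (Fin n) F ∧ x ∈ similarityGroup f := fun x => ⟨fun hx => ⟨h.pd.right hx, hle hx⟩,
    fun hx => h.invC (similarityGroup f ⊓ specialLinear (Fin n) F) inf_le_right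
      (fun e => not_sl_le_sim hn hf (e.trans inf_le_left)) (inf_le_inf_right _ (z_le_sim hf))
      (fun e => h.nb (inf_le_right.trans ((le_inf hle h.pd.right).trans e)))
      (fun τ hτ hi => hτ.sim U.boxU (fun y hy => (hi y).1 hy) ht hE hf hle) ⟨hx.2, hx.1⟩⟩
  obtain ⟨w, hw⟩ := S5642.exists_rep hf ((-(φ ⬝ᵥ v)⁻¹) • φ)
  obtain ⟨h4, hq⟩ := h.symC (w := w) (by omega) hf
    (by rw [hf.skew, ← rep_dot hf.bilinear, hw, smul_dotProduct, smul_eq_mul, neg_mul, neg_neg, inv_mul_cancel₀ hφ]) hC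
    (fun x hx => ⟨(hR' x hx).1, hw ▸ (hR' x hx).2.smul _⟩) hu fun x hx => hW' ⟨hx.1, hx.2.1, fun u => by
      have h1 := hx.2.2 u
      rw [hw, smul_dotProduct, smul_dotProduct] at h1
      exact mul_left_cancel₀ (neg_ne_zero.2 (inv_ne_zero hφ)) h1⟩
  refine ⟨h4, ?_, f, φ, hf, hφ, fun x => ⟨fun hx => ⟨h.pd.left hx, hR' x hx⟩, fun ⟨h1, h2, h3⟩ => ?_⟩, hC⟩
  · classical
    have h1 : (Finset.univ : Finset F) ⊆ {0, 1, -1} := fun c _ => by
      by_cases hc : c = 0
      · simp [hc]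
      · rcases mul_self_eq_one_iff.1 (hq c hc) with e | e <;> simp [e]
    have h2 := (Finset.card_le_card h1).trans Finset.card_le_three
    have h3 : 2 ≤ Fintype.card F := Fintype.one_lt_card
    rw [Finset.card_univ] at h2
    omega
  · obtain ⟨c, hc, h5, h6⟩ := fix_both hφ h2 h3
    let z : GL (Fin n) F := Units.map (Matrix.scalar (Fin n) : F →+* Matrix (Fin n) (Fin n) F).toMonoidHom (Units.mk0 c hc)
    have hz : (z : Matrix (Fin n) (Fin n) F) = c • (1 : Matrix (Fin n) (Fin n) F) := by simp [z, Matrix.smul_one_eq_diagonal]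
    have hz' : z ∈ specialLinear (Fin n) F := by
      rw [mem_sl, hz, det_smul, det_one, mul_one, Fintype.card_fin, h4]
      linear_combination (c * c + 1) * hq c hc
    have h7 : z * x ∈ R := hW' ⟨Subgroup.mul_mem _ hz' h1,
      by rw [mul_mv, h5, hz, smul_mulVec, one_mulVec, smul_smul, hq c hc, one_smul],
      fun u => by rw [mul_mv, hz, smul_mulVec, one_mulVec, dotProduct_smul, h6, smul_eq_mul, ← mul_assoc, hq c hc, one_mul]⟩
    exact (R.mul_mem_cancel_left (h.zR ⟨⟨_, rfl⟩, hz'⟩)).1 h7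

end Cfsg.Agent.SM.L
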