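import Cfsg.Agent.SM.L.Tw
import Cfsg.Agent.H831.Rl.HerA

/-!
# SM/L: one factor of `SL_n(F) = X Y` is transitive on the points (helper18)

* `two_aux` : the counting argument for doubly transitive groups
* `Pd2.tr` : `Tr X ∨ Tr Y`;  `Pd2.symm`, `Pd2.tr_of_fix`
-/

set_option autoImplicit false
set_option linter.unusedSectionVars false

namespace Cfsg.Agent.SM.L

open Cfsg Cfsg.Geo Matrix Finset
open scoped MatrixGroups

theorem two_aux {G Ω : Type} [Group G] [Finite G] [Finite Ω] (act : G → Ω → Ω)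
    (hmul : ∀ g h a, act (g * h) a = act g (act h a)) (U D E : Set Ω) (r : Ω → Ω → Prop) (hDU : D ⊆ U)
    (h1 : ∀ a ∈ U, ∀ a' ∈ U, ∃ g, act g a = a')
    (h2 : ∀ a ∈ U, ∀ b ∈ U, ∀ a' ∈ U, ∀ b' ∈ U, ¬ r a b → ¬ r a' b' → ∃ g, act g a = a' ∧ act g b = b')
    (hr : ∀ g a b, b ∈ U → r a b → act g a ∈ E → act g b ∈ E) {c : ℕ}
    (hc : ∀ g, {b | b ∈ D ∧ act g b ∈ E}.ncard = c) {a₀ a₁ e₀ e₁ : Ω} (ha₀ : a₀ ∈ D) (ha₁ : a₁ ∈ U)
    (hDr : ∀ b ∈ D, ¬ r a₁ b) (he₀ : e₀ ∈ E) (he₀' : e₀ ∈ U) (he₁ : e₁ ∈ U) (he₁' : e₁ ∉ E) (hEr : ¬ r e₀ e₁) : False := by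
  classical
  have := Fintype.ofFinite G
  have := Fintype.ofFinite Ω
  let N : Ω → Ω → ℕ := fun a b => (univ.filter fun g : G => act g a ∈ E ∧ act g b ∈ E).card
  have hN : ∀ h a b, N (act h a) (act h b) = N a b := by
    intro h a b
    refine card_bij (fun g _ => g * h) (fun g hg => ?_) (fun g _ g' _ e => mul_right_cancel e) fun g hg => ⟨g * h⁻¹, ?_, by group⟩
    · simpa [hmul] using hg
    · simp only [mem_filter, mem_univ, true_and] at hg ⊢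
      rw [← hmul, ← hmul, inv_mul_cancel_right]
      exact hg
  have hS : ∀ a, ∑ b ∈ univ.filter (· ∈ D), N a b = c * N a a := by
    intro a
    have k1 : ∀ b, N a b = ∑ g ∈ univ.filter (fun g : G => act g a ∈ E), if act g b ∈ E then 1 else 0 := by
      intro b
      rw [← card_filter, filter_filter]
    have k2 : N a a = (univ.filter fun g : G => act g a ∈ E).card := by
      simp only [N, and_self]
    simp only [k1]
    rw [sum_comm, ← k1, k2, card_eq_sum_ones, mul_sum]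
    refine sum_congr rfl fun g _ => ?_
    rw [← card_filter, filter_filter, mul_one, ← hc g, ← Set.ncard_coe_finset]
    congr 1
    ext b
    simp
  have hle : ∀ a b, N a b ≤ N a a := fun a b => card_le_card fun g hg => by
    simp only [mem_filter, mem_univ, true_and] at hg ⊢
    exact ⟨hg.1, hg.1⟩
  have h01 : N a₀ a₀ = N a₁ a₁ := by
    obtain ⟨g, rfl⟩ := h1 a₀ (hDU ha₀) a₁ ha₁
    exact (hN g a₀ a₀).symm
  have hlt : ∑ b ∈ univ.filter (· ∈ D), N a₁ b < ∑ b ∈ univ.filter (· ∈ D), N a₀ b := by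
    refine sum_lt_sum (fun b hb => ?_) ⟨a₀, by simpa using ha₀, ?_⟩
    · have hb' : b ∈ D := by simpa using hb
      by_cases h : r a₀ b
      · refine (hle a₁ b).trans (h01.symm.le.trans (card_le_card fun g hg => ?_))
        simp only [mem_filter, mem_univ, true_and] at hg ⊢
        exact ⟨hg.1, hr g a₀ b (hDU hb') h hg.1⟩
      · obtain ⟨g, e1, e2⟩ := h2 a₀ (hDU ha₀) b (hDU hb') a₁ ha₁ b (hDU hb') h (hDr b hb')
        have := hN g a₀ b
        rw [e1, e2] at this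
        exact this.le
    · rw [h01]
      obtain ⟨g, e1, e2⟩ := h2 a₁ ha₁ a₀ (hDU ha₀) e₀ he₀' e₁ he₁ (hDr a₀ ha₀) hEr
      refine card_lt_card ⟨fun g hg => ?_, fun h => ?_⟩
      · simp only [mem_filter, mem_univ, true_and] at hg ⊢
        exact ⟨hg.1, hg.1⟩
      · have := h (x := g) (by simp [e1, he₀])
        simp only [mem_filter, mem_univ, true_and, e2] at this
        exact he₁' this.2
  rw [hS, hS, h01] at hlt
  exact lt_irrefl _ hlt

variable {n : ℕ} {F : Type} [Field F] {X Y : Subgroup (GL (Fin n) F)}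

theorem Pd2.symm (h : Pd2 X Y) : Pd2 Y X := ⟨h.right, h.left, fun g hg => by
  obtain ⟨x, hx, y, hy, e⟩ := h.mul g⁻¹ (Subgroup.inv_mem _ hg)
  exact ⟨y⁻¹, Y.inv_mem hy, x⁻¹, X.inv_mem hx, by rw [← _root_.mul_inv_rev, ← e, inv_inv]⟩⟩

theorem Pd2.tr_of_fix (h : Pd2 X Y) (hn : 3 ≤ n) {v : Fin n → F} (hv : v ≠ 0) (hY : ∀ y ∈ Y, FixP y v) : Tr X := by
  have k : ∀ w, w ≠ 0 → ∃ x ∈ X, ∃ c : F, c ≠ 0 ∧ (x : Matrix (Fin n) (Fin n) F) *ᵥ v = c • w := by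
    intro w hw
    obtain ⟨g, hg, e⟩ := H831.Rl.sl_trans hn hv hw
    obtain ⟨x, hx, y, hy, rfl⟩ := h.mul g hg
    obtain ⟨c, hc⟩ := hY y hy
    rw [mul_mv, hc, mulVec_smul] at e
    have h0 : c ≠ 0 := by
      rintro rfl
      rw [zero_smul] at e
      exact hw e.symm
    exact ⟨x, hx, c⁻¹, inv_ne_zero h0, by rw [← e, smul_smul, inv_mul_cancel₀ h0, one_smul]⟩
  intro u w hu hw
  obtain ⟨x, hx, c, hc, e⟩ := k u hu
  obtain ⟨y, hy, d, -, e'⟩ := k w hw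
  refine ⟨y * x⁻¹, X.mul_mem hy (X.inv_mem hx), c⁻¹ * d, ?_⟩
  have h1 : u = c⁻¹ • (x : Matrix (Fin n) (Fin n) F) *ᵥ v := by rw [e, smul_smul, inv_mul_cancel₀ hc, one_smul]
  rw [h1, mulVec_smul, mul_mv, inv_mv, e', smul_smul]

/-- the cone over an orbit on the points -/
def cone (X : Subgroup (GL (Fin n) F)) (v : Fin n → F) : Set (Fin n → F) :=
  {w | w ≠ 0 ∧ ∃ x ∈ X, ∃ c : F, (x : Matrix (Fin n) (Fin n) F) *ᵥ v = c • w}

theorem cone_mv {v w : Fin n → F} {y : GL (Fin n) F} (hy : y ∈ X) (h : w ∈ cone X v) :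
    (y : Matrix (Fin n) (Fin n) F) *ᵥ w ∈ cone X v := by
  obtain ⟨h0, x, hx, c, e⟩ := h
  exact ⟨mv_ne y h0, y * x, X.mul_mem hy hx, c, by rw [mul_mv, e, mulVec_smul]⟩

theorem cone_smul {v w u : Fin n → F} (_hv : v ≠ 0) (h : w ∈ cone X v) (hu : u ≠ 0)
    (hr : u ∈ Submodule.span F ({w} : Set (Fin n → F))) : u ∈ cone X v := by
  obtain ⟨h0, x, hx, c, e⟩ := h
  obtain ⟨d, rfl⟩ := Submodule.mem_span_singleton.1 hr
  have h1 : d ≠ 0 := by
    rintro rfl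
    exact hu (zero_smul _ _)
  exact ⟨hu, x, hx, c * d⁻¹, by rw [e, smul_smul, mul_assoc, inv_mul_cancel₀ h1, mul_one]⟩

theorem span_symm {u w : Fin n → F} (hu : u ≠ 0) (h : u ∈ Submodule.span F ({w} : Set (Fin n → F))) :
    w ∈ Submodule.span F ({u} : Set (Fin n → F)) := by
  obtain ⟨d, rfl⟩ := Submodule.mem_span_singleton.1 h
  have h1 : d ≠ 0 := by
    rintro rfl
    exact hu (zero_smul _ _)
  exact Submodule.mem_span_singleton.2 ⟨d⁻¹, by rw [smul_smul, inv_mul_cancel₀ h1, one_smul]⟩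

theorem span_mv (g : GL (Fin n) F) {u w : Fin n → F} (h : u ∈ Submodule.span F ({w} : Set (Fin n → F))) :
    (g : Matrix (Fin n) (Fin n) F) *ᵥ u ∈ Submodule.span F ({(g : Matrix (Fin n) (Fin n) F) *ᵥ w} : Set (Fin n → F)) := by
  obtain ⟨d, rfl⟩ := Submodule.mem_span_singleton.1 h
  exact Submodule.mem_span_singleton.2 ⟨d, by rw [mulVec_smul]⟩

/-- `SL_n`, `n ≥ 3`, is transitive on the independent pairs -/
theorem sl_two (hn : 3 ≤ n) {a b a' b' : Fin n → F} (ha : a ≠ 0) (ha' : a' ≠ 0)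
    (h : b ∉ Submodule.span F ({a} : Set (Fin n → F))) (h' : b' ∉ Submodule.span F ({a'} : Set (Fin n → F))) :
    ∃ g ∈ specialLinear (Fin n) F, (g : Matrix (Fin n) (Fin n) F) *ᵥ a = a' ∧ (g : Matrix (Fin n) (Fin n) F) *ᵥ b = b' := by
  obtain ⟨g, hg, e⟩ := H831.Rl.sl_trans hn ha ha'
  obtain ⟨x, hx, e'⟩ := H831.Rl.vstab_trans hn (v := a') (w := (g : Matrix (Fin n) (Fin n) F) *ᵥ b) (fun k => h (by
    have := span_mv g⁻¹ k
    rwa [inv_mv, ← e, inv_mv] at this)) h'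
  exact ⟨x * g, Subgroup.mul_mem _ hx.1 hg, by rw [mul_mv, e, hx.2], by rw [mul_mv, e']⟩

theorem Pd2.tr [Fintype F] (h : Pd2 X Y) (hn : 3 ≤ n) : Tr X ∨ Tr Y := by
  by_contra hcon
  unfold Tr at hcon
  push Not at hcon
  obtain ⟨⟨v, w, hv, hw, h1⟩, v', w', hv', hw', h2⟩ := hcon
  have hwD : w ∉ cone X v := fun ⟨_, x, hx, c, e⟩ => h1 x hx c e
  have hwE : w' ∉ cone Y v' := fun ⟨_, x, hx, c, e⟩ => h2 x hx c e
  have hself : ∀ (Z : Subgroup (GL (Fin n) F)) (u : Fin n → F), u ≠ 0 → u ∈ cone Z u := fun Z u hu =>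
    ⟨hu, 1, Z.one_mem, 1, by rw [Units.val_one, one_mulVec, one_smul]⟩
  refine two_aux (G := specialLinear (Fin n) F) (fun g u => ((g : GL (Fin n) F) : Matrix (Fin n) (Fin n) F) *ᵥ u)
    (fun g k u => mul_mv _ _ u) {u | u ≠ 0} (cone X v) (cone Y v')
    (fun a b => b ∈ Submodule.span F ({a} : Set (Fin n → F))) (fun _ hu => hu.1) (fun a ha a' ha' => ?_)
    (fun a ha b _ a' ha' b' _ k k' => ?_) (fun g a b hb k k' => cone_smul hv' k' (mv_ne _ hb) (span_mv _ k))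
    (c := {b | b ∈ cone X v ∧ b ∈ cone Y v'}.ncard) (fun g => ?_) (hself X v hv) hw
    (fun b hb k => hwD (cone_smul hv hb hw (span_symm hb.1 k))) (hself Y v' hv') hv' hw' hwE
    fun k => hwE (cone_smul hv' (hself Y v' hv') hw' k)
  · obtain ⟨g, hg, e⟩ := H831.Rl.sl_trans hn ha ha'
    exact ⟨⟨g, hg⟩, e⟩
  · obtain ⟨g, hg, e⟩ := sl_two hn ha ha' k k'
    exact ⟨⟨g, hg⟩, e⟩
  · obtain ⟨y, hy, x, hx, e⟩ := h.symm.mul g g.2
    refine Set.ncard_congr (fun b _ => (x : Matrix (Fin n) (Fin n) F) *ᵥ b) (fun b hb => ⟨cone_mv hx hb.1, ?_⟩)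
      (fun a b _ _ k => mv_inj x k) fun b hb => ⟨((x⁻¹ : GL (Fin n) F) : Matrix (Fin n) (Fin n) F) *ᵥ b,
        ⟨cone_mv (X.inv_mem hx) hb.1, ?_⟩, mv_inv x b⟩
    · have := cone_mv (Y.inv_mem hy) hb.2
      rwa [e, mul_mv, inv_mv] at this
    · show ((g : GL (Fin n) F) : Matrix (Fin n) (Fin n) F) *ᵥ _ ∈ _
      rw [e, mul_mv, mv_inv]
      exact cone_mv hy hb.2

end Cfsg.Agent.SM.L
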