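import Cfsg.Agent.SM.L.MF
import Cfsg.Agent.S5642

/-!
# SM/L: the automorphisms `Tw` permute the stabilisers of points and hyperplanes and the symplectic groups (helper18)

* `stP`, `stH`, `spG`, `hull R` (the elements of `SL` that fix all the points and hyperplanes fixed by `R`)
* `Tw.point`, `Tw.hyp`, `Tw.sym`, `Tw.sl`, `Tw.injective`;  `Tw.hull`, `Tw.sim`
-/

set_option autoImplicit false
set_option linter.unusedSectionVars false

namespace Cfsg.Agent.SM.L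

open Cfsg Cfsg.Geo Matrix
open Cfsg.Agent.H199.PslAut
open scoped MatrixGroups

variable {n : ℕ} {F : Type} [Field F]

theorem inv_mv (a : GL (Fin n) F) (w : Fin n → F) :
    ((a⁻¹ : GL (Fin n) F) : Matrix (Fin n) (Fin n) F) *ᵥ ((a : Matrix (Fin n) (Fin n) F) *ᵥ w) = w := by
  rw [mulVec_mulVec, ← Units.val_mul, inv_mul_cancel, Units.val_one, one_mulVec]

theorem mv_inv (a : GL (Fin n) F) (w : Fin n → F) :
    (a : Matrix (Fin n) (Fin n) F) *ᵥ (((a⁻¹ : GL (Fin n) F) : Matrix (Fin n) (Fin n) F) *ᵥ w) = w := by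
  rw [mulVec_mulVec, ← Units.val_mul, mul_inv_cancel, Units.val_one, one_mulVec]

theorem mul_mv (a b : GL (Fin n) F) (w : Fin n → F) :
    ((a * b : GL (Fin n) F) : Matrix (Fin n) (Fin n) F) *ᵥ w =
      (a : Matrix (Fin n) (Fin n) F) *ᵥ ((b : Matrix (Fin n) (Fin n) F) *ᵥ w) := by
  rw [Units.val_mul, mulVec_mulVec]

theorem mv_ne (a : GL (Fin n) F) {w : Fin n → F} (hw : w ≠ 0) : (a : Matrix (Fin n) (Fin n) F) *ᵥ w ≠ 0 := fun h =>
  hw (by rw [← inv_mv a w, h, mulVec_zero])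

theorem mv_inj (a : GL (Fin n) F) {u w : Fin n → F}
    (h : (a : Matrix (Fin n) (Fin n) F) *ᵥ u = (a : Matrix (Fin n) (Fin n) F) *ᵥ w) : u = w := by
  rw [← inv_mv a u, h, inv_mv]

theorem FixP.one (v : Fin n → F) : FixP 1 v := ⟨1, by rw [Units.val_one, one_mulVec, one_smul]⟩

theorem FixP.mul {x y : GL (Fin n) F} {v : Fin n → F} (hx : FixP x v) (hy : FixP y v) : FixP (x * y) v := by
  obtain ⟨c, hc⟩ := hx
  obtain ⟨d, hd⟩ := hy
  exact ⟨d * c, by rw [mul_mv, hd, mulVec_smul, hc, smul_smul]⟩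

theorem FixP.inv {x : GL (Fin n) F} {v : Fin n → F} (hx : FixP x v) : FixP x⁻¹ v := by
  obtain ⟨c, hc⟩ := hx
  by_cases hv : v = 0
  · exact ⟨0, by rw [hv, mulVec_zero, smul_zero]⟩
  have h0 : c ≠ 0 := by
    rintro rfl
    rw [zero_smul] at hc
    exact mv_ne x hv hc
  refine ⟨c⁻¹, mv_inj x ?_⟩
  rw [mv_inv, mulVec_smul, hc, smul_smul, inv_mul_cancel₀ h0, one_smul]

theorem fixP_inv {x : GL (Fin n) F} {v : Fin n → F} : FixP x⁻¹ v ↔ FixP x v :=
  ⟨fun h => inv_inv x ▸ h.inv, FixP.inv⟩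

theorem FixP.smul {x : GL (Fin n) F} {v : Fin n → F} (hx : FixP x v) (d : F) : FixP x (d • v) := by
  obtain ⟨c, hc⟩ := hx
  exact ⟨c, by rw [mulVec_smul, hc, smul_comm]⟩

theorem FixP.of_scal {z : GL (Fin n) F} (hz : z ∈ scalars (Fin n) F) (v : Fin n → F) : FixP z v := by
  obtain ⟨c, hc⟩ := (mem_scalars_iff z).1 hz
  exact ⟨c, by rw [hc, smul_mulVec, one_mulVec]⟩

theorem fixH_iff {x : GL (Fin n) F} {φ : Fin n → F} : FixH x φ ↔ FixP (itGL x) φ := by
  rw [← fixP_inv]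
  unfold FixH FixP
  rw [coe_itGL_inv, mulVec_transpose]

theorem fixP_iff {x : GL (Fin n) F} {φ : Fin n → F} : FixP x φ ↔ FixH (itGL x) φ := by
  rw [fixH_iff, itGL_itGL]

theorem FixH.one (v : Fin n → F) : FixH 1 v := by rw [fixH_iff, map_one]; exact FixP.one v

theorem FixH.mul {x y : GL (Fin n) F} {v : Fin n → F} (hx : FixH x v) (hy : FixH y v) : FixH (x * y) v := by
  rw [fixH_iff] at hx hy ⊢
  rw [map_mul]
  exact hx.mul hy

theorem FixH.inv {x : GL (Fin n) F} {v : Fin n → F} (hx : FixH x v) : FixH x⁻¹ v := by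
  rw [fixH_iff] at hx ⊢
  rw [map_inv]
  exact hx.inv

theorem FixH.smul {x : GL (Fin n) F} {v : Fin n → F} (hx : FixH x v) (d : F) : FixH x (d • v) :=
  fixH_iff.2 ((fixH_iff.1 hx).smul d)

theorem FixH.of_scal {z : GL (Fin n) F} (hz : z ∈ scalars (Fin n) F) (v : Fin n → F) : FixH z v := by
  obtain ⟨c, hc⟩ := (mem_scalars_iff z).1 hz
  exact ⟨c, by rw [hc, vecMul_smul, vecMul_one]⟩

/-- the stabiliser of a point in `GL` -/
def stP (v : Fin n → F) : Subgroup (GL (Fin n) F) where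
  carrier := {x | FixP x v}
  one_mem' := FixP.one v
  mul_mem' := FixP.mul
  inv_mem' := FixP.inv

/-- the stabiliser of a hyperplane in `GL` -/
def stH (φ : Fin n → F) : Subgroup (GL (Fin n) F) where
  carrier := {x | FixH x φ}
  one_mem' := FixH.one φ
  mul_mem' := FixH.mul
  inv_mem' := FixH.inv

/-- the isometry group -/
def spG (f : (Fin n → F) → (Fin n → F) → F) : Subgroup (GL (Fin n) F) where
  carrier := {x | Iso f x}
  one_mem' := fun u w => by rw [Units.val_one, one_mulVec, one_mulVec]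
  mul_mem' := fun {x y} hx hy u w => by rw [mul_mv, mul_mv, hx, hy]
  inv_mem' := fun {x} hx u w => by rw [← hx, mv_inv, mv_inv]

theorem spG_le (f : (Fin n → F) → (Fin n → F) → F) : spG f ≤ similarityGroup f := fun x hx =>
  ⟨1, fun u w => by rw [hx, Units.val_one, one_mul]⟩

/-- the elements of `SL` that fix all the points and hyperplanes fixed by `R` -/
def hull (R : Subgroup (GL (Fin n) F)) : Subgroup (GL (Fin n) F) where
  carrier := {x | x ∈ specialLinear (Fin n) F ∧ (∀ v, (∀ y ∈ R, FixP y v) → FixP x v) ∧ ∀ φ, (∀ y ∈ R, FixH y φ) → FixH x φ}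
  one_mem' := ⟨Subgroup.one_mem _, fun v _ => FixP.one v, fun v _ => FixH.one v⟩
  mul_mem' := fun hx hy => ⟨Subgroup.mul_mem _ hx.1 hy.1, fun v hv => (hx.2.1 v hv).mul (hy.2.1 v hv),
    fun v hv => (hx.2.2 v hv).mul (hy.2.2 v hv)⟩
  inv_mem' := fun hx => ⟨Subgroup.inv_mem _ hx.1, fun v hv => (hx.2.1 v hv).inv, fun v hv => (hx.2.2 v hv).inv⟩

theorem le_hull {R : Subgroup (GL (Fin n) F)} (h : R ≤ specialLinear (Fin n) F) : R ≤ hull R := fun x hx =>
  ⟨h hx, fun _ hv => hv x hx, fun _ hv => hv x hx⟩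

theorem z_le_hull (R : Subgroup (GL (Fin n) F)) : scalars (Fin n) F ⊓ specialLinear (Fin n) F ≤ hull R := fun _ hx =>
  ⟨hx.2, fun v _ => FixP.of_scal hx.1 v, fun v _ => FixH.of_scal hx.1 v⟩

/-! ### the three kinds of automorphisms -/

theorem fixP_conj (a x : GL (Fin n) F) (v : Fin n → F) :
    FixP (a * x * a⁻¹) v ↔ FixP x (((a⁻¹ : GL (Fin n) F) : Matrix (Fin n) (Fin n) F) *ᵥ v) := by
  unfold FixP
  refine exists_congr fun c => ?_
  rw [mul_mv, mul_mv]
  constructor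
  · intro h
    apply mv_inj a
    rw [h, mulVec_smul, mv_inv]
  · intro h
    rw [h, mulVec_smul, mv_inv]

theorem map_mv (σ : F ≃+* F) (a : GL (Fin n) F) (w : Fin n → F) :
    (mapGL σ a : Matrix (Fin n) (Fin n) F) *ᵥ (fun i => σ (w i)) = fun i => σ (((a : Matrix (Fin n) (Fin n) F) *ᵥ w) i) := by
  funext i
  exact (RingHom.map_mulVec (σ : F →+* F) _ w i).symm

theorem fixP_map (σ : F ≃+* F) (x : GL (Fin n) F) (v : Fin n → F) :
    FixP (mapGL σ x) v ↔ FixP x fun i => σ.symm (v i) := by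
  have h0 : v = fun i => σ ((fun i => σ.symm (v i)) i) := funext fun i => (σ.apply_symm_apply _).symm
  unfold FixP
  constructor
  · rintro ⟨c, hc⟩
    refine ⟨σ.symm c, funext fun i => σ.injective ?_⟩
    rw [h0, map_mv] at hc
    rw [congrFun hc i]
    simp
  · rintro ⟨c, hc⟩
    refine ⟨σ c, ?_⟩
    conv_lhs => rw [h0, map_mv, hc]
    funext i
    simp

theorem itGL_mapGL (σ : F ≃+* F) (x : GL (Fin n) F) : itGL (mapGL σ x) = mapGL σ (itGL x) := by
  apply Units.ext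
  rw [coe_itGL, ← map_inv, coe_mapGL, coe_mapGL, coe_itGL]
  rfl

theorem Tw.it {τ : GL (Fin n) F →* GL (Fin n) F} (h : Tw τ) : Tw (itGL.comp τ) := by
  obtain ⟨a, σ, h | h⟩ := h
  · refine ⟨itGL a, σ, Or.inr fun x => ?_⟩
    rw [MonoidHom.comp_apply, h, map_mul, map_mul, map_inv, itGL_mapGL]
  · refine ⟨itGL a, σ, Or.inl fun x => ?_⟩
    rw [MonoidHom.comp_apply, h, map_mul, map_mul, map_inv, itGL_mapGL, itGL_itGL]

theorem tw_it : Tw (itGL : GL (Fin n) F →* GL (Fin n) F) :=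
  ⟨1, RingEquiv.refl F, Or.inr fun x => by
    rw [one_mul, inv_one, mul_one]
    exact Units.ext (by ext i j; rfl)⟩

theorem Tw.point {τ : GL (Fin n) F →* GL (Fin n) F} (h : Tw τ) (v : Fin n → F) :
    ∃ w : Fin n → F, (∀ x, FixP (τ x) v ↔ FixP x w) ∨ ∀ x, FixP (τ x) v ↔ FixH x w := by
  obtain ⟨a, σ, h | h⟩ := h
  · exact ⟨_, Or.inl fun x => by rw [h, fixP_conj, fixP_map]⟩
  · exact ⟨_, Or.inr fun x => by rw [h, fixP_conj, fixP_map, fixH_iff]⟩

theorem Tw.hyp {τ : GL (Fin n) F →* GL (Fin n) F} (h : Tw τ) (v : Fin n → F) :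
    ∃ w : Fin n → F, (∀ x, FixH (τ x) v ↔ FixP x w) ∨ ∀ x, FixH (τ x) v ↔ FixH x w := by
  obtain ⟨w, hw⟩ := h.it.point v
  refine ⟨w, ?_⟩
  simp only [fixH_iff (x := τ _)]
  exact hw

theorem it_sl (x : GL (Fin n) F) : itGL x ∈ specialLinear (Fin n) F ↔ x ∈ specialLinear (Fin n) F := by
  rw [mem_sl (x := itGL x), coe_itGL, det_transpose, ← mem_sl, inv_mem_iff]

theorem Tw.sl {τ : GL (Fin n) F →* GL (Fin n) F} (h : Tw τ) (x : GL (Fin n) F) :
    τ x ∈ specialLinear (Fin n) F ↔ x ∈ specialLinear (Fin n) F := by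
  have hd : ∀ (a : GL (Fin n) F) (σ : F ≃+* F) (x : GL (Fin n) F),
      a * mapGL σ x * a⁻¹ ∈ specialLinear (Fin n) F ↔ x ∈ specialLinear (Fin n) F := by
    intro a σ x
    rw [mem_sl, mem_sl, Units.val_mul, Units.val_mul, det_mul, det_mul, mul_comm, ← mul_assoc, ← det_mul, ← Units.val_mul,
      inv_mul_cancel, Units.val_one, det_one, one_mul, coe_mapGL]
    have h1 : ((x : Matrix (Fin n) (Fin n) F).map σ).det = σ (x : Matrix (Fin n) (Fin n) F).det :=
      (RingEquiv.map_det σ _).symm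
    rw [h1]
    exact ⟨fun h => σ.injective (by rw [h, map_one]), fun h => by rw [h, map_one]⟩
  obtain ⟨a, σ, h | h⟩ := h
  · rw [h, hd]
  · rw [h, hd, it_sl]

theorem mapGL_inj (σ : F ≃+* F) : Function.Injective (mapGL σ : GL (Fin n) F →* GL (Fin n) F) := fun x y h => by
  apply Units.ext
  ext i j
  have h1 : (mapGL σ x : Matrix (Fin n) (Fin n) F) = (mapGL σ y : Matrix (Fin n) (Fin n) F) := by rw [h]
  exact σ.injective (congrFun (congrFun h1 i) j)

theorem itGL_inj : Function.Injective (itGL : GL (Fin n) F →* GL (Fin n) F) := fun x y h => by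
  rw [← itGL_itGL x, h, itGL_itGL]

theorem Tw.injective {τ : GL (Fin n) F →* GL (Fin n) F} (h : Tw τ) : Function.Injective τ := by
  obtain ⟨a, σ, h | h⟩ := h
  · intro x y e
    rw [h, h] at e
    exact mapGL_inj σ (mul_left_cancel (mul_right_cancel e))
  · intro x y e
    rw [h, h] at e
    exact itGL_inj (mapGL_inj σ (mul_left_cancel (mul_right_cancel e)))

theorem Tw.hull {τ : GL (Fin n) F →* GL (Fin n) F} (h : Tw τ) {R : Subgroup (GL (Fin n) F)} (hR : ∀ y ∈ R, τ y ∈ R) :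
    ∀ x ∈ hull R, τ x ∈ hull R := by
  intro x hx
  refine ⟨(h.sl x).2 hx.1, fun v hv => ?_, fun v hv => ?_⟩
  · obtain ⟨w, k | k⟩ := h.point v
    · exact (k x).2 (hx.2.1 w fun y hy => (k y).1 (hv _ (hR y hy)))
    · exact (k x).2 (hx.2.2 w fun y hy => (k y).1 (hv _ (hR y hy)))
  · obtain ⟨w, k | k⟩ := h.hyp v
    · exact (k x).2 (hx.2.1 w fun y hy => (k y).1 (hv _ (hR y hy)))
    · exact (k x).2 (hx.2.2 w fun y hy => (k y).1 (hv _ (hR y hy)))

/-! ### symplectic forms -/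

section forms

variable {f : (Fin n → F) → (Fin n → F) → F}

theorem sym_pull (hf : IsSymplecticForm f) (a : GL (Fin n) F) :
    IsSymplecticForm fun u w => f ((a : Matrix (Fin n) (Fin n) F) *ᵥ u) ((a : Matrix (Fin n) (Fin n) F) *ᵥ w) := by
  refine ⟨⟨fun x y v => ?_, fun c x v => ?_, fun v x y => ?_, fun c v x => ?_⟩, fun v w => hf.skew _ _,
    fun v => hf.alternating _, fun v hv => ?_⟩
  · rw [mulVec_add, hf.bilinear.add_left]
  · rw [mulVec_smul, hf.bilinear.smul_left]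
  · rw [mulVec_add, hf.bilinear.add_right]
  · rw [mulVec_smul, hf.bilinear.smul_right]
  · obtain ⟨⟨x, hx⟩, y, hy⟩ := hf.nondegenerate _ (mv_ne a hv)
    exact ⟨⟨((a⁻¹ : GL (Fin n) F) : Matrix (Fin n) (Fin n) F) *ᵥ x, by rwa [mv_inv]⟩,
      ((a⁻¹ : GL (Fin n) F) : Matrix (Fin n) (Fin n) F) *ᵥ y, by rwa [mv_inv]⟩

theorem sim_conj (a x : GL (Fin n) F) : a * x * a⁻¹ ∈ similarityGroup f ↔
    x ∈ similarityGroup fun u w => f ((a : Matrix (Fin n) (Fin n) F) *ᵥ u) ((a : Matrix (Fin n) (Fin n) F) *ᵥ w) := by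
  refine exists_congr fun c => ⟨fun h u w => ?_, fun h u w => ?_⟩
  · rw [← h, mul_mv, mul_mv, mul_mv, mul_mv, inv_mv, inv_mv]
  · have h1 := h (((a⁻¹ : GL (Fin n) F) : Matrix (Fin n) (Fin n) F) *ᵥ u) (((a⁻¹ : GL (Fin n) F) : Matrix (Fin n) (Fin n) F) *ᵥ w)
    simp only [mv_inv] at h1
    rw [mul_mv, mul_mv, mul_mv, mul_mv]
    exact h1

theorem sym_map (hf : IsSymplecticForm f) (σ : F ≃+* F) :
    IsSymplecticForm fun u w : Fin n → F => σ.symm (f (fun i => σ (u i)) fun i => σ (w i)) := by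
  have h1 : ∀ x y : Fin n → F, (fun i => σ ((x + y) i)) = (fun i => σ (x i)) + fun i => σ (y i) := fun x y =>
    funext fun i => map_add σ _ _
  have h2 : ∀ (c : F) (x : Fin n → F), (fun i => σ ((c • x) i)) = σ c • fun i => σ (x i) := fun c x =>
    funext fun i => map_mul σ _ _
  have h3 : ∀ x : Fin n → F, (fun i => σ ((fun i => σ.symm (x i)) i)) = x := fun x =>
    funext fun i => σ.apply_symm_apply _
  refine ⟨⟨fun x y v => ?_, fun c x v => ?_, fun v x y => ?_, fun c v x => ?_⟩, fun v w => ?_, fun v => ?_, fun v hv => ?_⟩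
  · rw [h1, hf.bilinear.add_left, map_add]
  · rw [h2, hf.bilinear.smul_left, map_mul, σ.symm_apply_apply]
  · rw [h1, hf.bilinear.add_right, map_add]
  · rw [h2, hf.bilinear.smul_right, map_mul, σ.symm_apply_apply]
  · rw [hf.skew, map_neg]
  · rw [hf.alternating, map_zero]
  · have h4 : (fun i => σ (v i)) ≠ 0 := fun h => hv (funext fun i => σ.injective (by rw [congrFun h i]; simp))
    obtain ⟨⟨x, hx⟩, y, hy⟩ := hf.nondegenerate _ h4
    exact ⟨⟨fun i => σ.symm (x i), by rw [h3]; simpa using hx⟩, fun i => σ.symm (y i), by rw [h3]; simpa using hy⟩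

theorem sim_map (σ : F ≃+* F) (x : GL (Fin n) F) : mapGL σ x ∈ similarityGroup f ↔
    x ∈ similarityGroup fun u w : Fin n → F => σ.symm (f (fun i => σ (u i)) fun i => σ (w i)) := by
  have h3 : ∀ x : Fin n → F, (fun i => σ ((fun i => σ.symm (x i)) i)) = x := fun x =>
    funext fun i => σ.apply_symm_apply _
  constructor
  · rintro ⟨c, hc⟩
    refine ⟨Units.map (σ.symm : F →* F) c, fun u w => ?_⟩
    show σ.symm (f _ _) = σ.symm c * _
    rw [← map_mv, ← map_mv, hc, map_mul]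
  · rintro ⟨c, hc⟩
    refine ⟨Units.map (σ : F →* F) c, fun u w => ?_⟩
    have h1 := congrArg σ (hc (fun i => σ.symm (u i)) fun i => σ.symm (w i))
    rw [σ.apply_symm_apply, map_mul, σ.apply_symm_apply, ← map_mv, ← map_mv, h3, h3] at h1
    exact h1

/-- the Gram matrix -/
theorem exists_gram (hf : IsSymplecticForm f) :
    ∃ G : GL (Fin n) F, ∀ u w, f u w = ((G : Matrix (Fin n) (Fin n) F) *ᵥ u) ⬝ᵥ w := by
  let A : Matrix (Fin n) (Fin n) F := Matrix.of fun j i => f (Pi.single i 1) (Pi.single j 1)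
  have h1 : ∀ u, A *ᵥ u = S5642.rep f u := by
    intro u
    funext j
    have h2 := S5642.rep_dot hf.bilinear (Pi.single j 1) u
    change _ = f u (Pi.single j 1)
    rw [hf.skew, ← h2, ← neg_dotProduct]
    change (fun i => f (Pi.single i 1) (Pi.single j 1)) ⬝ᵥ u = _
    congr 1
    funext i
    exact hf.skew _ _
  have h2 : IsUnit A := by
    rw [← Matrix.mulVec_injective_iff_isUnit]
    intro u w h
    by_contra hne
    obtain ⟨-, y, hy⟩ := hf.nondegenerate (u - w) (sub_ne_zero.2 hne)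
    apply hy
    rw [← S5642.rep_dot hf.bilinear, ← h1, mulVec_sub, h, sub_self, zero_dotProduct]
  refine ⟨h2.unit, fun u w => ?_⟩
  rw [IsUnit.unit_spec, h1, S5642.rep_dot hf.bilinear]

theorem it_dot (x : GL (Fin n) F) (u w : Fin n → F) :
    ((itGL x : GL (Fin n) F) : Matrix (Fin n) (Fin n) F) *ᵥ u ⬝ᵥ ((x : Matrix (Fin n) (Fin n) F) *ᵥ w) = u ⬝ᵥ w := by
  rw [coe_itGL, mulVec_transpose, ← dotProduct_mulVec, inv_mv]

/-- similarities in terms of the Gram matrix -/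
theorem sim_iff {G : GL (Fin n) F} (hG : ∀ u w, f u w = ((G : Matrix (Fin n) (Fin n) F) *ᵥ u) ⬝ᵥ w) (x : GL (Fin n) F) :
    x ∈ similarityGroup f ↔ ∃ c : Fˣ, ∀ u, (G : Matrix (Fin n) (Fin n) F) *ᵥ ((x : Matrix (Fin n) (Fin n) F) *ᵥ u) =
      (c : F) • ((itGL x : GL (Fin n) F) : Matrix (Fin n) (Fin n) F) *ᵥ ((G : Matrix (Fin n) (Fin n) F) *ᵥ u) := by
  refine exists_congr fun c => ⟨fun h u => ?_, fun h u w => ?_⟩
  · refine dotProduct_eq _ _ fun w => ?_
    rw [← mv_inv x w, ← hG, h, hG, smul_dotProduct, it_dot, smul_eq_mul]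
  · rw [hG, hG, h, smul_dotProduct, it_dot, smul_eq_mul]

theorem sim_it (hf : IsSymplecticForm f) : ∃ f' : (Fin n → F) → (Fin n → F) → F, IsSymplecticForm f' ∧
    ∀ x : GL (Fin n) F, itGL x ∈ similarityGroup f ↔ x ∈ similarityGroup f' := by
  obtain ⟨G, hG⟩ := exists_gram hf
  refine ⟨_, sym_pull hf G⁻¹, fun x => ?_⟩
  rw [← sim_conj, inv_inv]
  have key : ∀ y : GL (Fin n) F, y ∈ similarityGroup f → G⁻¹ * itGL y * G ∈ similarityGroup f := by
    intro y hy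
    obtain ⟨c, hc⟩ := (sim_iff hG y).1 hy
    obtain ⟨d, hd⟩ := hy
    have h1 : ∀ u, ((G⁻¹ * itGL y * G : GL (Fin n) F) : Matrix (Fin n) (Fin n) F) *ᵥ u =
        ((c⁻¹ : Fˣ) : F) • (y : Matrix (Fin n) (Fin n) F) *ᵥ u := by
      intro u
      apply mv_inj G
      rw [mul_mv, mul_mv, mv_inv, mulVec_smul, hc, smul_smul, Units.inv_mul, one_smul]
    refine ⟨c⁻¹ * c⁻¹ * d, fun u w => ?_⟩
    rw [h1, h1, hf.bilinear.smul_left, hf.bilinear.smul_right, hd, Units.val_mul, Units.val_mul]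
    ring
  refine ⟨fun h => by simpa [itGL_itGL] using key _ h, fun h => ?_⟩
  obtain ⟨c, hc⟩ := (sim_iff hG _).1 h
  obtain ⟨d, hd⟩ := h
  -- `G ᵀ = - G`
  have hT : ∀ u, ((itGL G : GL (Fin n) F) : Matrix (Fin n) (Fin n) F) *ᵥ u =
      -(((G⁻¹ : GL (Fin n) F) : Matrix (Fin n) (Fin n) F) *ᵥ u) := by
    intro u
    refine dotProduct_eq _ _ fun w => ?_
    rw [← mv_inv G w, it_dot, neg_dotProduct, dotProduct_comm _ ((G : Matrix (Fin n) (Fin n) F) *ᵥ _), ← hG, ← hf.skew, hG, mv_inv]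
  have hT' : ∀ u, (((itGL G)⁻¹ : GL (Fin n) F) : Matrix (Fin n) (Fin n) F) *ᵥ u = -((G : Matrix (Fin n) (Fin n) F) *ᵥ u) := by
    intro u
    apply mv_inj (itGL G)
    rw [mv_inv, hT, mulVec_neg, inv_mv, neg_neg]
  have h1 : ∀ u, ((itGL x : GL (Fin n) F) : Matrix (Fin n) (Fin n) F) *ᵥ u =
      ((c⁻¹ : Fˣ) : F) • ((G⁻¹ * x * G : GL (Fin n) F) : Matrix (Fin n) (Fin n) F) *ᵥ u := by
    intro u
    apply mv_inj G
    rw [mulVec_smul, hc, smul_smul, Units.inv_mul, one_smul, map_mul, map_mul, map_inv, mul_mv, mul_mv, hT, hT', inv_mv,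
      mulVec_neg, mulVec_neg, neg_neg]
  refine ⟨c⁻¹ * c⁻¹ * d, fun u w => ?_⟩
  rw [h1, h1, hf.bilinear.smul_left, hf.bilinear.smul_right, hd, Units.val_mul, Units.val_mul]
  ring

theorem Tw.sym {τ : GL (Fin n) F →* GL (Fin n) F} (h : Tw τ) (hf : IsSymplecticForm f) :
    ∃ f' : (Fin n → F) → (Fin n → F) → F, IsSymplecticForm f' ∧ ∀ x, τ x ∈ similarityGroup f ↔ x ∈ similarityGroup f' := by
  obtain ⟨a, σ, h | h⟩ := h
  · exact ⟨_, sym_map (sym_pull hf a) σ, fun x => by rw [h, sim_conj, sim_map]⟩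
  · obtain ⟨f', h1, h2⟩ := sim_it (sym_map (sym_pull hf a) σ)
    exact ⟨f', h1, fun x => by rw [h, sim_conj, sim_map, h2]⟩

theorem sim_le_of_prop {f' : (Fin n → F) → (Fin n → F) → F} {c : F} (h : ∀ u w, f' u w = c * f u w) :
    similarityGroup f ≤ similarityGroup f' := by
  rintro x ⟨d, hd⟩
  exact ⟨d, fun u w => by rw [h, h, hd]; ring⟩

/-- the similarity group of the unique invariant form is invariant -/
theorem Tw.sim [Fintype F] (hU : BoxU) {τ : GL (Fin n) F →* GL (Fin n) F} (h : Tw τ) {R : Subgroup (GL (Fin n) F)}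
    (hR : ∀ y ∈ R, τ y ∈ R) (ht : Tr R) (he : ¬ Ext R) (hf : IsSymplecticForm f) (hle : R ≤ similarityGroup f) :
    ∀ x ∈ similarityGroup f ⊓ specialLinear (Fin n) F, τ x ∈ similarityGroup f ⊓ specialLinear (Fin n) F := by
  obtain ⟨f', h1, h2⟩ := h.sym hf
  obtain ⟨c, hc⟩ := hU F n R f f' ht he hf h1 hle fun y hy => (h2 y).1 (hle (hR y hy))
  exact fun x hx => ⟨(h2 x).2 (sim_le_of_prop hc hx.1), (h.sl x).2 hx.2⟩

end forms

end Cfsg.Agent.SM.L
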